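import Groth.Prelude.Def_ModelsG
import Groth.Agent.ArSurfBase.Topo
import Groth.Agent.ArSurfBase.Inter
import Groth.Agent.DimFormula.Criteria
import Groth.Agent.FibDim.LocDim
import Groth.Agent.FibDim.BaseField
import Groth.Agent.RegLoc6.Basic

/-!
# Regular models of curves over a discrete valuation ring
-/

set_option autoImplicit false
set_option linter.style.haveILetI false

universe u

open CategoryTheory CategoryTheory.Limits AlgebraicGeometry IsLocalRing

namespace Groth.Agent.MdlSurf

variable {R : Type u} [CommRing R] [IsDomain R] [IsDiscreteValuationRing R]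
  {C X : Scheme.{u}} {f : C ⟶ Spec (CommRingCat.of (FractionRing R))} {p : X ⟶ Spec (CommRingCat.of R)}

instance isPreimmersion_generic : IsPreimmersion (Spec.map (CommRingCat.ofHom (algebraMap R (FractionRing R)))) :=
  IsPreimmersion.of_isLocalization (nonZeroDivisors R)

/-- The inclusion of the generic fibre. -/
theorem exists_genericFibre (hM : Models.IsModel R X p C f) :
    ∃ g : C ⟶ X, g ≫ p = f ≫ Spec.map (CommRingCat.ofHom (algebraMap R (FractionRing R))) ∧
      Topology.IsEmbedding g.base ∧ Set.range g.base = {x : X | (p.base x).asIdeal = ⊥} := by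
  obtain ⟨g, hg⟩ := hM.2.2.2
  have he : IsPreimmersion g := MorphismProperty.of_isPullback hg.flip inferInstance
  refine ⟨g, hg.w, g.isEmbedding, ?_⟩
  have h1 : Set.range g.base = p.base ⁻¹' Set.range (Spec.map (CommRingCat.ofHom (algebraMap R (FractionRing R)))).base := by
    rw [← Scheme.Pullback.range_fst, ← hg.isoPullback_hom_fst]
    simp only [Scheme.Hom.comp_base, TopCat.coe_comp]
    exact hg.isoPullback.hom.homeomorph.surjective.range_comp _
  rw [h1]
  ext x
  refine ⟨fun ⟨t, ht⟩ => ?_, fun hx => ⟨⟨⊥, Ideal.isPrime_bot⟩, ?_⟩⟩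
  · show (p.base x).asIdeal = ⊥
    rw [← ht]
    show Ideal.comap (algebraMap R (FractionRing R)) t.asIdeal = ⊥
    rw [(Ideal.eq_bot_or_top t.asIdeal).resolve_right t.isPrime.ne_top,
      ← RingHom.ker_eq_comap_bot, (RingHom.injective_iff_ker_eq_bot _).1 (IsFractionRing.injective R (FractionRing R))]
  · refine PrimeSpectrum.ext ?_
    show Ideal.comap (algebraMap R (FractionRing R)) ⊥ = _
    rw [← RingHom.ker_eq_comap_bot, (RingHom.injective_iff_ker_eq_bot _).1 (IsFractionRing.injective R (FractionRing R))]
    exact hx.symm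

theorem isLocallyNoetherian (hM : Models.IsModel R X p C f) : IsLocallyNoetherian X :=
  haveI := hM.2.1
  LocallyOfFiniteType.isLocallyNoetherian p

/-- A regular model of an integral curve is integral. -/
theorem isIntegral (hC : Curve.IsSmoothProperCurve (FractionRing R) C f) (hM : Models.IsModel R X p C f)
    (hreg : ∀ x : X, IsRegularLocalRing (X.presheaf.stalk x)) : IsIntegral X := by
  haveI := hC.2.2.1
  haveI := hM.1
  obtain ⟨g, -, -, hg⟩ := exists_genericFibre hM
  have hdense : closure ({g.base (genericPoint C)} : Set X) = Set.univ := Set.eq_univ_of_forall fun x => by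
    obtain ⟨y, hy, hpy⟩ := Flat.generalizingMap p
      (show (⟨⊥, Ideal.isPrime_bot⟩ : PrimeSpectrum R) ⤳ p.base x from
        (PrimeSpectrum.le_iff_specializes _ _).1 bot_le)
    have hy' : y ∈ Set.range g.base := by
      rw [hg]; exact congrArg PrimeSpectrum.asIdeal hpy
    obtain ⟨c, rfl⟩ := hy'
    exact specializes_iff_mem_closure.1 ((((genericPoint_spec C).specializes (Set.mem_univ c)).map g.continuous).trans hy)
  haveI : IrreducibleSpace X :=
    { toPreirreducibleSpace := ⟨by rw [← hdense]; exact isIrreducible_singleton.closure.2⟩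
      toNonempty := ⟨g.base (genericPoint C)⟩ }
  haveI : ∀ x : X, _root_.IsReduced (X.presheaf.stalk x) := fun x =>
    haveI := hreg x
    haveI := RegLoc6.isDomain_of_isRegularLocalRing (X.presheaf.stalk x)
    inferInstance
  haveI := isReduced_of_isReduced_stalk X
  exact isIntegral_of_irreducibleSpace_of_isReduced X

theorem dim_le_two (hC : Curve.IsSmoothProperCurve (FractionRing R) C f) (hM : Models.IsModel R X p C f)
    [IsIntegral X] : topologicalKrullDim X ≤ 2 := by
  haveI := hC.2.2.1
  haveI := hM.1
  haveI := hM.2.1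
  haveI := isLocallyNoetherian hM
  obtain ⟨g, -, hge, hg⟩ := exists_genericFibre hM
  have hη : (p.base (genericPoint X)).asIdeal = ⊥ := ArSurfBase.asIdeal_eq_bot_genericPoint p
  let η : Spec (CommRingCat.of R) := p.base (genericPoint X)
  have hη' : η = genericPoint (Spec (CommRingCat.of R)) := by
    refine DimFormula.maximal_eq_genericPoint fun z hz => ?_
    refine PrimeSpectrum.ext ?_
    have h := (PrimeSpectrum.le_iff_specializes _ _).2 hz
    exact le_antisymm h (hη ▸ bot_le)
  haveI : IsDominant p := ⟨by
    rw [denseRange_iff_closure_range, Set.eq_univ_iff_forall]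
    intro y
    have h1 : ({genericPoint (Spec (CommRingCat.of R))} : Set (Spec (CommRingCat.of R))) ⊆ Set.range p :=
      Set.singleton_subset_iff.2 ⟨genericPoint X, hη'⟩
    refine closure_mono h1 ?_
    exact specializes_iff_mem_closure.1 ((genericPoint_spec _).specializes (Set.mem_univ y))⟩
  obtain ⟨-, hdim⟩ := DimFormula.generic_fibre_dim p
  have hrd : FibDim.rd p (genericPoint X) = 1 := by
    have hr : Set.range g.base = Set.range (p.fiberι (genericPoint (Spec (CommRingCat.of R)))).base := by
      rw [Scheme.Hom.range_fiberι, hg, ← hη']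
      ext x
      exact ⟨fun h => PrimeSpectrum.ext (h.trans hη.symm), fun h => (congrArg PrimeSpectrum.asIdeal h).trans hη⟩
    have he := ((hge.toHomeomorph.trans (Homeomorph.setCongr hr)).trans
      ((p.fiberι (genericPoint (Spec (CommRingCat.of R)))).isEmbedding.toHomeomorph.symm)).isHomeomorph
    have h1 := IsHomeomorph.topologicalKrullDim_eq _ he
    rw [hC.2.2.2, hdim] at h1
    exact_mod_cast h1.symm
  rw [FibDim.topologicalKrullDim_eq_iSup_codim]
  refine iSup_le fun x => ?_
  have h := (DimFormula.cd_formula p ((genericPoint_spec X).specializes (Set.mem_univ x))).1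
  rw [DimFormula.cd_eq_codim_of_irreducible, hrd] at h
  have h2 := DimFormula.cd_le_codim ((genericPoint_spec X).specializes (Set.mem_univ x) |>.map p.continuous)
  have h3 : DimFormula.codim (p.base x) ≤ 1 := by
    have h4 : ((DimFormula.codim (p.base x) : ℕ∞) : WithBot ℕ∞) ≤ topologicalKrullDim (Spec (CommRingCat.of R)) := by
      rw [FibDim.topologicalKrullDim_eq_iSup_codim]
      exact le_iSup (fun y : Spec (CommRingCat.of R) => ((DimFormula.codim y : ℕ∞) : WithBot ℕ∞)) _
    have h5 : topologicalKrullDim (Spec (CommRingCat.of R)) ≤ 1 := by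
      show topologicalKrullDim (PrimeSpectrum R) ≤ 1
      rw [PrimeSpectrum.topologicalKrullDim_eq_ringKrullDim]
      exact Order.KrullDimLE.krullDim_le
    exact_mod_cast h4.trans h5
  have : DimFormula.codim x ≤ 2 := by omega
  have h6 : ((DimFormula.codim x : ℕ∞) : WithBot ℕ∞) ≤ ((2 : ℕ) : ℕ∞) := by exact_mod_cast this
  exact h6

/-- The dimension is two as soon as there is a vertical curve. -/
theorem dim_eq_two (hC : Curve.IsSmoothProperCurve (FractionRing R) C f) (hM : Models.IsModel R X p C f)
    [IsIntegral X] (Γ : ArSurf.VertComp R (Over.mk p)) : topologicalKrullDim X = 2 := by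
  haveI := hM.1
  refine le_antisymm (dim_le_two hC hM) ?_
  have hpos : 0 < topologicalKrullDim Γ.curve.left := by rw [Γ.dim_eq]; exact one_pos
  obtain ⟨a, b, hab, hne⟩ := ArSurfBase.exists_specializes_ne_of_dim_pos hpos
  refine ArSurfBase.two_le_dim ((genericPoint_spec X).specializes (Set.mem_univ (Γ.ι.base a)))
    (ArSurfBase.ne_genericPoint p ?_) (hab.map Γ.ι.continuous) (fun h => hne (Γ.ι.isClosedEmbedding.injective h))
  have h := ArSurfBase.hom_base_eq_closedPoint Γ (show Γ.ι.base a ∈ ArSurfBase.supp Γ from ⟨a, rfl⟩)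
  intro h0
  have h1 : (closedPoint R).asIdeal = ⊥ := (congrArg PrimeSpectrum.asIdeal h).symm.trans h0
  exact IsDiscreteValuationRing.not_a_field R h1

end Groth.Agent.MdlSurf
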