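import Groth.Agent.MdlSurf.NumType
import Groth.Agent.S1297
import Groth.Agent.Lib.CurveDualPrep

/-!
# Global functions on divisors supported on the closed fibre: the chain of fields
-/

set_option autoImplicit false
set_option linter.style.haveILetI false
set_option linter.unusedSectionVars false
set_option backward.isDefEq.respectTransparency false
set_option backward.isDefEq.respectTransparency.types false

universe u

open CategoryTheory CategoryTheory.Limits AlgebraicGeometry IsLocalRing TopologicalSpace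
open Groth.Agent.PnCoh.Finite (mapLin)

noncomputable section

namespace Groth.Agent.MdlSurf

section Incl

variable {Y : Scheme.{u}} {I K : Y.IdealSheafData}

/-- Restriction `O/I ⟶ O/K` along the inclusion of closed subschemes. -/
def inclPush (h : I ≤ K) : ClSub.quotMod I ⟶ ClSub.quotMod K :=
  (Scheme.Modules.pushforward I.subschemeι).map (ClSub.unitToPush (Scheme.IdealSheafData.inclusion h)) ≫
    (Scheme.Modules.pushforwardComp (Scheme.IdealSheafData.inclusion h) I.subschemeι).hom.app
      (Coh.structureModule K.subscheme) ≫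
    (Scheme.Modules.pushforwardCongr (Scheme.IdealSheafData.inclusion_subschemeι h)).hom.app
      (Coh.structureModule K.subscheme)

theorem inclPush_app_top (h : I ≤ K) (x : Γ(I.subscheme, ⊤)) :
    (show Γ(K.subscheme, ⊤) from (inclPush h).app ⊤ (show Γ(ClSub.quotMod I, ⊤) from x)) =
      (Scheme.IdealSheafData.inclusion h).appTop x := by
  show K.subscheme.presheaf.map (eqToHom (rfl : (⊤ : K.subscheme.Opens) = ⊤)).op
    ((Scheme.IdealSheafData.inclusion h).appTop x) = _
  simp

theorem appTop_comp_inclusion (h : I ≤ K) {Z : Scheme.{u}} (g : Y ⟶ Z) (x : Γ(Z, ⊤)) :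
    (Scheme.IdealSheafData.inclusion h).appTop ((I.subschemeι ≫ g).appTop x) = (K.subschemeι ≫ g).appTop x := by
  rw [← CommRingCat.comp_apply, ← Scheme.Hom.comp_appTop, ← Category.assoc,
    Scheme.IdealSheafData.inclusion_subschemeι]

theorem toSubscheme_inclPush (h : I ≤ K) : ClSub.toSubscheme I ≫ inclPush h = ClSub.toSubscheme K := by
  apply Scheme.Modules.hom_ext
  intro U
  ext a
  show K.subscheme.presheaf.map (eqToHom (show K.subschemeι ⁻¹ᵁ U = Scheme.IdealSheafData.inclusion h ⁻¹ᵁ (I.subschemeι ⁻¹ᵁ U) by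
      rw [← Scheme.Hom.comp_preimage, Scheme.IdealSheafData.inclusion_subschemeι])).op
    ((Scheme.IdealSheafData.inclusion h).app (I.subschemeι ⁻¹ᵁ U) (I.subschemeι.app U a)) = K.subschemeι.app U a
  rw [Scheme.Hom.congr_app (Scheme.IdealSheafData.inclusion_subschemeι h).symm U, CommRingCat.comp_apply]
  rfl

theorem thirdG_eq_inclPush (h : I ≤ K) : thirdG h = inclPush h := by
  haveI : Epi (ClSub.toSubscheme I) := (SurfInt.idealSeq_shortExact I).epi_g
  rw [← cancel_epi (ClSub.toSubscheme I), toSubscheme_thirdG, toSubscheme_inclPush]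

/-- Restriction of global functions is injective when `K/I` has no sections. -/
theorem injective_inclusion_appTop (A : Type u) [CommRing A] [Y.Over (Spec (CommRingCat.of A))] (h : I ≤ K)
    (h0 : Subsingleton (Coh.HH Y (thirdSeq h).X₁ 0)) :
    Function.Injective (Scheme.IdealSheafData.inclusion h).appTop := by
  intro x y hxy
  let e₂ := Sheaf.H.equiv₀ (Coh.toAb (ClSub.quotMod I)) isTerminalTop
  let e₃ := Sheaf.H.equiv₀ (Coh.toAb (ClSub.quotMod K)) isTerminalTop
  have hinj : Function.Injective (mapLin A (thirdG h) 0) := by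
    refine LinearMap.ker_eq_bot.1 ?_
    show LinearMap.ker (mapLin A (thirdSeq h).g 0) = ⊥
    rw [CurveCohLib.ker_mapLin_g A (thirdSeq_shortExact h) 0]
    refine (Submodule.eq_bot_iff _).2 ?_
    rintro _ ⟨z, rfl⟩
    rw [Subsingleton.elim z 0, map_zero]
  refine e₂.symm.injective (hinj (e₃.injective ?_))
  have key : ∀ z : Γ(I.subscheme, ⊤), e₃ (mapLin A (thirdG h) 0 (e₂.symm z)) =
      (Scheme.IdealSheafData.inclusion h).appTop z := fun z => by
    rw [← inclPush_app_top h z, ← thirdG_eq_inclPush h]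
    refine (Sheaf.H.equiv₀_naturality isTerminalTop ((QCoh.toAbFunctor Y).map (thirdG h)) (e₂.symm z)).symm.trans ?_
    exact congrArg (fun w => (thirdG h).app ⊤ w) (e₂.apply_symm_apply z)
  rw [key, key]
  exact hxy

end Incl

variable {R : Type u} [CommRing R] [IsDomain R] [IsDiscreteValuationRing R]

section Fibre

variable {X : Over (Spec (CommRingCat.of R))}

/-- The structure map of `O/D` on global functions. -/
def subHom (D : X.left.IdealSheafData) : R →+* Γ(D.subscheme, ⊤) :=
  (D.subschemeι ≫ X.hom).appTop.hom.comp (Scheme.ΓSpecIso (CommRingCat.of R)).inv.hom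

theorem subHom_apply_eq_zero {D : X.left.IdealSheafData} (h : Models.specialFibreIdeal R X ≤ D) {a : R}
    (ha : a ∈ maximalIdeal R) : subHom D a = 0 := by
  obtain ⟨π, hπ⟩ := IsDiscreteValuationRing.exists_irreducible R
  rw [hπ.maximalIdeal_eq, Ideal.mem_span_singleton] at ha
  obtain ⟨c, rfl⟩ := ha
  rw [map_mul]
  have h0 : D.subschemeι.app ⊤ (Coh.toGlobal X.hom π) = 0 :=
    SurfInt.app_toSubscheme_zero_of_mem D ⊤ _ fun W hW => h W
      ((isGenBy_specialFibreIdeal X.hom hπ W).ge (Ideal.mem_span_singleton_self _))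
  have h1 : subHom D π = 0 := h0
  rw [h1, zero_mul]

theorem finite_subHom [IsProper X.hom] (D : X.left.IdealSheafData) : (subHom D).Finite :=
  (S1297.finite_appTop (D.subschemeι ≫ X.hom)).comp
    (RingHom.Finite.of_surjective _ (Scheme.ΓSpecIso (CommRingCat.of R)).symm.commRingCatIsoToRingEquiv.surjective)

/-- A subring of a field of functions on a divisor of the closed fibre is a field. -/
theorem isField_of_injective [IsProper X.hom] {D : X.left.IdealSheafData} (h : Models.specialFibreIdeal R X ≤ D)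
    {L : Type u} [CommRing L] (hL : IsField L) (φ : Γ(D.subscheme, ⊤) →+* L) (hφ : Function.Injective φ) :
    IsField Γ(D.subscheme, ⊤) := by
  haveI : IsDomain L := hL.isDomain
  haveI : IsDomain Γ(D.subscheme, ⊤) := hφ.isDomain φ
  let ψ : ResidueField R →+* Γ(D.subscheme, ⊤) :=
    Ideal.Quotient.lift (maximalIdeal R) (subHom D) fun a ha => subHom_apply_eq_zero h ha
  have hfin : ψ.Finite := RingHom.Finite.of_comp_finite (f := IsLocalRing.residue R) (by
    have : ψ.comp (IsLocalRing.residue R) = subHom D := RingHom.ext fun a => rfl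
    rw [this]
    exact finite_subHom D)
  letI := ψ.toAlgebra
  haveI : Module.Finite (ResidueField R) Γ(D.subscheme, ⊤) := hfin
  exact isField_of_isIntegral_of_isField' (Field.toIsField (ResidueField R))

variable [IsProper X.hom] (Γv : ArSurf.VertComp R X)

theorem isField_sub_ker : IsField Γ(Γv.ι.ker.subscheme, ⊤) := by
  haveI := ArSurfBase.isProper_curve Γv
  have h := isField_of_universallyClosed (ResidueField R) (Γv.curve.left ↘ Spec (CommRingCat.of (ResidueField R)))
  exact MulEquiv.isField h (asIso (SurfInt.kerIso Γv.ι).hom.appTop).commRingCatIsoToRingEquiv.toMulEquiv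

/-- Adding a component of positive intersection with `D` keeps global functions a field. -/
theorem isField_step {D : X.left.IdealSheafData} (hΓ : BlowUp.IsEffCartierIdeal Γv.ι.ker)
    (hD : BlowUp.IsEffCartierIdeal D) (h : Models.specialFibreIdeal R X ≤ Γv.ι.ker * D)
    (hle : Γv.ι.ker * D ≤ D) (hdeg : ArSurf.inter R X (ClSub.idealMod D) Γv < 0)
    (hF : IsField Γ(D.subscheme, ⊤)) : IsField Γ((Γv.ι.ker * D).subscheme, ⊤) := by
  letI : X.left.Over (Spec (CommRingCat.of R)) := ⟨X.hom⟩
  haveI := ArSurfBase.isProper_curve Γv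
  haveI := CurveCohLib.isNoetherian_of_proper (k := ResidueField R) (X := Γv.curve.left)
  have hL := PicClLib.isInvertible_pullback Γv.ι (SurfInt.isInvertible_idealMod hD)
  have h0 : Module.finrank (ResidueField R)
      (Coh.HH Γv.curve.left ((Scheme.Modules.pullback Γv.ι).obj (ClSub.idealMod D)) 0) = 0 := by
    by_contra hne0
    obtain ⟨σ, hσ⟩ := CurveRR.exists_hom_ne_zero (ResidueField R) hne0
    have h1 := (CurveDeg.deg_le_and_isIso (ResidueField R) Γv.dim_eq.le CurveDeg.isInvertible_structureModule hL σ hσ).1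
    rw [CurveDeg.deg_structureModule, ← ArSurfBase.curveDeg_eq_deg Γv.dim_eq.le (AmpleVan.isCoh_invertible hL).1] at h1
    exact absurd h1 (not_le.2 hdeg)
  haveI := S0002.result (ResidueField R) Γv.curve.left _ (AmpleVan.isCoh_invertible hL) 0
  haveI : Subsingleton (Coh.HH Γv.curve.left ((Scheme.Modules.pullback Γv.ι).obj (ClSub.idealMod D)) 0) :=
    Module.finrank_zero_iff.1 h0
  obtain ⟨e'⟩ := QCoh.HH_push_of_isAffineHom Γv.ι (AmpleVan.isCoh_invertible hL).1 0
  obtain ⟨e⟩ := nonempty_cokernel_incl Γv.ι hΓ hD hle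
  have hs : Subsingleton (Coh.HH X.left (thirdSeq hle).X₁ 0) :=
    QCoh.subsingleton_HH_of_iso e.symm 0 e'.symm.toEquiv.subsingleton
  exact isField_of_injective h hF (Scheme.IdealSheafData.inclusion hle).appTop.hom
    (injective_inclusion_appTop R hle hs)

end Fibre

section Chain

variable {C X : Scheme.{u}} {f : C ⟶ Spec (CommRingCat.of (FractionRing R))} {p : X ⟶ Spec (CommRingCat.of R)}
  {n : ℕ} {Γs : Fin n → ArSurf.VertComp R (Over.mk p)}

variable (hC : Curve.IsSmoothProperCurve (FractionRing R) C f) (hX : Models.IsRegularProperModel R X p C f)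
  (hΓ : Models.IsComponentList R (Over.mk p) Γs)

include hC hX hΓ

theorem exists_inverses : ∃ L : Fin n → X.Modules,
    ∀ i, ClSub.IsInverseOf (L i) (ClSub.idealMod (Γs i).ι.ker) := by
  obtain ⟨h1, h2, h3, h4, hdim, hreg⟩ := setup hC hX hΓ
  have : ∀ i, ∃ L : X.Modules, ClSub.IsInverseOf L (ClSub.idealMod (Γs i).ι.ker) := fun i => by
    obtain ⟨L, -, ⟨ψ⟩⟩ := H23.PicInv.exists_inverse
      (SurfInt.isInvertible_idealMod (ArSurfBase.isEffCartier_ker (Γs i) hdim hreg))
    exact ⟨L, ⟨SurfInt.tComm _ _ ≪≫ ψ⟩⟩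
  exact ⟨fun i => (this i).choose, fun i => (this i).choose_spec⟩

/-- A field stays a field when a component of positive intersection is added. -/
theorem isField_add {L : Fin n → X.Modules} (hL : ∀ i, ClSub.IsInverseOf (L i) (ClSub.idealMod (Γs i).ι.ker))
    {a : Fin n → ℕ} {i : Fin n} (ha : ∀ j, a j + (Pi.single i 1 : Fin n → ℕ) j ≤ Models.mult R (Over.mk p) (Γs j))
    (hpos : 0 < ∑ j, (a j : ℤ) * ArSurf.inter R (Over.mk p) (L j) (Γs i))
    (hF : IsField Γ((divIdeal Γs a).subscheme, ⊤)) :
    IsField Γ((divIdeal Γs (a + Pi.single i 1)).subscheme, ⊤) := by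
  obtain ⟨h1, h2, h3, h4, hdim, hreg⟩ := setup hC hX hΓ
  have hK := fun j => ArSurfBase.isEffCartier_ker (Γs j) hdim hreg
  have hfib : Models.specialFibreIdeal R (Over.mk p) ≤ divIdeal Γs (a + Pi.single i 1) := by
    rw [ArSurfBase.specialFibreIdeal_eq_prod hdim hreg Γs hΓ.1
      (fun x hx => ArSurfBase.cover_of_isComponentList hΓ hx)]
    exact prod_pow_le _ _ fun j _ => ha j
  rw [divIdeal_add] at hfib ⊢
  refine isField_step (Γs i) (hK i) (ArSurfBase.isEffCartier_prod hdim hreg Finset.univ Γs a) hfib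
    (mul_le_right_ideal _ _) ?_ hF
  show ArSurf.inter R (Over.mk p) (ClSub.idealMod (∏ j, (Γs j).ι.ker ^ a j)) (Γs i) < 0
  rw [ArSurfBase.inter_idealMod_prod _ _ _ hK]
  have e : ∀ j, (a j : ℤ) * ArSurf.inter R (Over.mk p) (ClSub.idealMod (Γs j).ι.ker) (Γs i) =
      -((a j : ℤ) * ArSurf.inter R (Over.mk p) (L j) (Γs i)) := fun j => by
    rw [ArSurfBase.inter_eq_neg (Γs i) (SurfInt.isInvertible_idealMod (hK j)) (hL j), mul_neg, neg_neg]
  rw [Finset.sum_congr rfl fun j _ => e j, Finset.sum_neg_distrib]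
  exact neg_neg_of_pos hpos

variable (hH0 : IsIso f.appTop)
include hH0

/-- The reduced closed fibre has a field of global functions. -/
theorem isField_divIdeal_one : IsField Γ((divIdeal Γs fun _ => 1).subscheme, ⊤) := by
  classical
  obtain ⟨h1, h2, h3, h4, hdim, hreg⟩ := setup hC hX hΓ
  obtain ⟨L, hL⟩ := exists_inverses hC hX hΓ
  have hm := mult_pos hC hX hΓ
  obtain ⟨i₀⟩ : Nonempty (Fin n) := ⟨⟨0, n_pos hC hX hΓ⟩⟩
  suffices H : ∀ (N : ℕ) (S : Finset (Fin n)), n - S.card = N → S.Nonempty →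
      IsField Γ((divIdeal Γs fun j => if j ∈ S then 1 else 0).subscheme, ⊤) →
        IsField Γ((divIdeal Γs fun _ => 1).subscheme, ⊤) by
    refine H _ {i₀} rfl (Finset.singleton_nonempty i₀) ?_
    have : divIdeal Γs (fun j => if j ∈ ({i₀} : Finset (Fin n)) then 1 else 0) = (Γs i₀).ι.ker := by
      rw [divIdeal, Finset.prod_eq_single i₀ (fun j _ hj => by rw [if_neg (by simpa using hj), pow_zero]) (by simp),
        if_pos (by simp), pow_one]
    rw [this]
    exact isField_sub_ker (Γs i₀)
  intro N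
  induction N with
  | zero =>
    intro S hS _ hF
    have hu : S = Finset.univ := Finset.eq_univ_of_card S (by
      have := Finset.card_le_univ S
      rw [Fintype.card_fin] at this ⊢
      omega)
    subst hu
    have : (fun j : Fin n => if j ∈ (Finset.univ : Finset (Fin n)) then 1 else 0) = fun _ => (1 : ℕ) :=
      funext fun j => if_pos (Finset.mem_univ j)
    exact this ▸ hF
  | succ N ih =>
    intro S hS hne hF
    obtain ⟨j, hj, k, hk, hjk⟩ : ∃ j ∉ S, ∃ k ∈ S, ¬ Disjoint (ArSurfBase.supp (Γs k)) (ArSurfBase.supp (Γs j)) := by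
      by_contra hcon
      simp only [not_exists, not_and, not_not] at hcon
      have hall : ∀ i, i ∈ S := fun i => connected_induction hC hH0 hX hΓ (fun i => i ∈ S) hne.choose_spec
        (fun a b ha hd => by
          by_contra hb
          exact hd (hcon b hb a ha)) i
      rw [Finset.eq_univ_of_forall hall, Finset.card_univ, Fintype.card_fin] at hS
      omega
    refine ih (insert j S) (by rw [Finset.card_insert_of_notMem hj]; omega) ⟨j, Finset.mem_insert_self j S⟩ ?_
    have he : (fun l => if l ∈ insert j S then 1 else 0) =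
        (fun l => if l ∈ S then 1 else 0) + Pi.single j 1 := by
      funext l
      rcases eq_or_ne l j with rfl | hlj
      · simp [hj]
      · simp [hlj, Pi.single_eq_of_ne hlj]
    rw [he]
    refine isField_add hC hX hΓ hL (fun l => ?_) ?_ hF
    · refine le_trans ?_ (hm l)
      rcases eq_or_ne l j with rfl | hlj
      · simp [hj]
      · rw [Pi.single_eq_of_ne hlj]; split_ifs <;> simp
    · refine Finset.sum_pos' (fun l _ => ?_) ⟨k, Finset.mem_univ k, ?_⟩
      · by_cases hl : l ∈ S
        · rw [if_pos hl, Nat.cast_one, one_mul]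
          exact (ArSurfBase.inter_offDiag_nonneg hdim hreg
            (fun e => hj ((hΓ.1 e : j = l) ▸ hl)) (hL l)).1
        · rw [if_neg hl]; simp
      · rw [if_pos hk, Nat.cast_one, one_mul]
        obtain ⟨hnn, hz⟩ := ArSurfBase.inter_offDiag_nonneg hdim hreg
          (fun e => hj ((hΓ.1 e : j = k) ▸ hk)) (hL k)
        exact lt_of_le_of_ne hnn fun e => hjk ((hz.1 e.symm).symm)

/-- Below `m/d` one can always add a component of positive intersection. -/
theorem exists_pos_component {L : Fin n → X.Modules}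
    (hL : ∀ i, ClSub.IsInverseOf (L i) (ClSub.idealMod (Γs i).ι.ker)) {a m' : Fin n → ℕ} (d : ℕ)
    (hm : ∀ i, Models.mult R (Over.mk p) (Γs i) = d * m' i) (hgcd : Finset.univ.gcd m' = 1)
    (h1a : ∀ i, 1 ≤ a i) (ha : ∀ i, a i ≤ m' i) (hne : a ≠ m') :
    ∃ i, a i < m' i ∧ 0 < ∑ j, (a j : ℤ) * ArSurf.inter R (Over.mk p) (L j) (Γs i) := by
  classical
  obtain ⟨h1, h2, h3, h4, hdim, hreg⟩ := setup hC hX hΓ
  have hmp := mult_pos hC hX hΓ
  have hd : d ≠ 0 := fun h => by
    have := hm ⟨0, n_pos hC hX hΓ⟩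
    have := hmp ⟨0, n_pos hC hX hΓ⟩
    simp_all
  let A : Fin n → Fin n → ℤ := fun i j => ArSurf.inter R (Over.mk p) (L j) (Γs i)
  let b : Fin n → ℤ := fun i => (m' i : ℤ) - a i
  have hrow : ∀ i, ∑ j, (m' j : ℤ) * A i j = 0 := fun i => by
    have h := row_sum hC hX hΓ L hL i
    simp only [hm, Nat.cast_mul, mul_assoc] at h
    rw [← Finset.mul_sum] at h
    exact (mul_eq_zero.1 h).resolve_left (by exact_mod_cast hd)
  have hbA : ∀ i, ∑ j, b j * A i j = -∑ j, (a j : ℤ) * A i j := fun i => by
    simp only [b, sub_mul, Finset.sum_sub_distrib, hrow i, zero_sub]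
  obtain ⟨hQ, hQ0⟩ := ArSurfBase.form_nonpos hdim hreg Γs hΓ.1 L hL b
  by_contra hcon
  simp only [not_exists, not_and, not_lt] at hcon
  have hge : 0 ≤ ∑ i, ∑ j, b i * b j * A i j := by
    refine Finset.sum_nonneg fun i _ => ?_
    simp only [mul_assoc]
    rw [← Finset.mul_sum, hbA i]
    rcases (ha i).lt_or_eq with hlt | heq
    · exact mul_nonneg (by simp [b]; omega) (neg_nonneg.2 (hcon i hlt))
    · rw [show b i = 0 by simp [b, heq], zero_mul]
  have hprop := (hQ0 (le_antisymm hQ hge)).2
  obtain ⟨i₀⟩ : Nonempty (Fin n) := ⟨⟨0, n_pos hC hX hΓ⟩⟩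
  have hall : ∀ i, b i * m' i₀ = b i₀ * m' i :=
    connected_induction hC hH0 hX hΓ (fun i => b i * m' i₀ = b i₀ * m' i) (i₀ := i₀) rfl
      fun i j hi hdisj => by
        have h := hprop i j hdisj
        simp only [hm, Nat.cast_mul] at h
        have hi' : (m' i : ℤ) ≠ 0 := by have := h1a i; have := ha i; omega
        have hd' : (d : ℤ) ≠ 0 := by exact_mod_cast hd
        refine mul_left_cancel₀ (mul_ne_zero hd' hi') ?_
        linear_combination (d : ℤ) * (m' j : ℤ) * hi - (m' i₀ : ℤ) * h
  have hnat : ∀ i, (m' i - a i) * m' i₀ = (m' i₀ - a i₀) * m' i := fun i => by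
    have := hall i
    simp only [b] at this
    rw [← Nat.cast_sub (ha i), ← Nat.cast_sub (ha i₀)] at this
    exact_mod_cast this
  have hdvd : m' i₀ ∣ m' i₀ - a i₀ := by
    have : m' i₀ ∣ Finset.univ.gcd fun i => (m' i₀ - a i₀) * m' i :=
      Finset.dvd_gcd fun i _ => ⟨m' i - a i, by rw [← hnat i, mul_comm]⟩
    rwa [Finset.gcd_mul_left, hgcd, mul_one, normalize_eq] at this
  have h0 : m' i₀ - a i₀ = 0 :=
    Nat.eq_zero_of_dvd_of_lt hdvd (by have := h1a i₀; have := ha i₀; omega)
  refine hne (funext fun i => ?_)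
  have h := hnat i
  rw [h0, zero_mul] at h
  rcases Nat.mul_eq_zero.1 h with h' | h'
  · have := ha i; omega
  · have := h1a i₀; have := ha i₀; omega

/-- A chain of fields from the reduced fibre to `Σ (m_i/d) Γ_i`. -/
theorem exists_chain {m' : Fin n → ℕ} (d : ℕ)
    (hm : ∀ i, Models.mult R (Over.mk p) (Γs i) = d * m' i) (hgcd : Finset.univ.gcd m' = 1) :
    ∃ (s : ℕ) (c : Fin (s + 1) → Fin n → ℕ), (c 0 = fun _ => 1) ∧ c (Fin.last s) = m' ∧
      (∀ j : Fin s, ∃ i, c j.succ = c j.castSucc + Pi.single i 1) ∧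
      ∀ j, IsField Γ((divIdeal Γs (c j)).subscheme, ⊤) := by
  classical
  have hmp := mult_pos hC hX hΓ
  obtain ⟨L, hL⟩ := exists_inverses hC hX hΓ
  have hd : 1 ≤ d := by
    have := hm ⟨0, n_pos hC hX hΓ⟩
    have := hmp ⟨0, n_pos hC hX hΓ⟩
    rcases Nat.eq_zero_or_pos d with rfl | h
    · simp_all
    · omega
  have hm1 : ∀ i, 1 ≤ m' i := fun i => by
    have := hmp i; rw [hm i] at this
    exact Nat.pos_of_ne_zero fun h => by rw [h, mul_zero] at this; exact lt_irrefl _ this
  suffices H : ∀ (N : ℕ) (a : Fin n → ℕ), ∑ i, (m' i - a i) = N → (∀ i, 1 ≤ a i) → (∀ i, a i ≤ m' i) →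
      IsField Γ((divIdeal Γs a).subscheme, ⊤) →
      ∃ (s : ℕ) (c : Fin (s + 1) → Fin n → ℕ), c 0 = a ∧ c (Fin.last s) = m' ∧
        (∀ j : Fin s, ∃ i, c j.succ = c j.castSucc + Pi.single i 1) ∧
        ∀ j, IsField Γ((divIdeal Γs (c j)).subscheme, ⊤) from
    H _ (fun _ => 1) rfl (fun _ => le_rfl) hm1 (isField_divIdeal_one hC hX hΓ hH0)
  intro N
  induction N with
  | zero =>
    intro a hN _ ha hF
    refine ⟨0, fun _ => a, rfl, funext fun i => ?_, fun j => j.elim0, fun _ => hF⟩
    have := Finset.sum_eq_zero_iff.1 hN i (Finset.mem_univ i)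
    have := ha i
    show a i = m' i
    omega
  | succ N ih =>
    intro a hN h1a ha hF
    have hne : a ≠ m' := fun e => by subst e; simp at hN
    obtain ⟨i, hi, hpos⟩ := exists_pos_component hC hX hΓ hH0 hL d hm hgcd h1a ha hne
    have hb : ∀ j, (a + Pi.single i 1 : Fin n → ℕ) j ≤ m' j := fun j => by
      rw [Pi.add_apply]
      rcases eq_or_ne j i with rfl | hj
      · rw [Pi.single_eq_same]; omega
      · rw [Pi.single_eq_of_ne hj]; exact ha j
    have hF' := isField_add hC hX hΓ hL (a := a) (i := i)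
      (fun j => (hb j).trans (by rw [hm j]; exact Nat.le_mul_of_pos_left _ hd)) hpos hF
    have hsum : ∑ j, (m' j - (a + Pi.single i 1 : Fin n → ℕ) j) = N := by
      have h1 : ∑ j, (m' j - (a + Pi.single i 1 : Fin n → ℕ) j) + ∑ j, (Pi.single i 1 : Fin n → ℕ) j =
          ∑ j, (m' j - a j) := by
        rw [← Finset.sum_add_distrib]
        refine Finset.sum_congr rfl fun j _ => ?_
        have := hb j
        rw [Pi.add_apply] at this ⊢
        omega
      simp only [Finset.sum_pi_single', Finset.mem_univ, if_true] at h1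
      omega
    obtain ⟨s, c, hc0, hcl, hcs, hcF⟩ := ih _ hsum (fun j => (h1a j).trans (Nat.le_add_right _ _)) hb hF'
    refine ⟨s + 1, Fin.cons a c, rfl, by rw [← Fin.succ_last, Fin.cons_succ, hcl], fun j => ?_, fun j => ?_⟩
    · refine Fin.cases ?_ (fun j => ?_) j
      · exact ⟨i, by rw [Fin.castSucc_zero, Fin.cons_zero, Fin.cons_succ, hc0]⟩
      · obtain ⟨l, hl⟩ := hcs j
        exact ⟨l, by rw [← Fin.succ_castSucc, Fin.cons_succ, Fin.cons_succ, hl]⟩
    · refine Fin.cases ?_ (fun j => ?_) j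
      · rw [Fin.cons_zero]; exact hF
      · rw [Fin.cons_succ]; exact hcF j

end Chain

end Groth.Agent.MdlSurf
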