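import Groth.Agent.MdlSurf.FibreEuler
import Groth.Agent.ArSurfBase.IdealStep

/-!
# Euler characteristics of vertical divisors: adding one component
-/

set_option autoImplicit false
set_option linter.style.haveILetI false
set_option linter.unusedSectionVars false
set_option backward.isDefEq.respectTransparency false
set_option backward.isDefEq.respectTransparency.types false

universe u

open CategoryTheory CategoryTheory.Limits AlgebraicGeometry IsLocalRing TopologicalSpace Opposite
open Groth.Agent.PnCoh.Finite (mapLin deltaLin)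

noncomputable section

namespace Groth.Agent.MdlSurf

section Seq

variable {X : Scheme.{u}}

theorem inclMap_comp_toSubscheme {I K : X.IdealSheafData} (h : I ≤ K) :
    SurfInt.inclMap h ≫ (ClSub.idealModι K ≫ ClSub.toSubscheme I) = 0 := by
  rw [← Category.assoc, SurfInt.inclMap_ι]
  exact kernel.condition _

/-- `K / I ⟶ O / I`. -/
def thirdF {I K : X.IdealSheafData} (h : I ≤ K) : cokernel (SurfInt.inclMap h) ⟶ ClSub.quotMod I :=
  cokernel.desc _ _ (inclMap_comp_toSubscheme h)

/-- `O / I ⟶ O / K`. -/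
def thirdG {I K : X.IdealSheafData} (h : I ≤ K) : ClSub.quotMod I ⟶ ClSub.quotMod K :=
  (SurfInt.idealSeq_shortExact I).gIsCokernel.desc
    (CokernelCofork.ofπ (ClSub.toSubscheme K) (SurfInt.idealModι_toSubscheme h))

theorem toSubscheme_thirdG {I K : X.IdealSheafData} (h : I ≤ K) :
    ClSub.toSubscheme I ≫ thirdG h = ClSub.toSubscheme K :=
  (SurfInt.idealSeq_shortExact I).gIsCokernel.fac _ WalkingParallelPair.one

theorem thirdF_comp_thirdG {I K : X.IdealSheafData} (h : I ≤ K) : thirdF h ≫ thirdG h = 0 := by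
  rw [← cancel_epi (cokernel.π (SurfInt.inclMap h)), thirdF, cokernel.π_desc_assoc, comp_zero,
    Category.assoc, toSubscheme_thirdG]
  exact kernel.condition _

/-- `0 ⟶ K/I ⟶ O/I ⟶ O/K ⟶ 0`. -/
def thirdSeq {I K : X.IdealSheafData} (h : I ≤ K) : ShortComplex X.Modules :=
  ShortComplex.mk (thirdF h) (thirdG h) (thirdF_comp_thirdG h)

theorem thirdSeq_shortExact {I K : X.IdealSheafData} (h : I ≤ K) : (thirdSeq h).ShortExact := by
  haveI hmI : Mono (ClSub.idealModι I) := inferInstanceAs (Mono (kernel.ι _))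
  haveI hmK : Mono (ClSub.idealModι K) := inferInstanceAs (Mono (kernel.ι _))
  haveI hm : Mono (thirdSeq h).f := by
    refine ((ShortComplex.mk (SurfInt.inclMap h) (ClSub.idealModι K ≫ ClSub.toSubscheme I)
      (inclMap_comp_toSubscheme h)).exact_iff_mono_cokernel_desc).1 ?_
    haveI : Mono (SurfInt.inclMap h) := inferInstance
    refine ShortComplex.exact_of_f_is_kernel _ (KernelFork.IsLimit.ofι' _ _ fun {T} t ht => ?_)
    refine ⟨kernel.lift _ (t ≫ ClSub.idealModι K) ((Category.assoc _ _ _).trans ht), ?_⟩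
    rw [← cancel_mono (ClSub.idealModι K), Category.assoc, SurfInt.inclMap_ι]
    exact kernel.lift_ι _ _ _
  haveI : Epi (ClSub.toSubscheme K) := (SurfInt.idealSeq_shortExact K).epi_g
  haveI he : Epi (thirdSeq h).g := epi_of_epi_fac (toSubscheme_thirdG h)
  haveI : Epi (ClSub.toSubscheme I) := (SurfInt.idealSeq_shortExact I).epi_g
  refine ⟨ShortComplex.exact_of_g_is_cokernel _ (CokernelCofork.IsColimit.ofπ' _ _ fun {T} t ht => ?_)⟩
  have h2 : ClSub.idealModι K ≫ (ClSub.toSubscheme I ≫ t) = 0 := by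
    have h3 := congrArg (fun φ => cokernel.π (SurfInt.inclMap h) ≫ φ) ht
    simpa [thirdSeq, thirdF] using h3
  let d : ClSub.quotMod K ⟶ T :=
    (SurfInt.idealSeq_shortExact K).gIsCokernel.desc (CokernelCofork.ofπ (ClSub.toSubscheme I ≫ t) h2)
  have hd : ClSub.toSubscheme K ≫ d = ClSub.toSubscheme I ≫ t :=
    (SurfInt.idealSeq_shortExact K).gIsCokernel.fac (CokernelCofork.ofπ (ClSub.toSubscheme I ≫ t) h2)
      WalkingParallelPair.one
  refine ⟨d, ?_⟩
  rw [← cancel_epi (ClSub.toSubscheme I), ← hd, ← toSubscheme_thirdG h]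
  exact (Category.assoc _ _ _).symm

theorem isIso_mulMap {I J : X.IdealSheafData} (hI : BlowUp.IsEffCartierIdeal I)
    (hJ : BlowUp.IsEffCartierIdeal J) : IsIso (SurfInt.mulMap I J) := by
  choose U hU a b ha hb using ModPairLib.exists_chart (ModPairLib.isLocPrincipal_of_isEffCartier hI)
    (ModPairLib.isLocPrincipal_of_isEffCartier hJ)
  choose e he using fun x => OmegaLib.exists_of_mem I (U x) (a x) (ha x ▸ Ideal.mem_span_singleton_self _)
  choose f hf using fun x => OmegaLib.exists_of_mem J (U x) (b x) (hb x ▸ Ideal.mem_span_singleton_self _)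
  refine SurfInt.isIso_of_frames (SurfInt.mulMap I J) (fun x => (U x).1) hU (fun x => InvX.tmul (e x) (f x))
    (fun x => InvX.isFrame_tmul (SurfInt.isFrame_of_generator hI (ha x) (he x))
      (SurfInt.isFrame_of_generator hJ (hb x) (hf x))) fun x => ?_
  refine SurfInt.isFrame_of_generator (ModPairLib.isEffCartier_mul hI hJ) (U := U x) (g := a x * b x) ?_ ?_
  · rw [Scheme.IdealSheafData.ideal_mul, Pi.mul_apply, ha x, hb x, Ideal.span_singleton_mul_span_singleton]
  · rw [SurfInt.idealSect_mulMap_tmul, he, hf]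

/-- `D / DC ≅ i_* i^* D` for the closed subscheme `i` of an effective Cartier ideal `C`. -/
theorem nonempty_cokernel_incl {Z : Scheme.{u}} (i : Z ⟶ X) [IsClosedImmersion i]
    (hC : BlowUp.IsEffCartierIdeal i.ker) {D : X.IdealSheafData} (hD : BlowUp.IsEffCartierIdeal D)
    (h : i.ker * D ≤ D) :
    Nonempty (cokernel (SurfInt.inclMap h) ≅
      (Coh.push i).obj ((Scheme.Modules.pullback i).obj (ClSub.idealMod D))) := by
  have hL := SurfInt.isInvertible_idealMod hD
  haveI := AmpleVan.isEquivalence_tw hL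
  haveI := ArSurfBase.IdealStep.isIso_scalarMap hL
  haveI := isIso_mulMap hC hD
  haveI : (AmpleVan.tw (ClSub.idealMod D)).Additive := Functor.additive_of_preserves_binary_products _
  let t := (AmpleVan.tw (ClSub.idealMod D)).map (ClSub.idealModι i.ker)
  have hg : t ≫ ArSurfBase.IdealStep.scalarMap (ClSub.idealMod D) = SurfInt.mulMap i.ker D ≫ SurfInt.inclMap h := by
    haveI : Mono (ClSub.idealModι D) := inferInstanceAs (Mono (kernel.ι _))
    rw [← cancel_mono (ClSub.idealModι D), Category.assoc (SurfInt.mulMap i.ker D), SurfInt.inclMap_ι]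
    refine AmpleVan.hom_ext_tmul fun U a b => ?_
    show OmegaSh.idealSect D U ((ArSurfBase.IdealStep.scalarMap (ClSub.idealMod D)).app U (t.app U (InvX.tmul a b))) =
      OmegaSh.idealSect (i.ker * D) U ((SurfInt.mulMap i.ker D).app U (InvX.tmul a b))
    rw [SurfInt.idealSect_mulMap_tmul, AmpleVan.map_tmul_left]
    refine (congrArg (OmegaSh.idealSect D U) (ArSurfBase.IdealStep.scalarMap_tmul _ U _ b)).trans ?_
    rw [OmegaLib.idealSect_smul]
    rfl
  obtain ⟨q⟩ := SurfInt.nonempty_quotMod_ker i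
  have hS := (SurfInt.idealSeq_shortExact i.ker).map_of_exact (AmpleVan.tw (ClSub.idealMod D))
  let e₁ : cokernel (SurfInt.inclMap h) ≅ cokernel t :=
    (cokernel.mapIso t (SurfInt.inclMap h) (asIso (SurfInt.mulMap i.ker D))
      (asIso (ArSurfBase.IdealStep.scalarMap (ClSub.idealMod D))) hg).symm
  let e₂ : cokernel t ≅ (AmpleVan.tw (ClSub.idealMod D)).obj (ClSub.quotMod i.ker) :=
    IsColimit.coconePointUniqueUpToIso (cokernelIsCokernel t) hS.gIsCokernel
  exact ⟨e₁ ≪≫ e₂ ≪≫ SurfInt.tMapL q (ClSub.idealMod D) ≪≫ SurfInt.pushTensorIso i (ClSub.idealMod D)⟩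

end Seq

variable {R : Type u} [CommRing R] [IsDomain R] [IsDiscreteValuationRing R]

section Add

variable {X : Scheme.{u}} [X.Over (Spec (CommRingCat.of R))] {S : ShortComplex X.Modules}

theorem length_add_of_shortExact (hS : S.ShortExact) (h2 : Subsingleton (Coh.HH X S.X₁ 2))
    (hA : ∀ i, i ≤ 1 → Module.length R (Coh.HH X S.X₁ i) ≠ ⊤)
    (hB : ∀ i, i ≤ 1 → Module.length R (Coh.HH X S.X₂ i) ≠ ⊤)
    (hC : ∀ i, i ≤ 1 → Module.length R (Coh.HH X S.X₃ i) ≠ ⊤) :
    ((Module.length R (Coh.HH X S.X₂ 0)).toNat : ℤ) - (Module.length R (Coh.HH X S.X₂ 1)).toNat =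
      (((Module.length R (Coh.HH X S.X₁ 0)).toNat : ℤ) - (Module.length R (Coh.HH X S.X₁ 1)).toNat) +
        (((Module.length R (Coh.HH X S.X₃ 0)).toNat : ℤ) - (Module.length R (Coh.HH X S.X₃ 1)).toNat) := by
  have key : ∀ {A B : Type u} [AddCommGroup A] [Module R A] [AddCommGroup B] [Module R B] (g : A →ₗ[R] B),
      Module.length R A ≠ ⊤ → (Module.length R A).toNat =
        (Module.length R (LinearMap.ker g)).toNat + (Module.length R (LinearMap.range g)).toNat := fun g hg => by
    have h := length_ker_add_range g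
    rw [h] at hg
    obtain ⟨h1, h2⟩ := WithTop.add_ne_top.1 hg
    rw [h, ENat.toNat_add h1 h2]
  have hle : ∀ i, (Module.length R (LinearMap.range (mapLin R S.f i))) =
      Module.length R (LinearMap.ker (mapLin R S.g i)) := fun i =>
    (LinearEquiv.ofEq _ _ (CurveCohLib.ker_mapLin_g R hS i).symm).length_eq
  have k0 := key (mapLin R S.f 0) (hA 0 (by omega))
  have k1 := key (mapLin R S.g 0) (hB 0 (by omega))
  have k2 := key (deltaLin R hS 0) (hC 0 (by omega))
  have k3 := key (mapLin R S.f 1) (hA 1 le_rfl)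
  have k4 := key (mapLin R S.g 1) (hB 1 le_rfl)
  have k5 := key (deltaLin R hS 1) (hC 1 le_rfl)
  haveI := h2
  haveI : Subsingleton (Coh.HH X S.X₁ (1 + 1)) := h2
  haveI : Subsingleton (LinearMap.range (deltaLin R hS 1)) := inferInstance
  have z0 : Module.length R (LinearMap.ker (mapLin R S.f 0)) = 0 := by
    rw [LinearMap.ker_eq_bot.2 (CurveCohLib.mapLin_f_zero_injective R hS)]
    exact Module.length_eq_zero
  have z2 : Module.length R (LinearMap.range (deltaLin R hS 1)) = 0 := Module.length_eq_zero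
  rw [z0, hle 0] at k0
  rw [(LinearEquiv.ofEq _ _ (CurveCohLib.ker_deltaLin R hS 0)).length_eq] at k2
  rw [(LinearEquiv.ofEq _ _ (CurveCohLib.ker_mapLin_f_succ R hS 0)).length_eq, hle 1] at k3
  rw [(LinearEquiv.ofEq _ _ (CurveCohLib.ker_deltaLin R hS 1)).length_eq, z2] at k5
  simp only [ENat.toNat_zero] at k0 k5
  omega

end Add

section Fibre

variable {X : Over (Spec (CommRingCat.of R))}

/-- The Euler characteristic over `R`. -/
def chi (F : X.left.Modules) : ℤ := (Models.lengthH R X F 0 : ℤ) - Models.lengthH R X F 1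

theorem chi_congr [IsProper X.hom] {F G : X.left.Modules} (e : F ≅ G) : chi (R := R) F = chi (R := R) G := by
  rw [chi, chi, ArSurfBase.lengthH_congr e, ArSurfBase.lengthH_congr e]

/-- `O/D` is killed by `π` if `π ∈ D`, so its cohomology has finite length. -/
theorem length_quotMod_ne_top [IsProper X.hom] {D : X.left.IdealSheafData}
    (h : Models.specialFibreIdeal R X ≤ D) (i : ℕ) : Module.length R (Coh.HH X.left (ClSub.quotMod D) i) ≠ ⊤ := by
  obtain ⟨π, hπ⟩ := IsDiscreteValuationRing.exists_irreducible R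
  haveI : IsLocallyNoetherian X.left := LocallyOfFiniteType.isLocallyNoetherian X.hom
  letI : X.left.Over (Spec (CommRingCat.of R)) := ⟨X.hom⟩
  haveI : IsProper (X.left ↘ Spec (CommRingCat.of R)) := ‹_›
  haveI := S0002.result R X.left _ (ParShLib.isCoh_quotMod D) i
  refine length_ne_top_of_pow hπ (n := 1) fun x => ?_
  have hz : Coh.smulAb (ClSub.quotMod D) (Coh.toGlobal X.hom π) = 0 := by
    ext U m
    have h0 : D.subschemeι.app U.unop (X.left.presheaf.map (homOfLE le_top).op (Coh.toGlobal X.hom π)) = 0 :=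
      SurfInt.app_toSubscheme_zero_of_mem D U.unop _ fun W hW => h W (by
        rw [← CommRingCat.comp_apply, ← Functor.map_comp]
        exact (isGenBy_specialFibreIdeal X.hom hπ W).ge (Ideal.mem_span_singleton_self _))
    show D.subschemeι.app U.unop (X.left.presheaf.map (homOfLE le_top).op (Coh.toGlobal X.hom π)) *
      (show Γ(D.subscheme, D.subschemeι ⁻¹ᵁ U.unop) from m) = 0
    rw [h0, zero_mul]
  rw [pow_one]
  show Sheaf.H.map (Coh.smulAb (ClSub.quotMod D) (Coh.toGlobal X.hom π)) i x = 0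
  rw [hz]
  show ((Sheaf.functorH _ i).map 0).hom x = 0
  rw [Functor.map_zero]
  rfl

variable [IsProper X.hom] (Γ : ArSurf.VertComp R X)

theorem length_push_ne_top {M : Γ.curve.left.Modules} (hM : Coh.IsCoh M) (i : ℕ) :
    Module.length R (Coh.HH X.left ((Coh.push Γ.ι).obj M) i) ≠ ⊤ := by
  haveI := ArSurfBase.isProper_curve Γ
  let ρ' : R →+* Coh.Γtop Γ.curve.left := (Coh.toGlobal Γ.curve.hom).comp (IsLocalRing.residue R)
  obtain ⟨e⟩ := QCoh.HH_push_linear Γ.ι (Coh.toGlobal X.hom) ρ' (fun a => ArSurfBase.toGlobal_curve Γ a) hM.1 i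
  haveI := S0002.result (IsLocalRing.ResidueField R) Γ.curve.left M hM i
  letI : Module R (Coh.HH Γ.curve.left M i) := QCoh.modHH ρ' M i
  have h2 : Module.length R (Coh.HH Γ.curve.left M i) =
      Module.length (IsLocalRing.ResidueField R) (Coh.HH Γ.curve.left M i) :=
    ArSurfBase.length_compHom_of_surjective (IsLocalRing.residue R) IsLocalRing.residue_surjective
  have h1 := e.length_eq
  rw [h2, Module.length_eq_finrank] at h1
  intro h
  exact ENat.natCast_ne_top _ (h1.trans h)

theorem subsingleton_push_two {M : Γ.curve.left.Modules} (hM : Coh.IsCoh M) :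
    Subsingleton (Coh.HH X.left ((Coh.push Γ.ι).obj M) 2) := by
  haveI := ArSurfBase.isProper_curve Γ
  haveI := CurveCohLib.isNoetherian_of_proper (k := IsLocalRing.ResidueField R) (X := Γ.curve.left)
  haveI : IsProper Γ.curve.hom := ArSurfBase.isProper_curve Γ
  haveI : Γ.curve.left.IsSeparated := ⟨by
    rw [← terminal.comp_from Γ.curve.hom]
    infer_instance⟩
  haveI : Subsingleton (Coh.HH Γ.curve.left M 2) :=
    Snapper.subsingleton_HH_of_dim_le (d := 1) Γ.dim_eq.le hM.1 (by omega)
  obtain ⟨e⟩ := QCoh.HH_push_of_isAffineHom Γ.ι hM.1 2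
  exact e.symm.toEquiv.subsingleton

/-- `χ(i_* M) = deg M + χ(O_Γ)`. -/
theorem chi_push_pullback {M : X.left.Modules} (hM : PicF.IsInvertible M) :
    chi (R := R) ((Coh.push Γ.ι).obj ((Scheme.Modules.pullback Γ.ι).obj M)) =
      ArSurf.inter R X M Γ + ((Models.wdeg R X Γ : ℤ) - Models.h1 R X Γ) := by
  haveI := ArSurfBase.isProper_curve Γ
  haveI := CurveCohLib.isNoetherian_of_proper (k := IsLocalRing.ResidueField R) (X := Γ.curve.left)
  have hL : Coh.IsCoh ((Scheme.Modules.pullback Γ.ι).obj M) :=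
    AmpleVan.isCoh_invertible (PicClLib.isInvertible_pullback Γ.ι hM)
  rw [chi, ArSurfBase.lengthH_push Γ hL, ArSurfBase.lengthH_push Γ hL]
  unfold ArSurf.inter ArSurf.curveDeg Models.wdeg Models.h1
  simp only [FGA.eulerCharLE, Finset.sum_range_succ, Finset.sum_range_zero]
  ring

/-- Adding the component `Γ` to the divisor `D` changes the Euler characteristic by `deg(D|_Γ) + χ(O_Γ)`. -/
theorem chi_step {D : X.left.IdealSheafData} (hΓ : BlowUp.IsEffCartierIdeal Γ.ι.ker)
    (hD : BlowUp.IsEffCartierIdeal D) (h : Models.specialFibreIdeal R X ≤ Γ.ι.ker * D) (hle : Γ.ι.ker * D ≤ D) :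
    chi (R := R) (ClSub.quotMod (Γ.ι.ker * D)) =
      chi (R := R) (ClSub.quotMod D) + (ArSurf.inter R X (ClSub.idealMod D) Γ +
        ((Models.wdeg R X Γ : ℤ) - Models.h1 R X Γ)) := by
  haveI := ArSurfBase.isProper_curve Γ
  haveI := CurveCohLib.isNoetherian_of_proper (k := IsLocalRing.ResidueField R) (X := Γ.curve.left)
  obtain ⟨e⟩ := nonempty_cokernel_incl Γ.ι hΓ hD hle
  have hL : Coh.IsCoh ((Scheme.Modules.pullback Γ.ι).obj (ClSub.idealMod D)) :=
    AmpleVan.isCoh_invertible (PicClLib.isInvertible_pullback Γ.ι (SurfInt.isInvertible_idealMod hD))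
  have h2 : Subsingleton (Coh.HH X.left (thirdSeq hle).X₁ 2) :=
    QCoh.subsingleton_HH_of_iso e.symm 2 (subsingleton_push_two Γ hL)
  have hA : ∀ i, i ≤ 1 → Module.length R (Coh.HH X.left (thirdSeq hle).X₁ i) ≠ ⊤ := fun i _ => by
    show Module.length R (Coh.HH X.left (cokernel (SurfInt.inclMap hle)) i) ≠ ⊤
    rw [(ArSurfBase.BaseSection.hhEquiv (A := R) e i).length_eq]
    exact length_push_ne_top Γ hL i
  have := length_add_of_shortExact (R := R) (thirdSeq_shortExact hle) h2 hA
    (fun i _ => length_quotMod_ne_top h i) (fun i _ => length_quotMod_ne_top (h.trans hle) i)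
  rw [← chi_push_pullback Γ (SurfInt.isInvertible_idealMod hD), ← chi_congr e, add_comm (chi _)]
  exact this

end Fibre

end Groth.Agent.MdlSurf
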