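import Groth.Agent.MdlSurf.Connected
import Groth.Agent.ArSurfBase.Form

/-!
# The components of the closed fibre of a regular proper model
-/

set_option autoImplicit false
set_option linter.style.haveILetI false

universe u

open CategoryTheory CategoryTheory.Limits AlgebraicGeometry IsLocalRing

namespace Groth.Agent.MdlSurf

variable {R : Type u} [CommRing R] [IsDomain R] [IsDiscreteValuationRing R]
  {C X : Scheme.{u}} {f : C ⟶ Spec (CommRingCat.of (FractionRing R))} {p : X ⟶ Spec (CommRingCat.of R)}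
  {n : ℕ} {Γ : Fin n → ArSurf.VertComp R (Over.mk p)}

/-- The facts about a regular proper model used by intersection theory. -/
theorem setup (hC : Curve.IsSmoothProperCurve (FractionRing R) C f)
    (hX : Models.IsRegularProperModel R X p C f) (hΓ : Models.IsComponentList R (Over.mk p) Γ) :
    IsProper (Over.mk p).hom ∧ IsIntegral (Over.mk p).left ∧ Flat (Over.mk p).hom ∧
      IsLocallyNoetherian (Over.mk p).left ∧ topologicalKrullDim (Over.mk p).left = 2 ∧
      ∀ x : (Over.mk p).left, IsRegularLocalRing ((Over.mk p).left.presheaf.stalk x) := by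
  haveI := isIntegral hC hX.1 hX.2.2
  haveI := hX.2.1
  haveI : CompactSpace X := QuasiCompact.compactSpace_of_compactSpace p
  obtain ⟨z, -, hz⟩ := IsClosed.exists_closed_singleton (isClosed_univ (X := X)) Set.univ_nonempty
  have hne : (p.base z).asIdeal ≠ ⊥ :=
    ArSurfBase.asIdeal_ne_bot_of_isClosed p (IsDiscreteValuationRing.not_isField R) hz
  have hz' : p.base z = closedPoint R :=
    PrimeSpectrum.ext (IsLocalRing.eq_maximalIdeal ((p.base z).isPrime.isMaximal hne))
  obtain ⟨i, -⟩ := ArSurfBase.cover_of_isComponentList hΓ (x := z) hz'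
  haveI : IsIntegral (Over.mk p).left := isIntegral hC hX.1 hX.2.2
  exact ⟨hX.2.1, isIntegral hC hX.1 hX.2.2, hX.1.1, isLocallyNoetherian hX.1, dim_eq_two hC hX.1 (Γ i), hX.2.2⟩

theorem isClosed_biUnion_supp {R : Type u} [CommRing R] [IsDomain R] [IsDiscreteValuationRing R]
    {X : Over (Spec (CommRingCat.of R))} {n : ℕ} (Γ : Fin n → ArSurf.VertComp R X) (S : Set (Fin n)) :
    IsClosed (⋃ j ∈ S, ArSurfBase.supp (Γ j)) :=
  S.toFinite.isClosed_biUnion fun j _ => ArSurfBase.isClosed_supp _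

/-- A predicate on components which spreads along intersections holds everywhere. -/
theorem connected_induction (hC : Curve.IsSmoothProperCurve (FractionRing R) C f) (hH0 : IsIso f.appTop)
    (hX : Models.IsRegularProperModel R X p C f) (hΓ : Models.IsComponentList R (Over.mk p) Γ)
    (P : Fin n → Prop) {i₀ : Fin n} (h₀ : P i₀)
    (h : ∀ i j, P i → ¬ Disjoint (ArSurfBase.supp (Γ i)) (ArSurfBase.supp (Γ j)) → P j) (i : Fin n) : P i := by
  classical
  haveI := isIntegral hC hX.1 hX.2.2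
  haveI := hX.2.1
  by_contra hi
  obtain ⟨x, -, hx1, hx2⟩ := isPreconnected_closed_iff.1 (isPreconnected_closedFibre hC hH0 hX.1) _ _
    (isClosed_biUnion_supp Γ {j | P j}) (isClosed_biUnion_supp Γ {j | ¬ P j})
    (fun x hx => by
      obtain ⟨j, hj⟩ := ArSurfBase.cover_of_isComponentList hΓ (x := x) hx
      by_cases hjT : P j
      · exact Or.inl (Set.mem_biUnion hjT hj)
      · exact Or.inr (Set.mem_biUnion hjT hj))
    ⟨_, ArSurfBase.hom_base_eq_closedPoint _ (ArSurfBase.genPtOf_mem (Γ i₀)),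
      Set.mem_biUnion (show i₀ ∈ {j | P j} from h₀) (ArSurfBase.genPtOf_mem _)⟩
    ⟨_, ArSurfBase.hom_base_eq_closedPoint _ (ArSurfBase.genPtOf_mem (Γ i)),
      Set.mem_biUnion (show i ∈ {j | ¬ P j} from hi) (ArSurfBase.genPtOf_mem _)⟩
  obtain ⟨j, hj, hxj⟩ := Set.mem_iUnion₂.1 hx1
  obtain ⟨k, hk, hxk⟩ := Set.mem_iUnion₂.1 hx2
  exact hk (h j k hj (Set.not_disjoint_iff.2 ⟨x, hxj, hxk⟩))

/-- The closed fibre is numerically trivial. -/
theorem row_sum (hC : Curve.IsSmoothProperCurve (FractionRing R) C f)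
    (hX : Models.IsRegularProperModel R X p C f) (hΓ : Models.IsComponentList R (Over.mk p) Γ)
    (L : Fin n → X.Modules) (hL : ∀ i, ClSub.IsInverseOf (L i) (ClSub.idealMod (Γ i).ι.ker)) (i : Fin n) :
    ∑ j, (Models.mult R (Over.mk p) (Γ j) : ℤ) * ArSurf.inter R (Over.mk p) (L j) (Γ i) = 0 := by
  obtain ⟨h1, h2, h3, h4, hdim, hreg⟩ := setup hC hX hΓ
  have hK := fun j => ArSurfBase.isEffCartier_ker (Γ j) hdim hreg
  have h0 := ArSurfBase.inter_specialFibreIdeal (R := R) (X := Over.mk p) (Γ i)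
  rw [ArSurfBase.specialFibreIdeal_eq_prod hdim hreg Γ hΓ.1
    (fun x hx => ArSurfBase.cover_of_isComponentList hΓ hx), ArSurfBase.inter_idealMod_prod _ _ _ hK] at h0
  rw [Finset.sum_congr rfl fun j _ => by
    rw [ArSurfBase.inter_eq_neg (Γ i) (SurfInt.isInvertible_idealMod (hK j)) (hL j), mul_neg],
    Finset.sum_neg_distrib, h0, neg_zero]

theorem inter_symm' (hC : Curve.IsSmoothProperCurve (FractionRing R) C f)
    (hX : Models.IsRegularProperModel R X p C f) (hΓ : Models.IsComponentList R (Over.mk p) Γ)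
    (L : Fin n → X.Modules) (hL : ∀ i, ClSub.IsInverseOf (L i) (ClSub.idealMod (Γ i).ι.ker)) (i j : Fin n) :
    ArSurf.inter R (Over.mk p) (L j) (Γ i) = ArSurf.inter R (Over.mk p) (L i) (Γ j) := by
  obtain ⟨h1, h2, h3, h4, hdim, hreg⟩ := setup hC hX hΓ
  rcases eq_or_ne i j with rfl | h
  · rfl
  · exact ArSurfBase.inter_symm hdim hreg (fun e => h (hΓ.1 e)) (hL i) (hL j)

end Groth.Agent.MdlSurf
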