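import Groth.Agent.MdlSurf.Basic
import Groth.Agent.ArSurfBase.Birat

/-!
# Connectedness of the closed fibre of a proper model
-/

set_option autoImplicit false
set_option linter.style.haveILetI false

universe u

open CategoryTheory CategoryTheory.Limits AlgebraicGeometry IsLocalRing

namespace Groth.Agent.MdlSurf

theorem bijective_app_basicOpen {X S : Scheme.{u}} (p : X ⟶ S) [IsAffine S] [CompactSpace X]
    [QuasiSeparatedSpace X] (hb : Function.Bijective p.appTop) (s : Γ(S, ⊤)) :
    Function.Bijective (p.app (S.basicOpen s)) := by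
  have hpre : p ⁻¹ᵁ S.basicOpen s = X.basicOpen (p.appTop s) := Scheme.preimage_basicOpen_top p s
  haveI h1 : IsLocalization.Away s Γ(S, S.basicOpen s) :=
    (isAffineOpen_top S).isLocalization_basicOpen s
  haveI h2 : IsLocalization.Away (p.appTop s) Γ(X, X.basicOpen (p.appTop s)) :=
    isLocalization_basicOpen_of_qcqs isCompact_univ isQuasiSeparated_univ _
  let e : Γ(S, ⊤) ≃+* Γ(X, ⊤) := RingEquiv.ofBijective p.appTop.hom hb
  have he : Submonoid.map e.toMonoidHom (Submonoid.powers s) = Submonoid.powers (p.appTop s) :=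
    Submonoid.map_powers _ _
  let e' := IsLocalization.ringEquivOfRingEquiv (M := Submonoid.powers s) (T := Submonoid.powers (p.appTop s))
    Γ(S, S.basicOpen s) Γ(X, X.basicOpen (p.appTop s)) e he
  have key : (p.appLE (S.basicOpen s) (X.basicOpen (p.appTop s)) hpre.ge).hom = e'.toRingHom := by
    refine IsLocalization.ringHom_ext (Submonoid.powers s) (RingHom.ext fun r => ?_)
    refine Eq.trans ?_ (IsLocalization.ringEquivOfRingEquiv_eq he r).symm
    show (p.appLE _ _ _) ((S.presheaf.map (homOfLE le_top).op) r) = (X.presheaf.map (homOfLE le_top).op) (p.appTop r)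
    rw [← CommRingCat.comp_apply, ← CommRingCat.comp_apply]
    congr 2
    rw [Scheme.Hom.map_appLE]
    rfl
  have hW : ∀ (W : X.Opens) (h : W = p ⁻¹ᵁ S.basicOpen s),
      Function.Bijective (p.appLE (S.basicOpen s) W h.le) → Function.Bijective (p.app (S.basicOpen s)) := by
    rintro _ rfl h
    rwa [Scheme.Hom.app_eq_appLE]
  refine hW _ hpre.symm ?_
  show Function.Bijective (p.appLE (S.basicOpen s) (X.basicOpen (p.appTop s)) hpre.ge).hom
  rw [key]
  exact e'.bijective

variable {R : Type u} [CommRing R] [IsDomain R] [IsDiscreteValuationRing R]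
  {C X : Scheme.{u}} {f : C ⟶ Spec (CommRingCat.of (FractionRing R))} {p : X ⟶ Spec (CommRingCat.of R)}

/-- If the generic fibre has no more functions than `K`, then a proper model has no more functions than `R`. -/
theorem bijective_appTop (hC : Curve.IsSmoothProperCurve (FractionRing R) C f) (hH0 : IsIso f.appTop)
    (hM : Models.IsModel R X p C f) [IsIntegral X] [IsProper p] : Function.Bijective p.appTop := by
  haveI := hC.2.2.1
  haveI := hM.1
  haveI := hH0
  obtain ⟨g, hw, hge, hg⟩ := exists_genericFibre hM
  obtain ⟨c, hc⟩ : genericPoint X ∈ Set.range g.base := by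
    rw [hg]; exact ArSurfBase.asIdeal_eq_bot_genericPoint p
  have hgη : g.base (genericPoint C) = genericPoint X := by
    have h1 : g.base (genericPoint C) ⤳ genericPoint X := hc ▸ ((genericPoint_spec C).specializes (Set.mem_univ c)).map g.continuous
    exact (h1.antisymm ((genericPoint_spec X).specializes (Set.mem_univ _))).eq
  have hinj : Function.Injective g.appTop := by
    have hf : IsField (X.presheaf.stalk (g.base (genericPoint C))) := by
      rw [hgη]; exact Field.toIsField X.functionField
    letI := hf.toField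
    refine (injective_iff_map_eq_zero _).2 fun t ht => ?_
    refine germ_injective_of_isIntegral X (U := ⊤) (g.base (genericPoint C)) trivial ?_
    rw [map_zero]
    apply RingHom.injective (g.stalkMap (genericPoint C)).hom
    rw [map_zero]
    erw [Scheme.Hom.germ_stalkMap_apply]
    erw [ht, map_zero]
  let a : Γ(X, ⊤) →+* FractionRing R :=
    (g.appTop ≫ inv f.appTop ≫ (Scheme.ΓSpecIso (CommRingCat.of (FractionRing R))).hom).hom
  have ha : Function.Injective a :=
    ((ConcreteCategory.bijective_of_isIso (inv f.appTop ≫ (Scheme.ΓSpecIso (CommRingCat.of (FractionRing R))).hom)).1).comp hinj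
  have hρ : ∀ t, a (p.appTop t) = algebraMap R (FractionRing R) ((Scheme.ΓSpecIso (CommRingCat.of R)).hom t) := by
    intro t
    have h : p.appTop ≫ g.appTop ≫ inv f.appTop ≫ (Scheme.ΓSpecIso (CommRingCat.of (FractionRing R))).hom =
        (Scheme.ΓSpecIso (CommRingCat.of R)).hom ≫ CommRingCat.ofHom (algebraMap R (FractionRing R)) := by
      rw [← Scheme.ΓSpecIso_naturality, ← Category.assoc, ← Scheme.Hom.comp_appTop, hw,
        Scheme.Hom.comp_appTop, Category.assoc, IsIso.hom_inv_id_assoc]
    exact congrArg (fun φ => φ.hom t) h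
  have hR : Function.Bijective (Scheme.ΓSpecIso (CommRingCat.of R)).hom := ConcreteCategory.bijective_of_isIso _
  refine ⟨fun t t' h => hR.1 (IsFractionRing.injective R (FractionRing R) (by rw [← hρ, ← hρ, h])), fun y => ?_⟩
  obtain ⟨P, hP, hPy⟩ := isIntegral_appTop_of_universallyClosed p y
  have hint : IsIntegral R (a y) := by
    refine ⟨P.map (Scheme.ΓSpecIso (CommRingCat.of R)).hom.hom, hP.map _, ?_⟩
    rw [Polynomial.eval₂_map, show (algebraMap R (FractionRing R)).comp (Scheme.ΓSpecIso (CommRingCat.of R)).hom.hom =
      a.comp p.appTop.hom from RingHom.ext fun t => (hρ t).symm, ← Polynomial.hom_eval₂, hPy, map_zero]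
  obtain ⟨r, hr⟩ := IsIntegrallyClosed.isIntegral_iff.1 hint
  obtain ⟨t, rfl⟩ := hR.2 r
  exact ⟨t, ha ((hρ t).trans hr)⟩

/-- A proper model with trivial `H⁰` satisfies `p_* O_X = O_S`. -/
theorem isIso_app (hC : Curve.IsSmoothProperCurve (FractionRing R) C f) (hH0 : IsIso f.appTop)
    (hM : Models.IsModel R X p C f) [IsIntegral X] [IsProper p] (U : (Spec (CommRingCat.of R)).Opens) :
    IsIso (p.app U) := by
  classical
  haveI : CompactSpace X := QuasiCompact.compactSpace_of_compactSpace p
  haveI : QuasiSeparatedSpace X := quasiSeparatedSpace_of_quasiSeparated p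
  refine (ConcreteCategory.isIso_iff_bijective _).2 ?_
  have hb := bijective_appTop hC hH0 hM
  have hbasic : ∃ s : Γ(Spec (CommRingCat.of R), ⊤), U = (Spec (CommRingCat.of R)).basicOpen s := by
    by_cases hcl : closedPoint R ∈ U
    · refine ⟨1, ?_⟩
      rw [Scheme.basicOpen_of_isUnit _ isUnit_one]
      exact SetLike.coe_injective (Set.eq_univ_of_forall fun y =>
        (IsLocalRing.specializes_closedPoint y).mem_open U.isOpen hcl)
    · have hsub : ∀ y ∈ U, y.asIdeal = ⊥ := fun y hy => by
        by_contra h
        exact hcl ((PrimeSpectrum.ext (IsLocalRing.eq_maximalIdeal (y.isPrime.isMaximal h)) :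
          y = closedPoint R) ▸ hy)
      obtain ⟨π, hπ⟩ := IsDiscreteValuationRing.exists_irreducible R
      by_cases hne : (U : Set (Spec (CommRingCat.of R))).Nonempty
      · refine ⟨(Scheme.ΓSpecIso (CommRingCat.of R)).inv π, ?_⟩
        obtain ⟨y, hy⟩ := hne
        rw [basicOpen_eq_of_affine]
        refine SetLike.coe_injective (Set.ext fun z => ⟨fun hz => ?_, fun hz => ?_⟩)
        · show π ∉ z.asIdeal
          rw [hsub z hz]
          exact fun h => hπ.ne_zero h
        · by_cases hzb : z.asIdeal = ⊥
          · exact (PrimeSpectrum.ext ((hsub y hy).trans hzb.symm) : y = z) ▸ hy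
          · exfalso
            refine hz ?_
            show π ∈ z.asIdeal
            rw [IsLocalRing.eq_maximalIdeal (z.isPrime.isMaximal hzb), hπ.maximalIdeal_eq]
            exact Ideal.mem_span_singleton_self π
      · refine ⟨0, ?_⟩
        rw [Scheme.basicOpen_zero]
        exact SetLike.coe_injective (Set.not_nonempty_iff_eq_empty.1 hne)
  obtain ⟨s, rfl⟩ := hbasic
  exact bijective_app_basicOpen p hb s

/-- The closed fibre of a proper model with trivial `H⁰` is preconnected. -/
theorem isPreconnected_closedFibre (hC : Curve.IsSmoothProperCurve (FractionRing R) C f) (hH0 : IsIso f.appTop)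
    (hM : Models.IsModel R X p C f) [IsIntegral X] [IsProper p] :
    _root_.IsPreconnected {x : X | p.base x = closedPoint R} :=
  ArSurfBase.isPreconnected_fibre_of_isIso_app p (fun U _ => isIso_app hC hH0 hM U) (closedPoint R)

end Groth.Agent.MdlSurf
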