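import Groth.Agent.ArSurfBase.P1Base
import Groth.Agent.ArSurfBase.Inter
import Groth.Agent.ArSurfBase.FibreDiv
import Groth.Agent.CurveEmbed.Line
import Groth.Prelude.Def_ModelsG

/-!
# The numerical criterion for exceptional curves of the first kind
-/

set_option autoImplicit false
set_option linter.style.haveILetI false
set_option linter.unusedSectionVars false
set_option backward.isDefEq.respectTransparency false
set_option backward.isDefEq.respectTransparency.types false

universe u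

open CategoryTheory CategoryTheory.Limits AlgebraicGeometry IsLocalRing
open Groth.Agent.ArSurfBase

namespace Groth.Agent.MdlSurf

/-- A morphism from the projective line over a field to the spectrum of a field factors through the constants. -/
theorem exists_factor_line (κ : Type u) [Field κ] {k : Type u} [Field k]
    (g : CohB1.ProjSpace 1 κ ⟶ Spec (CommRingCat.of k)) :
    ∃ φ : k →+* κ, g = CohB1.ProjSpace.toSpec 1 κ ≫ Spec.map (CommRingCat.ofHom φ) := by
  haveI : IsIntegral (CohB1.ProjSpace 1 κ) := H23.PnChart.isIntegral_projSpace 1 κ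
  haveI : IsProper ((CohB1.ProjSpace 1 κ) ↘ Spec (CommRingCat.of κ)) := PnCoh.Chow.isProper_toSpec 1 κ
  letI := GeomField.globalAlgebra κ (CohB1.ProjSpace 1 κ)
  have h1 : Module.finrank κ Γ((CohB1.ProjSpace 1 κ), ⊤) = 1 := by
    rw [← GeomField.finrank_HH_zero]
    exact (finrank_line κ).1
  have hbij : Function.Bijective (algebraMap κ Γ((CohB1.ProjSpace 1 κ), ⊤)) := by
    haveI : Nontrivial Γ((CohB1.ProjSpace 1 κ), ⊤) := Module.nontrivial_of_finrank_pos (R := κ) (by rw [h1]; exact one_pos)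
    exact ⟨(algebraMap κ Γ((CohB1.ProjSpace 1 κ), ⊤)).injective,
      fun z => (Subalgebra.bot_eq_top_of_finrank_eq_one (F := κ) (E := Γ((CohB1.ProjSpace 1 κ), ⊤)) h1).ge (Algebra.mem_top (x := z))⟩
  let E := RingEquiv.ofBijective (algebraMap κ Γ((CohB1.ProjSpace 1 κ), ⊤)) hbij
  refine ⟨E.symm.toRingHom.comp (g.appTop.hom.comp (Scheme.ΓSpecIso (CommRingCat.of k)).inv.hom), ext_of_isAffine ?_⟩
  rw [Scheme.Hom.comp_appTop, ← cancel_epi (Scheme.ΓSpecIso (CommRingCat.of k)).inv,
    ← Category.assoc (Scheme.ΓSpecIso (CommRingCat.of k)).inv (Spec.map _).appTop,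
    ← Scheme.ΓSpecIso_inv_naturality]
  ext a
  show g.appTop.hom ((Scheme.ΓSpecIso (CommRingCat.of k)).inv.hom a) =
    E (E.symm (g.appTop.hom ((Scheme.ΓSpecIso (CommRingCat.of k)).inv.hom a)))
  exact (E.apply_symm_apply _).symm

theorem exists_line_aux {k κ : Type u} [Field k] [Field κ] [Algebra k κ] {X : Scheme.{u}}
    [X.Over (Spec (CommRingCat.of k))] [X.Over (Spec (CommRingCat.of κ))] [IsIntegral X]
    [IsProper (X ↘ Spec (CommRingCat.of k))]
    (hover : X ↘ Spec (CommRingCat.of k) =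
      X ↘ Spec (CommRingCat.of κ) ≫ Spec.map (CommRingCat.ofHom (algebraMap k κ)))
    (hκ0 : Module.finrank k (Coh.HH X (Coh.structureModule X) 0) = Module.finrank k κ)
    (hdim : topologicalKrullDim X = 1)
    (h1 : Module.finrank k (Coh.HH X (Coh.structureModule X) 1) = 0) {M : X.Modules} (hM : PicF.IsInvertible M)
    (hdeg : ArSurf.curveDeg k X M = (Module.finrank k (Coh.HH X (Coh.structureModule X) 0) : ℤ)) :
    ∃ e : CohB1.ProjSpace 1 κ ≅ X,
      Nonempty ((Scheme.Modules.pullback e.hom).obj M ≅ Twist.twistProjSpace 1 κ 1) := by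
  haveI := CurveCohLib.isNoetherian_of_proper (k := k) (X := X)
  haveI := CurveCohLib.finite_HH (k := k) (QCoh.isCoh_structureModule' (X := X)) 1
  haveI hsub : Subsingleton (Coh.HH X (Coh.structureModule X) 1) := Module.finrank_zero_iff.1 h1
  haveI : IsProper (X ↘ Spec (CommRingCat.of κ)) := by
    haveI : IsProper (X ↘ Spec (CommRingCat.of κ) ≫ Spec.map (CommRingCat.ofHom (algebraMap k κ))) := by
      rw [← hover]; exact ‹IsProper (X ↘ Spec (CommRingCat.of k))›
    exact IsProper.of_comp (X ↘ Spec (CommRingCat.of κ)) (Spec.map (CommRingCat.ofHom (algebraMap k κ)))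
  have hres := fun (N : X.Modules) (i : ℕ) => finrank_HH_restrict (k := k) (κ := κ) X hover N i
  have hpos : 0 < Module.finrank k κ := hκ0 ▸ CurveEmbed.h0_structure_pos k
  have hκ : Module.finrank κ (Coh.HH X (Coh.structureModule X) 0) = 1 := by
    have h := hres (Coh.structureModule X) 0
    rw [hκ0] at h
    exact (Nat.mul_eq_left hpos.ne').1 h.symm
  have hd : Curv2.deg κ X M 1 = 1 := by
    rw [← curveDeg_eq_deg hdim.le (AmpleVan.isCoh_invertible hM).1]
    simp only [ArSurf.curveDeg, FGA.eulerCharLE, Finset.sum_range_succ, Finset.sum_range_zero, hres] at hdeg ⊢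
    rw [hκ] at hdeg ⊢
    push_cast at hdeg ⊢
    refine mul_left_cancel₀ (show (Module.finrank k κ : ℤ) ≠ 0 by exact_mod_cast hpos.ne') ?_
    linarith
  have hN := CurveEmbed.h0_eq κ hdim hsub hM (by omega)
  rw [hκ, hd] at hN
  obtain ⟨i, hi, -, ⟨α⟩⟩ := CurveEmbed.exists_embedding κ hdim hsub hM (by omega) (N := 1) (by omega)
  haveI := hi
  haveI := CurveEmbed.isIso_of_closedImmersion_line κ hdim i
  refine ⟨(asIso i).symm, ⟨?_⟩⟩
  exact (Scheme.Modules.pullback (inv i)).mapIso α.symm ≪≫ (Scheme.Modules.pullbackComp (inv i) i).app _ ≪≫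
    (Scheme.Modules.pullbackCongr (IsIso.inv_hom_id i)).app _ ≪≫ (Scheme.Modules.pullbackId _).app _

/-- A curve with `H¹(O) = 0` and an invertible module of degree `dim H⁰(O)` is a projective line on which the
module is `O(1)`. -/
theorem exists_line {k : Type u} [Field k] {X : Scheme.{u}} [X.Over (Spec (CommRingCat.of k))] [IsIntegral X]
    [IsProper (X ↘ Spec (CommRingCat.of k))] (hdim : topologicalKrullDim X = 1)
    (h1 : Module.finrank k (Coh.HH X (Coh.structureModule X) 1) = 0) {M : X.Modules} (hM : PicF.IsInvertible M)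
    (hdeg : ArSurf.curveDeg k X M = (Module.finrank k (Coh.HH X (Coh.structureModule X) 0) : ℤ)) :
    ∃ (κ : Type u) (_ : Field κ) (e : CohB1.ProjSpace 1 κ ≅ X),
      Nonempty ((Scheme.Modules.pullback e.hom).obj M ≅ Twist.twistProjSpace 1 κ 1) := by
  let f := X ↘ Spec (CommRingCat.of k)
  letI : Field Γ(X, ⊤) := (isField_of_universallyClosed k f).toField
  letI algκ : Algebra k Γ(X, ⊤) := GeomField.globalAlgebra k X
  have hf : f = X.toSpecΓ ≫ Spec.map (CommRingCat.ofHom (algebraMap k Γ(X, ⊤))) := by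
    refine ext_of_isAffine ?_
    rw [Scheme.Hom.comp_appTop, Scheme.toSpecΓ_appTop, ← cancel_epi (Scheme.ΓSpecIso (CommRingCat.of k)).inv,
      ← Category.assoc (Scheme.ΓSpecIso (CommRingCat.of k)).inv (Spec.map _).appTop,
      ← Scheme.ΓSpecIso_inv_naturality, Category.assoc, Iso.inv_hom_id, Category.comp_id]
    rfl
  letI iκ : X.Over (Spec (CommRingCat.of Γ(X, ⊤))) := ⟨X.toSpecΓ⟩
  obtain ⟨e, he⟩ := exists_line_aux (k := k) (κ := Γ(X, ⊤)) hf (GeomField.finrank_HH_zero k X) hdim h1 hM hdeg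
  exact ⟨Γ(X, ⊤), inferInstance, e, he⟩

variable {R : Type u} [CommRing R] [IsDomain R] [IsDiscreteValuationRing R]
  {X : Over (Spec (CommRingCat.of R))}

/-- Exceptional curves of the first kind among the vertical prime divisors, numerically. -/
theorem isExcCurve_iff [IsProper X.hom] (Γ : ArSurf.VertComp R X) (hK : BlowUp.IsEffCartierIdeal Γ.ι.ker)
    {L : X.left.Modules} (hL : ClSub.IsInverseOf L (ClSub.idealMod Γ.ι.ker)) :
    Models.IsExcCurve Γ.ι ↔ Models.h1 R X Γ = 0 ∧ ArSurf.inter R X L Γ = -(Models.wdeg R X Γ : ℤ) := by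
  haveI := isProper_curve Γ
  have hKinv : PicF.IsInvertible (ClSub.idealMod Γ.ι.ker) := SurfInt.isInvertible_idealMod hK
  have hι : PicF.IsInvertible ((Scheme.Modules.pullback Γ.ι).obj (ClSub.idealMod Γ.ι.ker)) :=
    PicClLib.isInvertible_pullback Γ.ι hKinv
  have hLι : PicF.IsInvertible ((Scheme.Modules.pullback Γ.ι).obj L) :=
    PicClLib.isInvertible_pullback Γ.ι (SurfInt.isInvertible_of_inverseOf_right hKinv hL)
  have hneg : ArSurf.inter R X L Γ =
      - ArSurf.curveDeg (ResidueField R) Γ.curve.left ((Scheme.Modules.pullback Γ.ι).obj (ClSub.idealMod Γ.ι.ker)) :=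
    curveDeg_eq_neg_of_inverse (k := ResidueField R) Γ.dim_eq hLι hι (isInverseOf_pullback Γ hL)
  constructor
  · rintro ⟨-, κ, _, e, ⟨α⟩⟩
    obtain ⟨φ, hφ⟩ := exists_factor_line κ (e.hom ≫ Γ.curve.hom)
    letI : Algebra (ResidueField R) κ := φ.toAlgebra
    obtain ⟨u0, u1, udeg⟩ := line_over_subfield (k := ResidueField R) e hφ
    refine ⟨u1, ?_⟩
    rw [hneg, udeg _ hι ⟨(Scheme.Modules.pullbackComp e.hom Γ.ι).app _ ≪≫ α⟩, ← u0]
    rfl
  · rintro ⟨h1, hself⟩
    obtain ⟨κ, hκ, e, ⟨α⟩⟩ := exists_line (k := ResidueField R) Γ.dim_eq h1 hι (by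
      have := hneg.symm.trans hself
      rw [neg_inj] at this
      exact this)
    exact ⟨hK, κ, hκ, e, ⟨((Scheme.Modules.pullbackComp e.hom Γ.ι).app _).symm ≪≫ α⟩⟩

/-- Being exceptional of the first kind depends only on the support. -/
theorem isExcCurve_of_supp_eq {Γ Γ' : ArSurf.VertComp R X} (h : supp Γ = supp Γ')
    (hΓ : Models.IsExcCurve Γ.ι) : Models.IsExcCurve Γ'.ι := by
  obtain ⟨hK, κ, hκ, e, ⟨α⟩⟩ := hΓ
  have hker := ker_congr Γ h
  haveI : IsIso (IsClosedImmersion.lift Γ'.ι Γ.ι hker.ge) := IsClosedImmersion.isIso_lift _ _ hker.symm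
  let t := asIso (IsClosedImmersion.lift Γ'.ι Γ.ι hker.ge)
  have ht : (e ≪≫ t).hom ≫ Γ'.ι = e.hom ≫ Γ.ι := by
    rw [Iso.trans_hom, Category.assoc]
    exact congrArg (e.hom ≫ ·) (IsClosedImmersion.lift_fac _ _ _)
  exact ⟨hker ▸ hK, κ, hκ, e ≪≫ t, ⟨(Scheme.Modules.pullbackCongr ht).app _ ≪≫
    (Scheme.Modules.pullback (e.hom ≫ Γ.ι)).mapIso (eqToIso (by rw [hker])) ≪≫ α⟩⟩

/-- Every vertical prime divisor is a component of the closed fibre. -/
theorem exists_supp_eq [IsIntegral X.left] [Flat X.hom] [IsLocallyNoetherian X.left]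
    (hdim : topologicalKrullDim X.left = 2) {n : ℕ} {Γ : Fin n → ArSurf.VertComp R X}
    (hΓ : Models.IsComponentList R X Γ) (Δ : ArSurf.VertComp R X) : ∃ i, supp (Γ i) = supp Δ := by
  obtain ⟨i, hi⟩ := cover_of_isComponentList hΓ (hom_base_eq_closedPoint Δ (genPtOf_mem Δ))
  by_contra! hne
  exact genPtOf_notMem_supp hdim (fun e => hne i e.symm) hi

end Groth.Agent.MdlSurf
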