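import Groth.Agent.MdlSurf.ChiStep
import Groth.Agent.MdlSurf.Comp

/-!
# Euler characteristics of divisors supported on the closed fibre
-/

set_option autoImplicit false
set_option linter.style.haveILetI false
set_option linter.unusedSectionVars false
set_option backward.isDefEq.respectTransparency false
set_option backward.isDefEq.respectTransparency.types false

universe u

open CategoryTheory CategoryTheory.Limits AlgebraicGeometry IsLocalRing

noncomputable section

namespace Groth.Agent.MdlSurf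

theorem mul_le_right_ideal {Y : Scheme.{u}} (I J : Y.IdealSheafData) : I * J ≤ J := fun U => by
  rw [Scheme.IdealSheafData.ideal_mul, Pi.mul_apply]
  exact Ideal.mul_le_right

theorem prod_pow_le {Y : Scheme.{u}} {ι : Type*} (s : Finset ι) (I : ι → Y.IdealSheafData) {a b : ι → ℕ}
    (h : ∀ j ∈ s, a j ≤ b j) : ∏ j ∈ s, I j ^ b j ≤ ∏ j ∈ s, I j ^ a j := by
  have he : ∏ j ∈ s, I j ^ b j = (∏ j ∈ s, I j ^ (b j - a j)) * ∏ j ∈ s, I j ^ a j := by
    rw [← Finset.prod_mul_distrib]
    exact Finset.prod_congr rfl fun j hj => by rw [← pow_add, Nat.sub_add_cancel (h j hj)]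
  rw [he]
  exact mul_le_right_ideal _ _

variable {R : Type u} [CommRing R] [IsDomain R] [IsDiscreteValuationRing R]
  {C X : Scheme.{u}} {f : C ⟶ Spec (CommRingCat.of (FractionRing R))} {p : X ⟶ Spec (CommRingCat.of R)}
  {n : ℕ} {Γ : Fin n → ArSurf.VertComp R (Over.mk p)}

/-- The ideal of the divisor `Σ a_j Γ_j`. -/
def divIdeal (Γ : Fin n → ArSurf.VertComp R (Over.mk p)) (a : Fin n → ℕ) :
    (Over.mk p).left.IdealSheafData :=
  ∏ j, (Γ j).ι.ker ^ a j

theorem divIdeal_add (Γ : Fin n → ArSurf.VertComp R (Over.mk p)) (a : Fin n → ℕ) (i : Fin n) :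
    divIdeal Γ (a + Pi.single i 1) = (Γ i).ι.ker * divIdeal Γ a := by
  unfold divIdeal
  simp only [Pi.add_apply, pow_add]
  rw [Finset.prod_mul_distrib, mul_comm]
  congr 1
  rw [Finset.prod_eq_single i (fun j _ hj => by rw [Pi.single_eq_of_ne hj, pow_zero]) (by simp),
    Pi.single_eq_same, pow_one]

/-- `χ(D + Γ_i) = χ(D) - (D · Γ_i) + χ(Γ_i)`. -/
theorem chi_add_component (hC : Curve.IsSmoothProperCurve (FractionRing R) C f)
    (hX : Models.IsRegularProperModel R X p C f) (hΓ : Models.IsComponentList R (Over.mk p) Γ)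
    (L : Fin n → X.Modules) (hL : ∀ i, ClSub.IsInverseOf (L i) (ClSub.idealMod (Γ i).ι.ker))
    (a : Fin n → ℕ) (i : Fin n) (ha : ∀ j, a j + (Pi.single i 1 : Fin n → ℕ) j ≤ Models.mult R (Over.mk p) (Γ j)) :
    chi (R := R) (X := Over.mk p) (ClSub.quotMod (divIdeal Γ (a + Pi.single i 1))) =
      chi (R := R) (X := Over.mk p) (ClSub.quotMod (divIdeal Γ a)) +
        (-(∑ j, (a j : ℤ) * ArSurf.inter R (Over.mk p) (L i) (Γ j)) +
          ((Models.wdeg R (Over.mk p) (Γ i) : ℤ) - Models.h1 R (Over.mk p) (Γ i))) := by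
  obtain ⟨h1, h2, h3, h4, hdim, hreg⟩ := setup hC hX hΓ
  have hK := fun j => ArSurfBase.isEffCartier_ker (Γ j) hdim hreg
  have hfib : Models.specialFibreIdeal R (Over.mk p) ≤ divIdeal Γ (a + Pi.single i 1) := by
    rw [ArSurfBase.specialFibreIdeal_eq_prod hdim hreg Γ hΓ.1
      (fun x hx => ArSurfBase.cover_of_isComponentList hΓ hx)]
    exact prod_pow_le _ _ fun j _ => ha j
  rw [divIdeal_add] at hfib ⊢
  rw [chi_step (Γ i) (hK i) (show BlowUp.IsEffCartierIdeal (divIdeal Γ a) from
    ArSurfBase.isEffCartier_prod hdim hreg Finset.univ Γ a) hfib (mul_le_right_ideal _ _)]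
  congr 2
  show ArSurf.inter R (Over.mk p) (ClSub.idealMod (∏ j, (Γ j).ι.ker ^ a j)) (Γ i) = _
  rw [ArSurfBase.inter_idealMod_prod _ _ _ hK, ← Finset.sum_neg_distrib]
  refine Finset.sum_congr rfl fun j _ => ?_
  rw [← inter_symm' hC hX hΓ L hL i j, ArSurfBase.inter_eq_neg (Γ i) (SurfInt.isInvertible_idealMod (hK j)) (hL j),
    mul_neg, neg_neg]

end Groth.Agent.MdlSurf

namespace Groth.Agent.MdlSurf

open TopologicalSpace

theorem quad_step {ι : Type*} [Fintype ι] [DecidableEq ι] (A : ι → ι → ℤ) (hA : ∀ i j, A i j = A j i)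
    (b c e : ι → ℤ) (i : ι) (hc : ∀ j, c j = b j + if j = i then 1 else 0) :
    -(∑ k, ∑ j, c k * c j * A k j) + ∑ k, c k * (A k k + 2 * e k) =
      2 * (-(∑ j, b j * A j i) + e i) + (-(∑ k, ∑ j, b k * b j * A k j) + ∑ k, b k * (A k k + 2 * e k)) := by
  have h1 : ∀ F : ι → ℤ, ∑ k, c k * F k = (∑ k, b k * F k) + F i := fun F => by
    simp only [hc, add_mul, Finset.sum_add_distrib, ite_mul, one_mul, zero_mul, Finset.sum_ite_eq',
      Finset.mem_univ, if_true]
  have h2 : ∀ (x : ι → ℤ) (k : ι), ∑ j, x k * c j * A k j = x k * ((∑ j, b j * A k j) + A k i) := fun x k => by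
    rw [← h1 (A k), Finset.mul_sum]
    exact Finset.sum_congr rfl fun j _ => mul_assoc _ _ _
  have h3 : ∑ k, ∑ j, b k * b j * A k j = ∑ k, b k * ∑ j, b j * A k j :=
    Finset.sum_congr rfl fun k _ => by
      rw [Finset.mul_sum]
      exact Finset.sum_congr rfl fun j _ => mul_assoc _ _ _
  have h4 : ∑ j, b j * A i j = ∑ j, b j * A j i := Finset.sum_congr rfl fun j _ => by rw [hA]
  rw [Finset.sum_congr rfl fun k _ => h2 c k, h1, h1, h3, h4]
  simp only [mul_add, Finset.sum_add_distrib]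
  ring

theorem subsingleton_HH_quotMod_one {Y : Scheme.{u}} [IsLocallyNoetherian Y] (i : ℕ) :
    Subsingleton (Coh.HH Y (ClSub.quotMod (1 : Y.IdealSheafData)) i) := by
  have hsupp : ((1 : Y.IdealSheafData).support : Set Y) = ∅ := by
    refine Set.eq_empty_of_forall_notMem fun x hx => ?_
    obtain ⟨U, hU⟩ := ArSurfBase.exists_affine x
    exact (CDivEq.mem_support_iff (1 : Y.IdealSheafData) U hU).1 hx (ArSurfBase.stk_one U hU)
  have hs := Set.subset_eq_empty (ArSurfBase.support_quotMod_subset (1 : Y.IdealSheafData)) hsupp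
  have hz : IsZero (ClSub.quotMod (1 : Y.IdealSheafData)) :=
    CurveCohLib.isZero_of_subsingleton_stalks fun x =>
      not_not.1 fun hx => (hs.subset hx : x ∈ (∅ : Set Y))
  exact Euler.subsingleton_HH_of_isZero hz i

variable {R : Type u} [CommRing R] [IsDomain R] [IsDiscreteValuationRing R]
  {C X : Scheme.{u}} {f : C ⟶ Spec (CommRingCat.of (FractionRing R))} {p : X ⟶ Spec (CommRingCat.of R)}
  {n : ℕ} {Γ : Fin n → ArSurf.VertComp R (Over.mk p)}

theorem n_pos (hC : Curve.IsSmoothProperCurve (FractionRing R) C f)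
    (hX : Models.IsRegularProperModel R X p C f) (hΓ : Models.IsComponentList R (Over.mk p) Γ) : 0 < n := by
  haveI := isIntegral hC hX.1 hX.2.2
  haveI := hX.2.1
  haveI : CompactSpace X := QuasiCompact.compactSpace_of_compactSpace p
  obtain ⟨z, -, hz⟩ := IsClosed.exists_closed_singleton (isClosed_univ (X := X)) Set.univ_nonempty
  have hne : (p.base z).asIdeal ≠ ⊥ :=
    ArSurfBase.asIdeal_ne_bot_of_isClosed p (IsDiscreteValuationRing.not_isField R) hz
  obtain ⟨i, -⟩ := ArSurfBase.cover_of_isComponentList hΓ (x := z)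
    (PrimeSpectrum.ext (IsLocalRing.eq_maximalIdeal ((p.base z).isPrime.isMaximal hne)))
  exact i.pos

theorem mult_pos (hC : Curve.IsSmoothProperCurve (FractionRing R) C f)
    (hX : Models.IsRegularProperModel R X p C f) (hΓ : Models.IsComponentList R (Over.mk p) Γ) (i : Fin n) :
    0 < Models.mult R (Over.mk p) (Γ i) := by
  obtain ⟨h1, h2, h3, h4, hdim, hreg⟩ := setup hC hX hΓ
  exact (ArSurfBase.map_maximalIdeal_genPtOf hdim hreg (Γ i)).2

theorem two_chi_divIdeal (hC : Curve.IsSmoothProperCurve (FractionRing R) C f)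
    (hX : Models.IsRegularProperModel R X p C f) (hΓ : Models.IsComponentList R (Over.mk p) Γ)
    (L : Fin n → X.Modules) (hL : ∀ i, ClSub.IsInverseOf (L i) (ClSub.idealMod (Γ i).ι.ker)) :
    ∀ a : Fin n → ℕ, (∀ j, a j ≤ Models.mult R (Over.mk p) (Γ j)) →
      2 * chi (R := R) (X := Over.mk p) (ClSub.quotMod (divIdeal Γ a)) =
        -(∑ i, ∑ j, (a i : ℤ) * a j * ArSurf.inter R (Over.mk p) (L j) (Γ i)) +
          ∑ i, (a i : ℤ) * (ArSurf.inter R (Over.mk p) (L i) (Γ i) +
            2 * ((Models.wdeg R (Over.mk p) (Γ i) : ℤ) - Models.h1 R (Over.mk p) (Γ i))) := by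
  haveI : IsLocallyNoetherian (Over.mk p).left := isLocallyNoetherian hX.1
  suffices H : ∀ (N : ℕ) (a : Fin n → ℕ), ∑ j, a j = N → (∀ j, a j ≤ Models.mult R (Over.mk p) (Γ j)) →
      2 * chi (R := R) (X := Over.mk p) (ClSub.quotMod (divIdeal Γ a)) =
        -(∑ i, ∑ j, (a i : ℤ) * a j * ArSurf.inter R (Over.mk p) (L j) (Γ i)) +
          ∑ i, (a i : ℤ) * (ArSurf.inter R (Over.mk p) (L i) (Γ i) +
            2 * ((Models.wdeg R (Over.mk p) (Γ i) : ℤ) - Models.h1 R (Over.mk p) (Γ i))) from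
    fun a ha => H _ a rfl ha
  intro N
  induction N with
  | zero =>
    intro a ha _
    have h0 : a = 0 := funext fun j => Finset.sum_eq_zero_iff.1 ha j (Finset.mem_univ j)
    subst h0
    have hI : divIdeal Γ (0 : Fin n → ℕ) = 1 := Finset.prod_eq_one fun j _ => pow_zero _
    have hl : ∀ i, Models.lengthH R (Over.mk p) (ClSub.quotMod (1 : (Over.mk p).left.IdealSheafData)) i = 0 :=
      fun i => by
        haveI := subsingleton_HH_quotMod_one (Y := (Over.mk p).left) i
        rw [Models.lengthH, Module.length_eq_zero]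
        rfl
    rw [hI, chi, hl, hl]
    simp
  | succ N ih =>
    intro a ha hle
    obtain ⟨i, hi⟩ : ∃ i, 0 < a i := by
      by_contra hcon
      simp only [not_exists, not_lt, Nat.le_zero] at hcon
      simp [hcon] at ha
    let b : Fin n → ℕ := Function.update a i (a i - 1)
    have hab : a = b + Pi.single i 1 := by
      funext j
      rcases eq_or_ne j i with rfl | hj
      · simp [b]; omega
      · simp [b, Function.update_of_ne hj, Pi.single_eq_of_ne hj]
    have hba : ∀ j, a j = b j + (Pi.single i 1 : Fin n → ℕ) j := fun j => congrFun hab j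
    have hsum : ∑ j, b j = N := by
      rw [hab] at ha
      simp only [Pi.add_apply, Finset.sum_add_distrib, Finset.sum_pi_single', Finset.mem_univ, if_true] at ha
      omega
    have hb : ∀ j, b j ≤ Models.mult R (Over.mk p) (Γ j) := fun j => by
      have := hle j; have := hba j; omega
    rw [hab, chi_add_component hC hX hΓ L hL b i (fun j => by rw [← hba j]; exact hle j), mul_add,
      ih b hsum hb]
    rw [← hab, add_comm]
    exact (quad_step (fun k j => ArSurf.inter R (Over.mk p) (L j) (Γ k))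
      (fun k j => inter_symm' hC hX hΓ L hL k j) (fun j => (b j : ℤ)) (fun j => (a j : ℤ))
      (fun k => (Models.wdeg R (Over.mk p) (Γ k) : ℤ) - Models.h1 R (Over.mk p) (Γ k)) i (fun j => by
        show (a j : ℤ) = (b j : ℤ) + _
        rw [hba j, Pi.single_apply]
        push_cast
        rfl)).symm

/-- The adjunction formula summed over the closed fibre. -/
theorem genus_formula (hC : Curve.IsSmoothProperCurve (FractionRing R) C f) (hH0 : IsIso f.appTop)
    (hX : Models.IsRegularProperModel R X p C f) (hΓ : Models.IsComponentList R (Over.mk p) Γ)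
    (L : Fin n → X.Modules) (hL : ∀ i, ClSub.IsInverseOf (L i) (ClSub.idealMod (Γ i).ι.ker)) :
    2 * (Models.curveGenus (FractionRing R) C f : ℤ) =
      2 + ∑ i, (Models.mult R (Over.mk p) (Γ i) : ℤ) *
        (2 * ((Models.h1 R (Over.mk p) (Γ i) : ℤ) - (Models.wdeg R (Over.mk p) (Γ i) : ℤ)) -
          ArSurf.inter R (Over.mk p) (L i) (Γ i)) := by
  obtain ⟨h1, h2, h3, h4, hdim, hreg⟩ := setup hC hX hΓ
  haveI : IsProper p := h1
  haveI : Flat p := h3
  haveI : IsIntegral X := h2
  obtain ⟨g, hg⟩ := hX.1.2.2.2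
  have he := (euler_specialFibre f p (le_of_eq hdim) hg hH0).2.2
  rw [ArSurfBase.specialFibreIdeal_eq_prod hdim hreg Γ hΓ.1
    (fun x hx => ArSurfBase.cover_of_isComponentList hΓ hx)] at he
  have h := two_chi_divIdeal hC hX hΓ L hL (fun j => Models.mult R (Over.mk p) (Γ j)) fun j => le_rfl
  have hQ : (∑ i, ∑ j, (Models.mult R (Over.mk p) (Γ i) : ℤ) * Models.mult R (Over.mk p) (Γ j) *
      ArSurf.inter R (Over.mk p) (L j) (Γ i)) = 0 :=
    Finset.sum_eq_zero fun i _ => by
      simp only [mul_assoc]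
      rw [← Finset.mul_sum, row_sum hC hX hΓ L hL i, mul_zero]
  rw [hQ, neg_zero, zero_add] at h
  have hneg : ∑ i, (Models.mult R (Over.mk p) (Γ i) : ℤ) *
        (2 * ((Models.h1 R (Over.mk p) (Γ i) : ℤ) - (Models.wdeg R (Over.mk p) (Γ i) : ℤ)) -
          ArSurf.inter R (Over.mk p) (L i) (Γ i)) =
      -∑ i, (Models.mult R (Over.mk p) (Γ i) : ℤ) * (ArSurf.inter R (Over.mk p) (L i) (Γ i) +
            2 * ((Models.wdeg R (Over.mk p) (Γ i) : ℤ) - Models.h1 R (Over.mk p) (Γ i))) := by
    rw [← Finset.sum_neg_distrib]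
    exact Finset.sum_congr rfl fun i _ => by ring
  rw [hneg, ← h]
  have he' : chi (R := R) (X := Over.mk p)
      (ClSub.quotMod (divIdeal Γ fun j => Models.mult R (Over.mk p) (Γ j))) = _ := he
  rw [he']
  ring

end Groth.Agent.MdlSurf
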