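import Groth.Agent.MdlSurf.FibreSeq
import Groth.Agent.AssLib.Basic
import Groth.Agent.QCoh.FlatBC
import Groth.Agent.CurveBC.Coh
import Groth.Agent.Snapper.DimVanish
import Groth.Agent.ArSurfBase.FibreDiv
import Groth.Agent.GeomField.GlobalFunctions
import Groth.Agent.ParShLib.ResStalk

/-!
# The Euler characteristic of the closed fibre equals that of the generic fibre
-/

set_option autoImplicit false
set_option linter.style.haveILetI false
set_option linter.unusedSectionVars false
set_option backward.isDefEq.respectTransparency false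
set_option backward.isDefEq.respectTransparency.types false

universe u

open CategoryTheory CategoryTheory.Limits AlgebraicGeometry IsLocalRing TopologicalSpace TensorProduct

noncomputable section

namespace Groth.Agent.MdlSurf

variable {R : Type u} [CommRing R] [IsDomain R] [IsDiscreteValuationRing R]

/-- A finite module killed by a power of the uniformiser has finite length. -/
theorem length_ne_top_of_pow {π : R} (hπ : Irreducible π) {M : Type u} [AddCommGroup M] [Module R M]
    [Module.Finite R M] {n : ℕ} (h : ∀ x : M, π ^ n • x = 0) : Module.length R M ≠ ⊤ := by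
  rcases subsingleton_or_nontrivial M with hM | hM
  · rw [Module.length_eq_zero]; exact ENat.zero_ne_top
  · refine Module.length_ne_top_iff.2 (AssLib.isFiniteLength_of_pow_le_annihilator R M (n := n) ?_)
    rw [hπ.maximalIdeal_eq, Ideal.span_singleton_pow, Ideal.span_singleton_le_iff_mem]
    exact Module.mem_annihilator.2 h

theorem length_ker_add_range {A B : Type u} [AddCommGroup A] [Module R A] [AddCommGroup B] [Module R B]
    (g : A →ₗ[R] B) : Module.length R A = Module.length R (LinearMap.ker g) + Module.length R (LinearMap.range g) :=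
  Module.length_eq_add_of_exact (LinearMap.ker g).subtype g.rangeRestrict (Submodule.subtype_injective _)
    g.surjective_rangeRestrict (LinearMap.exact_iff.2 (by rw [LinearMap.ker_rangeRestrict, Submodule.range_subtype]))

theorem length_submodule_prod {A B : Type u} [AddCommGroup A] [Module R A] [AddCommGroup B] [Module R B]
    (P : Submodule R A) (Q : Submodule R B) :
    Module.length R (P.prod Q) = Module.length R P + Module.length R Q := by
  let e : P.prod Q ≃ₗ[R] P × Q :=
    { toFun := fun x => (⟨x.1.1, x.2.1⟩, ⟨x.1.2, x.2.2⟩)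
      invFun := fun x => ⟨(x.1.1, x.2.1), x.1.2, x.2.2⟩
      map_add' := fun _ _ => rfl
      map_smul' := fun _ _ => rfl
      left_inv := fun _ => rfl
      right_inv := fun _ => rfl }
  rw [e.length_eq, Module.length_prod]

theorem length_eq_ker_add_coker {A B : Type u} [AddCommGroup A] [Module R A] [AddCommGroup B] [Module R B]
    (g : A →ₗ[R] A) (d : B →ₗ[R] B) (e : A ≃ₗ[R] B) (h : ∀ x, e (g x) = d (e x)) :
    Module.length R (LinearMap.ker g) = Module.length R (LinearMap.ker d) ∧
      Module.length R (A ⧸ LinearMap.range g) = Module.length R (B ⧸ LinearMap.range d) := by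
  refine ⟨(e.ofSubmodules _ _ ?_).length_eq, (Submodule.Quotient.equiv _ _ e ?_).length_eq⟩
  · ext y
    simp only [Submodule.mem_map, LinearMap.mem_ker]
    refine ⟨?_, fun hy => ⟨e.symm y, e.injective ?_, e.apply_symm_apply y⟩⟩
    · rintro ⟨x, hx, rfl⟩
      show d (e x) = 0
      rw [← h, hx, map_zero]
    · rw [h, e.apply_symm_apply, hy, map_zero]
  · ext y
    simp only [Submodule.mem_map, LinearMap.mem_range]
    refine ⟨?_, ?_⟩
    · rintro ⟨_, ⟨x, rfl⟩, rfl⟩
      exact ⟨e x, (h x).symm⟩
    · rintro ⟨z, rfl⟩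
      exact ⟨g (e.symm z), ⟨_, rfl⟩, by rw [LinearEquiv.coe_coe, h, e.apply_symm_apply]⟩

/-- For a finite module over a discrete valuation ring, `ℓ(M/πM) - ℓ(M[π])` is the rank. -/
theorem length_quot_eq_length_ker_add_rank {π : R} (hπ : Irreducible π) (M : Type u) [AddCommGroup M] [Module R M]
    [Module.Finite R M] :
    Module.length R (LinearMap.ker (π • LinearMap.id : M →ₗ[R] M)) ≠ ⊤ ∧
      Module.length R (M ⧸ LinearMap.range (π • LinearMap.id : M →ₗ[R] M)) =
        Module.length R (LinearMap.ker (π • LinearMap.id : M →ₗ[R] M)) +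
          (Module.finrank (FractionRing R) (FractionRing R ⊗[R] M) : ℕ∞) := by
  haveI : IsNoetherian R M := isNoetherian_of_isNoetherianRing_of_finite R M
  let T := Submodule.torsion R M
  haveI : Module.Free R (M ⧸ T) := Module.free_of_finite_type_torsion_free'
  obtain ⟨s, hs⟩ := Module.projective_lifting_property T.mkQ LinearMap.id (Submodule.mkQ_surjective T)
  have hs' : ∀ q, T.mkQ (s q) = q := LinearMap.congr_fun hs
  have hT : ∀ x : M, x - s (T.mkQ x) ∈ T := fun x =>
    (Submodule.Quotient.eq T).1 (hs' (T.mkQ x)).symm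
  let e : M ≃ₗ[R] T × (M ⧸ T) := LinearEquiv.ofLinearMap
    (LinearMap.prod (LinearMap.codRestrict T (LinearMap.id - s.comp T.mkQ) hT) T.mkQ)
    (T.subtype.coprod s)
    (LinearMap.ext fun ⟨t, q⟩ => by
      have ht : T.mkQ (t : M) = 0 := (Submodule.Quotient.mk_eq_zero T).2 t.2
      refine Prod.ext (Subtype.ext ?_) ?_
      · show (t : M) + s q - s (T.mkQ ((t : M) + s q)) = t
        rw [map_add, ht, zero_add, hs', add_sub_cancel_right]
      · show T.mkQ ((t : M) + s q) = q
        rw [map_add, ht, zero_add, hs'])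
    (LinearMap.ext fun x => sub_add_cancel x (s (T.mkQ x)))
  have htor : ∀ x : T, ∃ c : R, c ≠ 0 ∧ c • x = 0 := fun x => by
    obtain ⟨⟨c, hc⟩, hcx⟩ := x.2
    exact ⟨c, nonZeroDivisors.ne_zero hc, Subtype.ext hcx⟩
  haveI : Module.Finite R T := Module.Finite.iff_fg.2 (IsNoetherian.noetherian T)
  obtain ⟨n, hn⟩ : ∃ n, ∀ x : T, π ^ n • x = 0 := by
    obtain ⟨S, hS⟩ := Module.Finite.fg_top (R := R) (M := T)
    have : ∀ x : T, ∃ n, π ^ n • x = 0 := fun x => by
      obtain ⟨c, hc, hcx⟩ := htor x
      obtain ⟨n, v, rfl⟩ := IsDiscreteValuationRing.eq_unit_mul_pow_irreducible hc hπ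
      refine ⟨n, ?_⟩
      have := congrArg (fun z => ((v⁻¹ : Rˣ) : R) • z) hcx
      simpa [smul_smul, ← mul_assoc] using this
    choose nf hnf using this
    refine ⟨S.sup nf, fun x => ?_⟩
    have hx : x ∈ Submodule.span R (S : Set T) := hS ▸ Submodule.mem_top
    induction hx using Submodule.span_induction with
    | mem y hy =>
      obtain ⟨d, hd⟩ := Nat.exists_eq_add_of_le (Finset.le_sup (f := nf) hy)
      rw [hd, pow_add, mul_comm, mul_smul, hnf, smul_zero]
    | zero => exact smul_zero _
    | add a b _ _ ha hb => rw [smul_add, ha, hb, add_zero]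
    | smul r a _ ha => rw [smul_comm, ha, smul_zero]
  have hTlen : Module.length R T ≠ ⊤ := length_ne_top_of_pow hπ hn
  -- torsion part
  have hTker : Module.length R (LinearMap.ker (π • LinearMap.id : T →ₗ[R] T)) ≠ ⊤ :=
    ne_top_of_le_ne_top hTlen (Module.length_le_of_injective _ (Submodule.subtype_injective _))
  have hTeq : Module.length R (T ⧸ LinearMap.range (π • LinearMap.id : T →ₗ[R] T)) =
      Module.length R (LinearMap.ker (π • LinearMap.id : T →ₗ[R] T)) := by
    have h1 := length_ker_add_range (π • LinearMap.id : T →ₗ[R] T)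
    have h2 : Module.length R T = Module.length R (LinearMap.range (π • LinearMap.id : T →ₗ[R] T)) +
        Module.length R (T ⧸ LinearMap.range (π • LinearMap.id : T →ₗ[R] T)) :=
      Module.length_eq_add_of_exact (Submodule.subtype _) (Submodule.mkQ _) (Submodule.subtype_injective _)
        (Submodule.mkQ_surjective _) (LinearMap.exact_subtype_mkQ _)
    have h3 : Module.length R (LinearMap.range (π • LinearMap.id : T →ₗ[R] T)) ≠ ⊤ :=
      ne_top_of_le_ne_top hTlen (Module.length_le_of_injective _ (Submodule.subtype_injective _))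
    exact ENat.add_left_injective_of_ne_top h3 ((add_comm _ _).trans (h2.symm.trans h1))
  -- free part
  let Q := M ⧸ T
  obtain ⟨hkF, hrF⟩ : LinearMap.ker (π • LinearMap.id : Q →ₗ[R] Q) = ⊥ ∧
      Module.length R (Q ⧸ LinearMap.range (π • LinearMap.id : Q →ₗ[R] Q)) = (Module.finrank R Q : ℕ∞) := by
    refine ⟨LinearMap.ker_eq_bot'.2 fun x hx => (smul_eq_zero.1 hx).resolve_left hπ.ne_zero, ?_⟩
    let b := Module.finBasis R Q
    let pr : Q →ₗ[R] (Fin (Module.finrank R Q) → R ⧸ maximalIdeal R) :=
      (LinearMap.pi fun i => (Ideal.Quotient.mkₐ R (maximalIdeal R)).toLinearMap.comp (LinearMap.proj i)).comp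
        b.equivFun.toLinearMap
    have hpr : Function.Surjective pr := fun y => by
      choose z hz using fun i => Ideal.Quotient.mk_surjective (y i)
      refine ⟨b.equivFun.symm z, funext fun i => ?_⟩
      show Ideal.Quotient.mk _ (b.equivFun (b.equivFun.symm z) i) = y i
      rw [LinearEquiv.apply_symm_apply]
      exact hz i
    have hker : LinearMap.range (π • LinearMap.id : Q →ₗ[R] Q) = LinearMap.ker pr := by
      ext x
      constructor
      · rintro ⟨y, rfl⟩
        refine LinearMap.mem_ker.2 (funext fun i => ?_)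
        simp only [pr, LinearMap.comp_apply, LinearMap.pi_apply, LinearMap.proj_apply, LinearEquiv.coe_coe,
          LinearMap.smul_apply, LinearMap.id_apply, map_smul, Pi.smul_apply, AlgHom.toLinearMap_apply,
          Ideal.Quotient.mkₐ_eq_mk, Pi.zero_apply]
        show Ideal.Quotient.mk _ (π * b.equivFun y i) = 0
        exact Ideal.Quotient.eq_zero_iff_mem.2 (Ideal.mul_mem_right _ _
          (by rw [hπ.maximalIdeal_eq]; exact Ideal.mem_span_singleton_self π))
      · intro hx
        have : ∀ i, ∃ c, π * c = b.equivFun x i := fun i => by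
          have h1 := congrFun (LinearMap.mem_ker.1 hx) i
          have h2 : b.equivFun x i ∈ maximalIdeal R := Ideal.Quotient.eq_zero_iff_mem.1 h1
          rw [hπ.maximalIdeal_eq, Ideal.mem_span_singleton] at h2
          exact ⟨_, h2.choose_spec.symm⟩
        choose c hc using this
        refine ⟨b.equivFun.symm c, b.equivFun.injective ?_⟩
        simp only [LinearMap.smul_apply, LinearMap.id_apply, map_smul, LinearEquiv.apply_symm_apply]
        exact funext hc
    haveI : IsSimpleModule R (R ⧸ maximalIdeal R) :=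
      isSimpleModule_iff_isCoatom.2 (IsLocalRing.maximalIdeal.isMaximal R).out
    rw [hker, (pr.quotKerEquivOfSurjective hpr).length_eq, Module.length_pi_of_fintype]
    simp [Module.length_eq_one]
  -- rank
  have hrank : Module.finrank (FractionRing R) (FractionRing R ⊗[R] M) = Module.finrank R Q := by
    haveI : Subsingleton (FractionRing R ⊗[R] T) := by
      refine subsingleton_of_forall_eq 0 fun z => ?_
      induction z using TensorProduct.induction_on with
      | zero => rfl
      | add a b ha hb => rw [ha, hb, add_zero]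
      | tmul a x =>
        obtain ⟨c, hc, hcx⟩ := htor x
        have hu : algebraMap R (FractionRing R) c ≠ 0 :=
          (map_ne_zero_iff _ (IsFractionRing.injective R (FractionRing R))).2 hc
        rw [show a = c • ((algebraMap R (FractionRing R) c)⁻¹ * a) by
          rw [Algebra.smul_def, ← mul_assoc, mul_inv_cancel₀ hu, one_mul], TensorProduct.smul_tmul, hcx,
          TensorProduct.tmul_zero]
    rw [(TensorProduct.AlgebraTensorModule.congr (LinearEquiv.refl (FractionRing R) (FractionRing R)) e).finrank_eq,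
      (TensorProduct.prodRight R (FractionRing R) (FractionRing R) T Q).finrank_eq, Module.finrank_prod,
      Module.finrank_zero_of_subsingleton, zero_add, Module.finrank_baseChange]
  obtain ⟨he1, he2⟩ := length_eq_ker_add_coker (π • LinearMap.id : M →ₗ[R] M)
    ((π • LinearMap.id : T →ₗ[R] T).prodMap (π • LinearMap.id : Q →ₗ[R] Q)) e fun x => map_smul e π x
  haveI : Subsingleton (⊥ : Submodule R Q) := inferInstance
  have hk : Module.length R (LinearMap.ker (π • LinearMap.id : M →ₗ[R] M)) =
      Module.length R (LinearMap.ker (π • LinearMap.id : T →ₗ[R] T)) := by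
    rw [he1, LinearMap.ker_prodMap, length_submodule_prod, hkF,
      Module.length_eq_zero (M := (⊥ : Submodule R Q)), add_zero]
  refine ⟨hk ▸ hTker, ?_⟩
  rw [hk, he2, LinearMap.range_prodMap, hrank]
  let u := (LinearMap.range (π • LinearMap.id : T →ₗ[R] T)).mkQ.prodMap
    (LinearMap.range (π • LinearMap.id : Q →ₗ[R] Q)).mkQ
  have hu : LinearMap.ker u =
      (LinearMap.range (π • LinearMap.id : T →ₗ[R] T)).prod (LinearMap.range (π • LinearMap.id : Q →ₗ[R] Q)) := by
    rw [LinearMap.ker_prodMap, Submodule.ker_mkQ, Submodule.ker_mkQ]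
  rw [((Submodule.quotEquivOfEq _ _ hu.symm).trans (u.quotKerEquivOfSurjective
    (Prod.map_surjective.2 ⟨Submodule.mkQ_surjective _, Submodule.mkQ_surjective _⟩))).length_eq,
    Module.length_prod, hTeq, hrF]

theorem dim_subspace_le_one {Y : Scheme.{u}} [IsIntegral Y] (hY : topologicalKrullDim Y ≤ 2) {C : Set Y}
    (hC : IsClosed C) (hη : genericPoint Y ∉ C) : topologicalKrullDim C ≤ 1 := by
  by_contra h
  rw [not_le] at h
  have h2 : (2 : WithBot ℕ∞) ≤ topologicalKrullDim C := Order.succ_le_of_lt h
  obtain ⟨s, hs⟩ := Order.le_krullDim_iff.1 h2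
  let m : IrreducibleCloseds C → IrreducibleCloseds Y := IrreducibleCloseds.map Subtype.val continuous_subtype_val
  have hm : StrictMono m := IrreducibleCloseds.map_strictMono_of_isInducing Topology.IsInducing.subtypeVal
  let top : IrreducibleCloseds Y := ⟨Set.univ, IrreducibleSpace.isIrreducible_univ Y, isClosed_univ⟩
  let t : LTSeries (IrreducibleCloseds Y) := (s.map m hm).snoc top <| by
    show m s.last < top
    refine lt_of_le_of_ne (show (m s.last : Set Y) ⊆ Set.univ from Set.subset_univ _) fun he => hη ?_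
    have hsub : (m s.last : Set Y) ⊆ C :=
      closure_minimal (fun x ⟨c, _, hc⟩ => hc ▸ c.2) hC
    exact hsub (by rw [show m s.last = top from he]; trivial)
  have h3 : ((t.length : ℕ) : WithBot ℕ∞) ≤ topologicalKrullDim Y := Order.LTSeries.length_le_krullDim t
  have h4 : t.length = 3 := by
    show s.length + 1 = 3
    rw [hs]
  rw [h4] at h3
  exact absurd (h3.trans hY) (by decide)

section Euler

variable {C X : Scheme.{u}} (f : C ⟶ Spec (CommRingCat.of (FractionRing R))) (p : X ⟶ Spec (CommRingCat.of R))

/-- The Euler characteristic of the closed fibre is that of the generic fibre. -/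
theorem euler_specialFibre [IsProper p] [Flat p] [IsIntegral X] (hdim : topologicalKrullDim X ≤ 2)
    {g : C ⟶ X} (hg : IsPullback g f p (Spec.map (CommRingCat.ofHom (algebraMap R (FractionRing R)))))
    (hH0 : IsIso f.appTop) :
    Module.length R (Coh.HH (Over.mk p).left (ClSub.quotMod (Models.specialFibreIdeal R (Over.mk p))) 0) ≠ ⊤ ∧
    Module.length R (Coh.HH (Over.mk p).left (ClSub.quotMod (Models.specialFibreIdeal R (Over.mk p))) 1) ≠ ⊤ ∧
    (Models.lengthH R (Over.mk p) (ClSub.quotMod (Models.specialFibreIdeal R (Over.mk p))) 0 : ℤ) -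
      Models.lengthH R (Over.mk p) (ClSub.quotMod (Models.specialFibreIdeal R (Over.mk p))) 1 =
      1 - Models.curveGenus (FractionRing R) C f := by
  obtain ⟨π, hπ⟩ := IsDiscreteValuationRing.exists_irreducible R
  letI : X.Over (Spec (CommRingCat.of R)) := ⟨p⟩
  haveI : IsProper (X ↘ Spec (CommRingCat.of R)) := ‹_›
  letI : C.Over (Spec (CommRingCat.of (FractionRing R))) := ⟨f⟩
  haveI : CompactSpace X := QuasiCompact.compactSpace_of_compactSpace p
  haveI : IsLocallyNoetherian X := LocallyOfFiniteType.isLocallyNoetherian p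
  haveI : IsNoetherian X := {}
  haveI : X.IsSeparated := ⟨by
    rw [← terminal.comp_from p]
    infer_instance⟩
  let I : X.IdealSheafData := Models.specialFibreIdeal R (Over.mk p)
  have hI : IsGenBy (Coh.toGlobal p π) I := isGenBy_specialFibreIdeal p hπ
  have hS := mulSeq_shortExact hI (map_toGlobal_mem_nonZeroDivisors p hπ.ne_zero)
  have hfin : ∀ i, Module.Finite R (Coh.HH X (Coh.structureModule X) i) := fun i =>
    S0002.result R X _ QCoh.isCoh_structureModule' i
  have hfun : ∀ i, PnCoh.Finite.mapLin R (mulSeq hI).f i = (π • LinearMap.id :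
      Coh.HH X (Coh.structureModule X) i →ₗ[R] Coh.HH X (Coh.structureModule X) i) :=
    fun i => LinearMap.ext fun x => mapLin_mulHom R π i x
  have hvan : Subsingleton (Coh.HH X (ClSub.quotMod I) 2) := by
    refine Snapper.subsingleton_HH_of_dim_lt 2 I.support ?_ _
      (ParShLib.isCoh_quotMod I).1 (ArSurfBase.support_quotMod_subset I) 2 le_rfl
    refine lt_of_le_of_lt (dim_subspace_le_one hdim I.support.isClosed fun h => ?_) (by decide)
    have h' := ArSurfBase.mem_support_specialFibreIdeal_iff (X := Over.mk p) |>.1 h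
    exact ArSurfBase.ne_genericPoint p (by
      rw [show p.base (genericPoint X) = closedPoint R from h']
      exact IsDiscreteValuationRing.not_a_field R) rfl
  let H := fun i => Coh.HH X (Coh.structureModule X) i
  -- degree two
  have hf2 : ∀ x : H 2, ∃ y, π • y = x := fun x => by
    have hx : x ∈ LinearMap.ker (PnCoh.Finite.mapLin R (mulSeq hI).g 2) :=
      LinearMap.mem_ker.2 (@Subsingleton.elim _ hvan _ _)
    rw [CurveCohLib.ker_mapLin_g R hS 2] at hx
    obtain ⟨y, hy⟩ := hx
    exact ⟨y, (mapLin_mulHom R π 2 y).symm.trans hy⟩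
  have hH2 : ∀ x : H 2, x = 0 := fun x => by
    have h := Submodule.eq_bot_of_le_smul_of_le_jacobson_bot (maximalIdeal R) (⊤ : Submodule R (H 2))
      ((hfin 2).fg_top) (fun z _ => by
        obtain ⟨y, rfl⟩ := hf2 z
        exact Submodule.smul_mem_smul (by rw [hπ.maximalIdeal_eq]; exact Ideal.mem_span_singleton_self π) trivial)
      (maximalIdeal_le_jacobson _)
    exact (Submodule.eq_bot_iff _).1 h x trivial
  -- the lengths
  haveI := hfin 0
  haveI := hfin 1
  obtain ⟨hk0, hq0⟩ := length_quot_eq_length_ker_add_rank hπ (H 0)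
  obtain ⟨hk1, hq1⟩ := length_quot_eq_length_ker_add_rank hπ (H 1)
  have hker0 : LinearMap.ker (π • LinearMap.id : H 0 →ₗ[R] H 0) = ⊥ := by
    rw [← hfun 0]
    exact LinearMap.ker_eq_bot.2 (CurveCohLib.mapLin_f_zero_injective R hS)
  have hrg : ∀ i, Module.length R (LinearMap.range (PnCoh.Finite.mapLin R (mulSeq hI).g i)) =
      Module.length R (H i ⧸ LinearMap.range (π • LinearMap.id : H i →ₗ[R] H i)) := fun i =>
    ((LinearMap.quotKerEquivRange (PnCoh.Finite.mapLin R (mulSeq hI).g i)).symm.trans
      (Submodule.quotEquivOfEq _ _ ((CurveCohLib.ker_mapLin_g R hS i).trans (congrArg LinearMap.range (hfun i))))).length_eq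
  have h0 : Module.length R (Coh.HH X (ClSub.quotMod I) 0) =
      Module.length R (H 0 ⧸ LinearMap.range (π • LinearMap.id : H 0 →ₗ[R] H 0)) +
        Module.length R (LinearMap.ker (π • LinearMap.id : H 1 →ₗ[R] H 1)) := by
    rw [← hrg 0, ← hfun 1]
    refine (length_ker_add_range (PnCoh.Finite.deltaLin R hS 0)).trans ?_
    exact congrArg₂ (· + ·) (LinearEquiv.ofEq _ _ (CurveCohLib.ker_deltaLin R hS 0)).length_eq
      (LinearEquiv.ofEq _ _ (CurveCohLib.ker_mapLin_f_succ R hS 0).symm).length_eq
  have h1 : Module.length R (Coh.HH X (ClSub.quotMod I) 1) =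
      Module.length R (H 1 ⧸ LinearMap.range (π • LinearMap.id : H 1 →ₗ[R] H 1)) := by
    rw [← hrg 1]
    have ht : LinearMap.range (PnCoh.Finite.mapLin R (mulSeq hI).g 1) = ⊤ := by
      rw [← CurveCohLib.ker_deltaLin R hS 1]
      exact eq_top_iff.2 fun z _ => LinearMap.mem_ker.2 (hH2 _)
    exact ((LinearEquiv.ofEq _ _ ht).trans Submodule.topEquiv).length_eq.symm
  -- the generic fibre
  have hrank : ∀ i, Module.finrank (FractionRing R) (FractionRing R ⊗[R] H i) =
      Module.finrank (FractionRing R) (Coh.HH C (Coh.structureModule C) i) := fun i => by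
    obtain ⟨e⟩ := QCoh.HH_flatBaseChange (pA := p) (pB := f) (φ := g) (A := R) (B := FractionRing R) hg
      (QCoh.isQCoh_structureModule (X := X)) i
    exact e.finrank_eq.trans (CurveCohLib.hhEquiv (k := FractionRing R) (CurveBC.unitIso g) i).finrank_eq
  have hC0 : Module.finrank (FractionRing R) (Coh.HH C (Coh.structureModule C) 0) = 1 := by
    rw [GeomField.finrank_HH_zero]
    letI := GeomField.globalAlgebra (FractionRing R) C
    have hb : Function.Bijective (algebraMap (FractionRing R) Γ(C, ⊤)) :=
      ((ConcreteCategory.isIso_iff_bijective f.appTop).1 hH0).comp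
        (Scheme.ΓSpecIso (CommRingCat.of (FractionRing R))).symm.commRingCatIsoToRingEquiv.bijective
    rw [← (AlgEquiv.ofBijective (Algebra.ofId (FractionRing R) Γ(C, ⊤)) hb).toLinearEquiv.finrank_eq]
    exact Module.finrank_self _
  haveI hbot : Subsingleton (⊥ : Submodule R (H 0)) := inferInstance
  rw [hker0, Module.length_eq_zero (M := (⊥ : Submodule R (H 0))), zero_add, hrank 0, hC0] at hq0
  rw [hq0] at h0
  rw [hq1, hrank 1] at h1
  obtain ⟨a, ha⟩ := ENat.ne_top_iff_exists.1 hk1
  rw [← ha] at h0 h1
  refine ⟨h0 ▸ by exact_mod_cast ENat.natCast_ne_top (1 + a),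
    h1 ▸ by exact_mod_cast ENat.natCast_ne_top (a + _), ?_⟩
  show ((Module.length R (Coh.HH X (ClSub.quotMod I) 0)).toNat : ℤ) -
    ((Module.length R (Coh.HH X (ClSub.quotMod I) 1)).toNat : ℤ) =
      1 - (Module.finrank (FractionRing R) (Coh.HH C (Coh.structureModule C) 1) : ℤ)
  rw [h0, h1, ← Nat.cast_one, ← Nat.cast_add, ← Nat.cast_add, ENat.toNat_natCast, ENat.toNat_natCast]
  push_cast
  ring

end Euler

end Groth.Agent.MdlSurf
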