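import Groth.Prelude.Def_ModelsG
import Groth.Agent.SurfInt.Inter
import Groth.Agent.QCoh.Serre
import Groth.Agent.QCoh.ClosedPush
import Groth.Agent.CurveCohLib.Euler
import Groth.Agent.ModPairLib.Basic

/-!
# The short exact sequence `0 ⟶ O ⟶ O ⟶ O / (f) ⟶ 0` and the closed fibre
-/

set_option autoImplicit false
set_option linter.style.haveILetI false
set_option linter.unusedSectionVars false
set_option backward.isDefEq.respectTransparency false
set_option backward.isDefEq.respectTransparency.types false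

universe u

open CategoryTheory CategoryTheory.Limits AlgebraicGeometry Opposite TopologicalSpace IsLocalRing

noncomputable section

namespace Groth.Agent.MdlSurf

variable {X : Scheme.{u}} (f : Γ(X, ⊤)) (I : X.IdealSheafData)

/-- `I` is generated by the global function `f` on every affine open. -/
def IsGenBy : Prop :=
  ∀ V : X.affineOpens, I.ideal V = Ideal.span {X.presheaf.map (homOfLE le_top).op f}

variable {f I}

theorem mulHom_toSubscheme (hI : IsGenBy f I) : QCoh.mulHom f ≫ ClSub.toSubscheme I = 0 := by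
  apply Scheme.Modules.hom_ext
  intro U
  ext a
  refine SurfInt.app_toSubscheme_zero_of_mem I U
    ((show Γ(X, U) from a) * X.presheaf.map (homOfLE le_top).op f) fun W hW => ?_
  rw [map_mul, hI W, ← CommRingCat.comp_apply, ← Functor.map_comp]
  exact Ideal.mul_mem_left _ _ (Ideal.mem_span_singleton_self _)

/-- Multiplication by the generator, onto the ideal. -/
def mulLift (hI : IsGenBy f I) : Coh.structureModule X ⟶ ClSub.idealMod I :=
  kernel.lift _ (QCoh.mulHom f) (mulHom_toSubscheme hI)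

theorem mulLift_ι (hI : IsGenBy f I) : mulLift hI ≫ ClSub.idealModι I = QCoh.mulHom f :=
  kernel.lift_ι _ _ _

theorem idealSect_mulLift (hI : IsGenBy f I) (U : X.Opens) (a : Γ(Coh.structureModule X, U)) :
    OmegaSh.idealSect I U ((mulLift hI).app U a) =
      (show Γ(X, U) from a) * X.presheaf.map (homOfLE le_top).op f :=
  congrArg (fun φ : Coh.structureModule X ⟶ Coh.structureModule X => φ.app U a) (mulLift_ι hI)

theorem isIso_mulLift (hI : IsGenBy f I)
    (hf : ∀ V : X.affineOpens, X.presheaf.map (homOfLE (le_top : V.1 ≤ ⊤)).op f ∈ nonZeroDivisors Γ(X, V.1)) :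
    IsIso (mulLift hI) := by
  refine QCoh.isIso_of_isBasis _ X.isBasis_affineOpens ?_
  intro V hV
  refine ⟨fun a b hab => ?_, fun k => ?_⟩
  · have h1 := congrArg (OmegaSh.idealSect I V) hab
    rw [idealSect_mulLift, idealSect_mulLift] at h1
    exact ((hf ⟨V, hV⟩ |> mem_nonZeroDivisors_iff_right.1) |> fun h =>
      sub_eq_zero.1 (h _ (by rw [sub_mul, h1, sub_self])))
  · obtain ⟨a, ha⟩ := Ideal.mem_span_singleton'.1 ((hI ⟨V, hV⟩) ▸ OmegaLib.idealSect_mem I ⟨V, hV⟩ k)
    refine ⟨show Γ(Coh.structureModule X, V) from a, OmegaLib.idealSect_injective I V ?_⟩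
    rw [idealSect_mulLift]
    exact ha

/-- `0 ⟶ O ⟶ O ⟶ O / (f) ⟶ 0`. -/
def mulSeq (hI : IsGenBy f I) : ShortComplex X.Modules :=
  ShortComplex.mk (QCoh.mulHom f) (ClSub.toSubscheme I) (mulHom_toSubscheme hI)

theorem mulSeq_shortExact (hI : IsGenBy f I)
    (hf : ∀ V : X.affineOpens, X.presheaf.map (homOfLE (le_top : V.1 ≤ ⊤)).op f ∈ nonZeroDivisors Γ(X, V.1)) :
    (mulSeq hI).ShortExact := by
  haveI := isIso_mulLift hI hf
  refine ShortComplex.shortExact_of_iso
    (ShortComplex.isoMk (S₁ := SurfInt.idealSeq I) (S₂ := mulSeq hI)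
      (asIso (mulLift hI)).symm (Iso.refl _) (Iso.refl _) ?_ ?_)
    (SurfInt.idealSeq_shortExact I)
  · show inv (mulLift hI) ≫ QCoh.mulHom f = ClSub.idealModι I ≫ 𝟙 _
    rw [← mulLift_ι hI, IsIso.inv_hom_id_assoc, Category.comp_id]
  · exact (Category.id_comp _).trans (Category.comp_id _).symm

theorem toAb_map_mulHom (g : Γ(X, ⊤)) :
    (QCoh.toAbFunctor X).map (QCoh.mulHom g) = Coh.smulAb (Coh.structureModule X) g := by
  ext U m
  exact mul_comm (show Γ(X, U.unop) from m) _

section Over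

variable (A : Type u) [CommRing A] [X.Over (Spec (CommRingCat.of A))]

theorem mapLin_mulHom (a : A) (n : ℕ) (x : Coh.HH X (Coh.structureModule X) n) :
    PnCoh.Finite.mapLin A (QCoh.mulHom (Coh.toGlobal (X ↘ Spec (CommRingCat.of A)) a)) n x = a • x :=
  congrArg (fun φ => Sheaf.H.map φ n x) (toAb_map_mulHom _)

/-- `H⁰(O) → H⁰(O / (a))` is surjective iff `a` is injective on `H¹(O)`. -/
theorem surjective_H0_iff {a : A}
    (hI : IsGenBy (Coh.toGlobal (X ↘ Spec (CommRingCat.of A)) a) I)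
    (hf : ∀ V : X.affineOpens, X.presheaf.map (homOfLE (le_top : V.1 ≤ ⊤)).op
      (Coh.toGlobal (X ↘ Spec (CommRingCat.of A)) a) ∈ nonZeroDivisors Γ(X, V.1)) :
    Function.Surjective (Sheaf.H.map ((SheafOfModules.toSheaf X.ringCatSheaf).map (ClSub.toSubscheme I)) 0) ↔
      ∀ x : Coh.HH X (Coh.structureModule X) 1, a • x = 0 → x = 0 := by
  have hS := mulSeq_shortExact hI hf
  have h1 := CurveCohLib.ker_mapLin_f_succ A hS 0
  have h2 := CurveCohLib.ker_deltaLin A hS 0
  change Function.Surjective (PnCoh.Finite.mapLin A (mulSeq hI).g 0) ↔ _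
  constructor
  · intro hs x hx
    have hxk : x ∈ LinearMap.ker (PnCoh.Finite.mapLin A (mulSeq hI).f (0 + 1)) :=
      LinearMap.mem_ker.2 ((mapLin_mulHom A a 1 x).trans hx)
    rw [h1] at hxk
    obtain ⟨y, rfl⟩ := hxk
    exact LinearMap.mem_ker.1 ((SetLike.ext_iff.1 h2 y).2 (hs y))
  · intro hinj y
    have : y ∈ LinearMap.ker (PnCoh.Finite.deltaLin A hS 0) := by
      refine LinearMap.mem_ker.2 (hinj _ ((mapLin_mulHom A a 1 _).symm.trans ?_))
      exact LinearMap.mem_ker.1 (h1.symm ▸ LinearMap.mem_range_self _ y :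
        PnCoh.Finite.deltaLin A hS 0 y ∈ LinearMap.ker (PnCoh.Finite.mapLin A (mulSeq hI).f (0 + 1)))
    rw [h2] at this
    exact this

end Over

variable {R : Type u} [CommRing R] [IsDomain R] [IsDiscreteValuationRing R]

theorem isGenBy_specialFibreIdeal (p : X ⟶ Spec (CommRingCat.of R)) {π : R} (hπ : Irreducible π) :
    IsGenBy (Coh.toGlobal p π) (Models.specialFibreIdeal R (Over.mk p)) := by
  intro V
  rw [Models.specialFibreIdeal, ModPairLib.ideal_comap _ (Over.mk p).hom
    (⟨⊤, isAffineOpen_top _⟩ : (Spec (CommRingCat.of R)).affineOpens) V le_top,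
    Curv2.idealSheaf, Scheme.IdealSheafData.ofIdealTop_ideal, Ideal.map_map, Ideal.map_map,
    hπ.maximalIdeal_eq, Ideal.map_span, Set.image_singleton]
  congr 2

theorem map_toGlobal_mem_nonZeroDivisors (p : X ⟶ Spec (CommRingCat.of R)) [Flat p] {π : R} (hπ : π ≠ 0)
    (V : X.affineOpens) :
    X.presheaf.map (homOfLE (le_top : V.1 ≤ ⊤)).op (Coh.toGlobal p π) ∈ nonZeroDivisors Γ(X, V.1) := by
  have h1 : (p.appLE ⊤ V.1 le_top).hom.Flat :=
    HasRingHomProperty.appLE @Flat p ‹_› ⟨⊤, isAffineOpen_top _⟩ V le_top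
  have h2 : ((p.appLE ⊤ V.1 le_top).hom.comp (Scheme.ΓSpecIso (CommRingCat.of R)).inv.hom).Flat :=
    (RingHom.Flat.of_bijective (Scheme.ΓSpecIso (CommRingCat.of R)).symm.commRingCatIsoToRingEquiv.bijective).comp h1
  set ψ : R →+* Γ(X, V.1) := (p.appLE ⊤ V.1 le_top).hom.comp (Scheme.ΓSpecIso (CommRingCat.of R)).inv.hom with hψ
  have he : X.presheaf.map (homOfLE (le_top : V.1 ≤ ⊤)).op (Coh.toGlobal p π) = ψ π := by
    simp [hψ, Scheme.Hom.appLE, Coh.toGlobal]
    rfl
  rw [he]
  letI := ψ.toAlgebra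
  haveI : Module.Flat R Γ(X, V.1) := h2
  refine mem_nonZeroDivisors_iff_right.2 fun y hy => ?_
  have h : π • y = 0 := by rw [Algebra.smul_def, mul_comm]; exact hy
  exact (smul_eq_zero.1 h).resolve_left hπ

/-- Over a discrete valuation ring a module is torsion free iff a uniformiser acts injectively. -/
theorem noZeroSMulDivisors_iff_irreducible {M : Type*} [AddCommGroup M] [Module R M] {π : R}
    (hπ : Irreducible π) : NoZeroSMulDivisors R M ↔ ∀ x : M, π • x = 0 → x = 0 := by
  refine ⟨fun h x hx => ((eq_zero_or_eq_zero_of_smul_eq_zero hx).resolve_left hπ.ne_zero),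
    fun h => ⟨fun {c x} hx => or_iff_not_imp_left.2 fun hc => ?_⟩⟩
  obtain ⟨n, v, rfl⟩ := IsDiscreteValuationRing.eq_unit_mul_pow_irreducible hc hπ
  rw [mul_smul] at hx
  have hx' : π ^ n • x = 0 := by
    have := congrArg (fun z => ((v⁻¹ : Rˣ) : R) • z) hx
    simpa [smul_smul, ← mul_assoc] using this
  clear hx hc
  induction n generalizing x with
  | zero => simpa using hx'
  | succ n ih => exact h _ (ih (x := π • x) (by rwa [smul_smul, ← pow_succ]))

end Groth.Agent.MdlSurf
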