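import Groth.Agent.MdlSurf.FiniteGD
import Groth.Agent.FlatLocus.Basic
import Groth.Agent.DimFormula.Codim
import Groth.Agent.FibDim.LocDim
import Mathlib.RingTheory.Flat.TorsionFree
import Mathlib.RingTheory.DedekindDomain.Basic

/-!
# Finite dominant morphisms onto normal surfaces are flat off finitely many closed points
-/

set_option autoImplicit false
set_option linter.style.haveILetI false

universe u

open CategoryTheory CategoryTheory.Limits AlgebraicGeometry

namespace Groth.Agent.MdlSurf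

theorem flat_of_normal_dim_le_one {A B : Type u} [CommRing A] [IsDomain A] [IsNoetherianRing A]
    [IsIntegrallyClosed A] (hdim : ringKrullDim A ≤ 1) [CommRing B] [IsDomain B] (φ : A →+* B)
    (hφ : Function.Injective φ) : φ.Flat := by
  haveI : Ring.KrullDimLE 1 A := Ring.krullDimLE_iff.2 hdim
  haveI : Ring.DimensionLEOne A := ⟨fun {p} h hp => hp.isMaximal_of_ne_bot h⟩
  haveI : IsDedekindDomain A := (isDedekindDomain_iff A (FractionRing A)).2
    ⟨inferInstance, inferInstance, inferInstance, fun hx => IsIntegrallyClosed.isIntegral_iff.1 hx⟩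
  letI := φ.toAlgebra
  show Module.Flat A B
  rw [IsDedekindDomain.flat_iff_torsion_eq_bot, eq_bot_iff]
  rintro b ⟨⟨a, ha⟩, hab⟩
  replace hab : φ a * b = 0 := hab
  exact (mul_eq_zero.1 hab).resolve_left fun h => nonZeroDivisors.ne_zero ha (hφ (h.trans φ.map_zero.symm))

theorem injective_stalkMap {X Y : Scheme.{u}} [IsIntegral X] [IsReduced Y] (f : X ⟶ Y) [QuasiCompact f]
    [IsDominant f] (x : X) : Function.Injective (f.stalkMap x) := by
  haveI := IsSchemeTheoreticallyDominant.of_isDominant f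
  rw [injective_iff_map_eq_zero]
  intro s hs
  obtain ⟨U, hxU, t, rfl⟩ := Y.presheaf.germ_exist s
  rw [Scheme.Hom.germ_stalkMap_apply] at hs
  have h0 : f.app U t = 0 := germ_injective_of_isIntegral X x (show x ∈ f ⁻¹ᵁ U from hxU) (hs.trans (map_zero _).symm)
  rw [f.app_injective U (h0.trans (map_zero _).symm), map_zero]

variable {X Y : Scheme.{u}} [IsIntegral X] [IsIntegral Y] (f : X ⟶ Y) [IsFinite f] [Surjective f]
  [IsLocallyNoetherian Y]

theorem flat_stalkMap_of_dim_le_one (hY : Pi1.IsNormalScheme Y) (x : X)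
    (hd : ringKrullDim (Y.presheaf.stalk (f x)) ≤ 1) : (f.stalkMap x).hom.Flat := by
  haveI : IsDominant f := ⟨f.surjective.denseRange⟩
  haveI := (hY (f x)).2
  exact flat_of_normal_dim_le_one hd _ (injective_stalkMap f x)

theorem codim_le_of_finite (hY : Pi1.IsNormalScheme Y) [IsLocallyNoetherian X] (x : X)
    (h : 2 ≤ DimFormula.codim (f x)) : 2 ≤ DimFormula.codim x := by
  haveI : IsDominant f := ⟨f.surjective.denseRange⟩
  have h' : ((2 : ℕ) : ℕ∞) ≤ Order.coheight (f x) := by
    rw [← DimFormula.coe_codim]; exact_mod_cast h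
  obtain ⟨l, hl0, hl2⟩ := Order.exists_series_of_le_coheight _ h'
  have hgd := generalizingMap_of_isIntegralHom f hY
  have h01 : l ⟨0, by omega⟩ < l ⟨1, by omega⟩ := l.strictMono (Fin.mk_lt_mk.2 (by omega))
  have h12 : l ⟨1, by omega⟩ < l ⟨2, by omega⟩ := l.strictMono (Fin.mk_lt_mk.2 (by omega))
  have hl0' : l ⟨0, by omega⟩ = f x := hl0
  obtain ⟨x1, hx1, he1⟩ := hgd (show l ⟨1, by omega⟩ ⤳ f x from hl0' ▸ DimFormula.le_def'.1 h01.le)
  obtain ⟨x2, hx2, he2⟩ := hgd (show l ⟨2, by omega⟩ ⤳ f x1 from he1.symm ▸ DimFormula.le_def'.1 h12.le)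
  have n1 : x ≠ x1 := fun e => by
    subst e
    exact h01.ne (hl0'.trans he1)
  have n2 : x1 ≠ x2 := fun e => by
    subst e
    exact h12.ne (he1.symm.trans he2)
  have a1 : x < x1 := lt_iff_le_not_ge.2 ⟨DimFormula.le_def'.2 hx1, fun h => n1 (DimFormula.eq_of_specializes_of_specializes (DimFormula.le_def'.1 h) hx1)⟩
  have a2 : x1 < x2 := lt_iff_le_not_ge.2 ⟨DimFormula.le_def'.2 hx2, fun h => n2 (DimFormula.eq_of_specializes_of_specializes (DimFormula.le_def'.1 h) hx2)⟩
  have h2 : Order.coheight x2 + 1 + 1 ≤ Order.coheight x :=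
    ((add_le_add_left (Order.coheight_add_one_le a2) 1)).trans (Order.coheight_add_one_le a1)
  have h3 : ((2 : ℕ) : ℕ∞) ≤ Order.coheight x :=
    le_trans (by rw [add_assoc]; exact le_add_self) h2
  rw [← DimFormula.coe_codim] at h3
  exact_mod_cast h3

theorem exists_flat_open (hY : Pi1.IsNormalScheme Y) [CompactSpace Y]
    (hdX : topologicalKrullDim X = 2) (hdY : topologicalKrullDim Y = 2) :
    ∃ V : Y.Opens, ((V : Set Y)ᶜ).Finite ∧ (∀ y : Y, y ∉ V → ringKrullDim (Y.presheaf.stalk y) = 2) ∧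
      (((f ⁻¹ᵁ V : X.Opens) : Set X)ᶜ).Finite ∧ (∀ x : X, x ∉ f ⁻¹ᵁ V → ringKrullDim (X.presheaf.stalk x) = 2) ∧
      Flat (f ∣_ V) := by
  haveI : IsLocallyNoetherian X := LocallyOfFiniteType.isLocallyNoetherian f
  haveI : LocallyOfFinitePresentation f := LocallyOfFinitePresentation.iff_locallyOfFiniteType.2 inferInstance
  let N : Set X := {x : X | (f.stalkMap x).hom.Flat}ᶜ
  have hN : IsClosed N := (FlatLocus.isOpen_flat_locus f).isClosed_compl
  let V : Y.Opens := ⟨(f '' N)ᶜ, (f.isClosedMap N hN).isOpen_compl⟩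
  have hle : ∀ {Z : Scheme.{u}} [IsLocallyNoetherian Z], topologicalKrullDim Z = 2 → ∀ z : Z, DimFormula.codim z ≤ 2 := by
    intro Z _ hZ z
    have h : ((DimFormula.codim z : ℕ∞) : WithBot ℕ∞) ≤ ((2 : ℕ) : ℕ∞) := by
      rw [show (((2 : ℕ) : ℕ∞) : WithBot ℕ∞) = 2 from rfl, ← hZ, FibDim.topologicalKrullDim_eq_iSup_codim]
      exact le_iSup (fun w : Z => ((DimFormula.codim w : ℕ∞) : WithBot ℕ∞)) z
    exact_mod_cast h
  have hdimY : ∀ y ∈ f '' N, DimFormula.codim y = 2 := by
    rintro _ ⟨x, hx, rfl⟩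
    refine le_antisymm (hle hdY _) (not_lt.1 fun h => hx ?_)
    refine flat_stalkMap_of_dim_le_one f hY x ?_
    rw [DimFormula.ringKrullDim_stalk]
    have h1 : DimFormula.codim (f x) ≤ 1 := by omega
    exact_mod_cast h1
  have hclosed : ∀ y ∈ f '' N, IsClosed ({y} : Set Y) := fun y hy => by
    have : closure ({y} : Set Y) = {y} := Set.Subset.antisymm (fun z hz => by
      have hs : y ⤳ z := specializes_iff_mem_closure.2 hz
      by_contra hne
      have hzN : z ∈ f '' N := hs.mem_closed (f.isClosedMap N hN) hy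
      have := DimFormula.codim_mono_add hs
      rw [hdimY z hzN, hdimY y hy] at this
      exact hne ((DimFormula.cd_eq_zero_iff hs).1 (by omega)).symm) subset_closure
    rw [← this]; exact isClosed_closure
  haveI : IsNoetherian Y := {}
  have hfin : (f '' N).Finite := by
    obtain ⟨S, hS, hSc, hSi, hSu⟩ := TopologicalSpace.NoetherianSpace.exists_finite_set_isClosed_irreducible (f.isClosedMap N hN)
    rw [hSu]
    refine hS.sUnion fun t ht => ?_
    obtain ⟨y, hy⟩ := QuasiSober.sober (hSi t ht) (hSc t ht)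
    have hyN : y ∈ f '' N := hSu ▸ Set.mem_sUnion_of_mem hy.mem ht
    rw [← hy.def, (hclosed y hyN).closure_eq]
    exact Set.finite_singleton y
  have hV : (V : Set Y)ᶜ = f '' N := compl_compl _
  refine ⟨V, by rw [hV]; exact hfin, fun y hy => ?_, ?_, fun x hx => ?_, ?_⟩
  · rw [DimFormula.ringKrullDim_stalk, hdimY y (hV ▸ hy)]
    rfl
  · show ((f ⁻¹' (V : Set Y))ᶜ).Finite
    rw [← Set.preimage_compl, hV]
    exact hfin.preimage' fun y _ => f.finite_preimage_singleton y
  · rw [DimFormula.ringKrullDim_stalk, le_antisymm (hle hdX x)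
      (codim_le_of_finite f hY x (hdimY (f x) (hV ▸ hx)).ge)]
    rfl
  · refine Flat.of_stalkMap _ fun x => ?_
    refine ((RingHom.toMorphismProperty RingHom.Flat).arrow_mk_iso_iff (morphismRestrictStalkMap f V x)).2 ?_
    by_contra hns
    exact x.2 ⟨x.1, hns, rfl⟩

end Groth.Agent.MdlSurf
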