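import Groth.Agent.S9821
import Groth.Agent.VarDim.Local
import Mathlib.AlgebraicGeometry.Morphisms.QuasiFinite
import Mathlib.RingTheory.IntegralClosure.GoingDown
import Mathlib.AlgebraicGeometry.Morphisms.SchemeTheoreticallyDominant

/-!
# Going down for finite dominant morphisms onto normal schemes
-/

set_option autoImplicit false
set_option linter.style.haveILetI false

universe u

open CategoryTheory CategoryTheory.Limits AlgebraicGeometry

namespace Groth.Agent.MdlSurf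

theorem generalizingMap_of_isIntegralHom {X Y : Scheme.{u}} [IsIntegral X] [IsIntegral Y] (f : X ⟶ Y)
    [IsIntegralHom f] [IsDominant f] (hN : Pi1.IsNormalScheme Y) : GeneralizingMap f.base := by
  intro x η hη
  obtain ⟨V, hV, hxV, -⟩ := exists_isAffineOpen_mem_and_subset (X := Y) (x := f x) (U := ⊤) trivial
  haveI : Nonempty V := ⟨⟨f x, hxV⟩⟩
  haveI : Nonempty (f ⁻¹ᵁ V) := ⟨⟨x, hxV⟩⟩
  have hU : IsAffineOpen (f ⁻¹ᵁ V) := hV.preimage f
  haveI := (S9821.result Y).1 hN V hV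
  letI : Algebra Γ(Y, V) Γ(X, f ⁻¹ᵁ V) := (f.app V).hom.toAlgebra
  haveI : Algebra.IsIntegral Γ(Y, V) Γ(X, f ⁻¹ᵁ V) := ⟨IsIntegralHom.isIntegral_app f V hV⟩
  haveI := IsSchemeTheoreticallyDominant.of_isDominant f
  haveI : FaithfulSMul Γ(Y, V) Γ(X, f ⁻¹ᵁ V) :=
    (faithfulSMul_iff_algebraMap_injective _ _).2 (f.app_injective V)
  have hgd : GeneralizingMap (PrimeSpectrum.comap (algebraMap Γ(Y, V) Γ(X, f ⁻¹ᵁ V))) :=
    Algebra.HasGoingDown.iff_generalizingMap_primeSpectrumComap.1 inferInstance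
  obtain ⟨P, rfl⟩ := VarDim.exists_fromSpec_eq hU (show x ∈ f ⁻¹ᵁ V from hxV)
  obtain ⟨q, rfl⟩ := VarDim.exists_fromSpec_eq hV (hη.mem_open V.isOpen hxV)
  have hcomm : ∀ Q : PrimeSpectrum Γ(X, f ⁻¹ᵁ V),
      f (hU.fromSpec Q) = hV.fromSpec (PrimeSpectrum.comap (algebraMap Γ(Y, V) Γ(X, f ⁻¹ᵁ V)) Q) := fun Q => by
    have h := IsAffineOpen.SpecMap_appLE_fromSpec f hV hU le_rfl
    rw [Scheme.Hom.appLE_eq_app] at h
    exact congr($(h) Q).symm
  have hle : q ≤ PrimeSpectrum.comap (algebraMap Γ(Y, V) Γ(X, f ⁻¹ᵁ V)) P := by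
    refine (VarDim.fromSpec_specializes_iff hV _ _).1 ?_
    rw [← hcomm]
    exact hη
  obtain ⟨Q, hQ, hQq⟩ := hgd ((PrimeSpectrum.le_iff_specializes _ _).1 hle)
  refine ⟨hU.fromSpec Q, (VarDim.fromSpec_specializes_iff hU _ _).2 ((PrimeSpectrum.le_iff_specializes _ _).2 hQ), ?_⟩
  exact (hcomm Q).trans (congrArg _ hQq)

theorem eq_of_specializes_of_isFinite {X Y : Scheme.{u}} (f : X ⟶ Y) [IsFinite f] {a b : X}
    (h : a ⤳ b) (he : f a = f b) : a = b := by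
  haveI : DiscreteTopology ↥(f ⁻¹' {f b}) := isDiscrete_iff_discreteTopology.1 (f.isDiscrete_preimage_singleton (f b))
  exact congrArg Subtype.val ((subtype_specializes_iff (⟨a, he⟩ : ↥(f ⁻¹' {f b})) ⟨b, rfl⟩).2 h).eq

end Groth.Agent.MdlSurf
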