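import Groth.Agent.MdlSurf.Chain

/-!
# The divisor `Σ (m_i/d) Γ_i`
-/

set_option autoImplicit false
set_option linter.style.haveILetI false
set_option linter.unusedSectionVars false
set_option backward.isDefEq.respectTransparency false
set_option backward.isDefEq.respectTransparency.types false

universe u

open CategoryTheory CategoryTheory.Limits AlgebraicGeometry IsLocalRing

noncomputable section

namespace Groth.Agent.MdlSurf

variable {R : Type u} [CommRing R] [IsDomain R] [IsDiscreteValuationRing R]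
  {C X : Scheme.{u}} {f : C ⟶ Spec (CommRingCat.of (FractionRing R))} {p : X ⟶ Spec (CommRingCat.of R)}
  {n : ℕ} {Γ : Fin n → ArSurf.VertComp R (Over.mk p)}
  (hC : Curve.IsSmoothProperCurve (FractionRing R) C f) (hX : Models.IsRegularProperModel R X p C f)
  (hΓ : Models.IsComponentList R (Over.mk p) Γ)

include hC hX hΓ

theorem mult_eq_gcd_mul (i : Fin n) : Models.mult R (Over.mk p) (Γ i) =
    Models.multGcd R (Over.mk p) Γ * (Models.mult R (Over.mk p) (Γ i) / Models.multGcd R (Over.mk p) Γ) :=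
  (Nat.mul_div_cancel' (show Models.multGcd R (Over.mk p) Γ ∣ Models.mult R (Over.mk p) (Γ i) from
    Finset.gcd_dvd (f := fun j => Models.mult R (Over.mk p) (Γ j)) (Finset.mem_univ i))).symm

theorem gcd_div_eq_one :
    (Finset.univ.gcd fun i => Models.mult R (Over.mk p) (Γ i) / Models.multGcd R (Over.mk p) Γ) = 1 :=
  Finset.gcd_div_eq_one (Finset.mem_univ ⟨0, n_pos hC hX hΓ⟩) (mult_pos hC hX hΓ _).ne'

theorem multGcd_pos : 0 < Models.multGcd R (Over.mk p) Γ :=
  Nat.pos_of_ne_zero fun h => by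
    have := Finset.gcd_eq_zero_iff.1 h ⟨0, n_pos hC hX hΓ⟩ (Finset.mem_univ _)
    exact (mult_pos hC hX hΓ _).ne' this

theorem gcd_mul_chi (hH0 : IsIso f.appTop) : (1 : ℤ) - (Models.curveGenus (FractionRing R) C f : ℤ) =
    (Models.multGcd R (Over.mk p) Γ : ℤ) * chi (R := R) (X := Over.mk p)
      (ClSub.quotMod (divIdeal Γ fun i => Models.mult R (Over.mk p) (Γ i) / Models.multGcd R (Over.mk p) Γ)) := by
  obtain ⟨L, hL⟩ := exists_inverses hC hX hΓ
  have hG := genus_formula hC hH0 hX hΓ L hL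
  set d := Models.multGcd R (Over.mk p) Γ with hd
  have hd0 : (d : ℤ) ≠ 0 := by exact_mod_cast (multGcd_pos hC hX hΓ).ne'
  set m' : Fin n → ℕ := fun i => Models.mult R (Over.mk p) (Γ i) / d with hm'
  have hm : ∀ i, (Models.mult R (Over.mk p) (Γ i) : ℤ) = (d : ℤ) * m' i := fun i => by
    exact_mod_cast mult_eq_gcd_mul hC hX hΓ i
  have h2 := two_chi_divIdeal hC hX hΓ L hL m' fun j => Nat.div_le_self _ _
  have hrow : ∀ i, ∑ j, (m' j : ℤ) * ArSurf.inter R (Over.mk p) (L j) (Γ i) = 0 := fun i => by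
    have h := row_sum hC hX hΓ L hL i
    simp only [hm, mul_assoc] at h
    rw [← Finset.mul_sum] at h
    exact (mul_eq_zero.1 h).resolve_left hd0
  have hQ : (∑ i, ∑ j, (m' i : ℤ) * m' j * ArSurf.inter R (Over.mk p) (L j) (Γ i)) = 0 :=
    Finset.sum_eq_zero fun i _ => by
      simp only [mul_assoc]
      rw [← Finset.mul_sum, hrow i, mul_zero]
  rw [hQ, neg_zero, zero_add] at h2
  simp only [hm] at hG
  have hneg : ∑ i, (d : ℤ) * (m' i : ℤ) *
        (2 * ((Models.h1 R (Over.mk p) (Γ i) : ℤ) - (Models.wdeg R (Over.mk p) (Γ i) : ℤ)) -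
          ArSurf.inter R (Over.mk p) (L i) (Γ i)) =
      -((d : ℤ) * ∑ i, (m' i : ℤ) * (ArSurf.inter R (Over.mk p) (L i) (Γ i) +
            2 * ((Models.wdeg R (Over.mk p) (Γ i) : ℤ) - Models.h1 R (Over.mk p) (Γ i)))) := by
    rw [Finset.mul_sum, ← Finset.sum_neg_distrib]
    exact Finset.sum_congr rfl fun i _ => by ring
  rw [hneg, ← h2] at hG
  linarith

end Groth.Agent.MdlSurf
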