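import Groth.Agent.ArSurfBase.Birat
import Mathlib.AlgebraicGeometry.Geometrically.Connected

/-!
# Proper morphisms with `f_* O_X = O_Y` have geometrically connected fibres
-/

set_option autoImplicit false
set_option linter.style.haveILetI false
set_option linter.unusedSectionVars false
set_option backward.isDefEq.respectTransparency false
set_option backward.isDefEq.respectTransparency.types false

universe u

open CategoryTheory CategoryTheory.Limits AlgebraicGeometry IsLocalRing

namespace Groth.Agent.MdlSurf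

variable {X Y : Scheme.{u}}

theorem preconnectedSpace_pullback [IsLocallyNoetherian Y] (f : X ⟶ Y) [IsProper f]
    (h : ∀ U : Y.Opens, IsAffineOpen U → IsIso (f.app U)) {K : Type u} [Field K]
    (t : Spec (CommRingCat.of K) ⟶ Y) : PreconnectedSpace ↥(pullback f t) := by
  let y := t (closedPoint K)
  obtain ⟨U, hU, hy, -⟩ := exists_isAffineOpen_mem_and_subset (X := Y) (x := y) (U := ⊤) trivial
  let ψ := Scheme.stalkClosedPointTo t
  obtain ⟨B, _, _, ι, π, hBN, hBC, hflat, hπ, hcomp⟩ :=
    ProperNhd.exists_complete_extension (A := Y.presheaf.stalk y) K (ResidueField.lift ψ.hom)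
  have hψ : π.comp ι = ψ.hom := hcomp.trans (RingHom.ext fun a => rfl)
  haveI : IsLocalHom ι := ⟨fun a ha => by
    have h1 : IsUnit (π (ι a)) := ha.map π
    rw [show π (ι a) = ψ.hom a from RingHom.congr_fun hψ a] at h1
    exact (isUnit_map_iff ψ.hom a).1 h1⟩
  haveI := H23.RatExtend.flat_fromSpecStalk Y y
  haveI : Flat (Spec.map (CommRingCat.ofHom ι)) := Flat.SpecMap_iff.2 hflat
  let c : Spec (CommRingCat.of B) ⟶ Y := Spec.map (CommRingCat.ofHom ι) ≫ Y.fromSpecStalk y
  have hcl : c (closedPoint B) = y := by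
    show Y.fromSpecStalk y (Spec.map (CommRingCat.ofHom ι) (closedPoint B)) = y
    rw [show Spec.map (CommRingCat.ofHom ι) (closedPoint B) = closedPoint _ from IsLocalRing.comap_closedPoint ι,
      Scheme.fromSpecStalk_closedPoint]
  have hr : Set.range c ⊆ Set.range U.ι := by
    rw [U.range_ι]
    rintro _ ⟨p, rfl⟩
    exact (show c p ⤳ y from hcl ▸ (IsLocalRing.specializes_closedPoint p).map c.continuous).mem_open U.isOpen hy
  let cU := IsOpenImmersion.lift U.ι c hr
  have hcU : cU ≫ U.ι = c := IsOpenImmersion.lift_fac _ _ _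
  haveI : Flat c := inferInstance
  haveI : Flat cU := MorphismProperty.of_postcomp (W := @Flat) (W' := @IsOpenImmersion) cU U.ι inferInstance
    (by rwa [hcU])
  haveI : IsAffine U.toScheme := hU
  haveI : IsProper (f ∣_ U) := MorphismProperty.of_isPullback (isPullback_morphismRestrict f U).flip inferInstance
  haveI : CompactSpace (f ⁻¹ᵁ U).toScheme := QuasiCompact.compactSpace_of_compactSpace (f ∣_ U)
  haveI : QuasiSeparatedSpace (f ⁻¹ᵁ U).toScheme := quasiSeparatedSpace_of_quasiSeparated (f ∣_ U)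
  let g := pullback.snd (f ∣_ U) cU
  haveI : IsIso (f ∣_ U).appTop := by
    haveI := h U hU
    have := (MorphismProperty.isomorphisms CommRingCat).arrow_mk_iso_iff (arrowResLEAppIso f U (f ⁻¹ᵁ U) le_rfl)
    rw [← Scheme.Hom.resLE_eq_morphismRestrict]
    refine this.2 ?_
    rw [Scheme.Hom.appLE_eq_app]
    exact ‹IsIso (f.app U)›
  haveI : IsIso g.appTop :=
    (HensCouple7.isPushout_appTop (IsPullback.of_hasPullback (f ∣_ U) cU)).isIso_inr_of_isIso
  let e : Γ(pullback (f ∣_ U) cU, ⊤) ≃+* B :=
    ((asIso g.appTop).symm ≪≫ Scheme.ΓSpecIso (CommRingCat.of B)).commRingCatIsoToRingEquiv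
  haveI hconn : PreconnectedSpace ↥(pullback (f ∣_ U) cU) := preconnectedSpace_iff_clopen.2 fun W hW => by
    obtain ⟨ε, hε, hεW⟩ := HensCouple7.exists_idempotent_of_isClopen hW
    rcases IsLocalRing.isUnit_or_isUnit_one_sub_self (e ε) with hu | hu
    · refine Or.inr (hεW ▸ ?_)
      rw [Scheme.basicOpen_of_isUnit _ ((isUnit_map_iff e ε).1 hu)]
      rfl
    · refine Or.inl (hεW ▸ ?_)
      have h0 : e ε = 0 := (hu.mul_left_eq_zero).1 (by rw [mul_sub, mul_one, ← map_mul, hε, sub_self])
      rw [show ε = 0 from e.injective (h0.trans (map_zero e).symm), Scheme.basicOpen_zero]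
      rfl
  let bq := Spec.map (CommRingCat.ofHom (Ideal.Quotient.mk (maximalIdeal B)))
  haveI : PreconnectedSpace ↥(pullback g bq) :=
    preconnectedSpace_iff_clopen.2 fun V hV => by
      obtain ⟨W, ⟨hW, hWV⟩, -⟩ := ProperComp7.exists_lift_clopen g V hV
      rcases isClopen_iff.1 hW with rfl | rfl
      · exact Or.inl (by rw [← hWV, Set.preimage_empty])
      · exact Or.inr (by rw [← hWV, Set.preimage_univ])
  have hker : RingHom.ker π = maximalIdeal B := IsLocalRing.ker_eq_maximalIdeal π hπ
  let q : B ⧸ maximalIdeal B ≃+* K :=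
    (Ideal.quotEquivOfEq hker.symm).trans (RingHom.quotientKerEquivOfSurjective hπ)
  have hq : (CommRingCat.ofHom (Ideal.Quotient.mk (maximalIdeal B)) ≫ q.toCommRingCatIso.hom) = CommRingCat.ofHom π := by
    ext b
    simp [q]
  have hP : IsPullback (pullback.fst g bq ≫ pullback.fst (f ∣_ U) cU ≫ (f ⁻¹ᵁ U).ι) (pullback.snd g bq)
      f (bq ≫ cU ≫ U.ι) :=
    (IsPullback.of_hasPullback g bq).paste_horiz
      ((IsPullback.of_hasPullback (f ∣_ U) cU).paste_horiz (isPullback_morphismRestrict f U).flip)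
  have ht : Spec.map q.toCommRingCatIso.hom ≫ bq ≫ cU ≫ U.ι = t := by
    rw [hcU, ← Category.assoc, ← Spec.map_comp, hq, show c = Spec.map (CommRingCat.ofHom ι) ≫ Y.fromSpecStalk y from rfl,
      ← Category.assoc, ← Spec.map_comp, ← CommRingCat.ofHom_comp, hψ]
    exact Scheme.Spec_stalkClosedPointTo_fromSpecStalk t
  let j : pullback f t ≅ pullback g bq :=
    pullback.congrHom rfl ht.symm ≪≫
      asIso (pullback.map f (Spec.map q.toCommRingCatIso.hom ≫ bq ≫ cU ≫ U.ι) f (bq ≫ cU ≫ U.ι)
        (𝟙 _) (Spec.map q.toCommRingCatIso.hom) (𝟙 _) (by simp) (by simp)) ≪≫ hP.isoPullback.symm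
  exact ⟨by
    rw [← Set.preimage_univ (f := j.hom)]
    exact (j.hom.homeomorph.isPreconnected_preimage).2 isPreconnected_univ⟩

theorem geometricallyConnected_of_isIso_app [IsLocallyNoetherian Y] (f : X ⟶ Y) [IsProper f] [Surjective f]
    (h : ∀ U : Y.Opens, IsAffineOpen U → IsIso (f.app U)) : GeometricallyConnected f := by
  refine ⟨fun K _ t P q r hP => ?_⟩
  haveI := preconnectedSpace_pullback f h t
  haveI : Nonempty ↥(pullback f t) := (pullback.snd f t).surjective.nonempty
  haveI : ConnectedSpace ↥(pullback f t) := { toNonempty := inferInstance }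
  exact hP.isoPullback.inv.homeomorph.surjective.connectedSpace hP.isoPullback.inv.continuous

end Groth.Agent.MdlSurf
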