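import Groth.Agent.ArSurfBase.Symm
import Groth.Agent.MdlSurf.Comp

/-!
# Two components with intersection number one meet transversally in a rational point
-/

set_option autoImplicit false
set_option linter.style.haveILetI false
set_option linter.unusedSectionVars false
set_option backward.isDefEq.respectTransparency false
set_option backward.isDefEq.respectTransparency.types false

universe u

open CategoryTheory CategoryTheory.Limits AlgebraicGeometry IsLocalRing TopologicalSpace Opposite
open Groth.Agent.ArSurfBase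

namespace Groth.Agent.MdlSurf

variable {R : Type u} [CommRing R] [IsDomain R] [IsDiscreteValuationRing R]
  {X : Over (Spec (CommRingCat.of R))}

theorem exists_point [IsProper X.hom] [IsIntegral X.left] [Flat X.hom] [IsLocallyNoetherian X.left]
    (hdim : topologicalKrullDim X.left = 2) (hreg : ∀ x : X.left, IsRegularLocalRing (X.left.presheaf.stalk x))
    {Γ Δ : ArSurf.VertComp R X} (hne : supp Γ ≠ supp Δ) {L : X.left.Modules}
    (hL : ClSub.IsInverseOf L (ClSub.idealMod Δ.ι.ker)) (h1 : ArSurf.inter R X L Γ = 1) :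
    ∃ x : X.left, supp Γ ∩ supp Δ = {x} ∧
      Γ.ι.ker ⊔ Δ.ι.ker = Scheme.IdealSheafData.vanishingIdeal ⟨closure {x}, isClosed_closure⟩ ∧
      Function.Surjective ((X.left.residue x).hom.comp (Models.stalkHom R X x)) := by
  classical
  set I := Γ.ι.ker ⊔ Δ.ι.ker with hI
  have hlen : Models.lengthH R X (ClSub.quotMod I) 0 = 1 := by
    have h := inter_eq_lengthH Γ (isEffCartier_ker Δ hdim hreg) (genPtOf_notMem_support hdim hne) hL
    rw [sup_comm, ← hI, h1] at h
    exact_mod_cast h.symm
  let Z := I.subscheme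
  let i := I.subschemeι
  let g : Z ⟶ Spec (CommRingCat.of R) := i ≫ X.hom
  have hsupp : (I.support : Set X.left) = supp Γ ∩ supp Δ := by
    rw [hI, ← support_ker Γ, ← support_ker Δ]
    exact congrArg (fun s : Closeds X.left => (s : Set X.left)) (Scheme.IdealSheafData.support_sup _ _)
  have hrange : Set.range i = supp Γ ∩ supp Δ := (Scheme.IdealSheafData.range_subschemeι I).trans hsupp
  have hfin : (supp Γ ∩ supp Δ).Finite := by
    haveI := isProper_curve Γ
    haveI := CurveCohLib.isNoetherian_of_proper (k := ResidueField R) (X := Γ.curve.left)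
    have hcl : ∀ c ∈ Γ.ι.base ⁻¹' supp Δ, IsClosed ({c} : Set Γ.curve.left) := fun c hc => by
      by_contra hcc
      have e := CurveCohLib.eq_genericPoint_of_not_isClosed Γ.dim_eq hcc
      exact genPtOf_notMem_supp hdim hne (by rw [Models.genPtOf, ← e]; exact hc)
    have hf := CurveCohLib.finite_of_closedPoints ((isClosed_supp Δ).preimage Γ.ι.continuous) hcl
    refine (hf.image Γ.ι.base).subset ?_
    rintro _ ⟨⟨c, rfl⟩, hc⟩
    exact ⟨c, hc, rfl⟩
  haveI hZfin : Finite Z := by
    refine Set.finite_univ_iff.1 (Set.Finite.of_finite_image (f := i.base) ?_ ?_)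
    · rw [Set.image_univ, show Set.range i.base = supp Γ ∩ supp Δ from hrange]; exact hfin
    · exact i.isClosedEmbedding.injective.injOn
  haveI : LocallyQuasiFinite g := LocallyQuasiFinite.of_finite_preimage_singleton _ fun _ => Set.toFinite _
  haveI : IsProper g := inferInstanceAs (IsProper (i ≫ X.hom))
  haveI : IsFinite g := (IsFinite.iff_isProper_and_locallyQuasiFinite g).2 ⟨inferInstance, inferInstance⟩
  haveI : IsAffine Z := isAffine_of_isAffineHom g
  let ψ : R →+* Γ(Z, ⊤) := Coh.toGlobal g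
  letI : Algebra R Γ(Z, ⊤) := ψ.toAlgebra
  have hZ : Module.length R Γ(Z, ⊤) = 1 := by
    obtain ⟨q⟩ := SurfInt.nonempty_quotMod_ker i
    rw [show i.ker = I from I.ker_subschemeι] at q
    rw [lengthH_congr q] at hlen
    obtain ⟨e⟩ := QCoh.HH_push_linear i (Coh.toGlobal X.hom) (show R →+* Coh.Γtop Z from ψ)
      (fun a => by
        show (i ≫ X.hom).appTop _ = i.appTop (X.hom.appTop _)
        rw [Scheme.Hom.comp_appTop]; rfl)
      (QCoh.isQCoh_structureModule (X := Z)) 0
    letI := QCoh.modHH (show R →+* Coh.Γtop Z from ψ) (Coh.structureModule Z) 0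
    let e₀ : Coh.HH Z (Coh.structureModule Z) 0 ≃+ Γ(Z, ⊤) :=
      Sheaf.H.equiv₀ (Coh.toAb (Coh.structureModule Z)) isTerminalTop
    let E : Coh.HH Z (Coh.structureModule Z) 0 ≃ₗ[R] Γ(Z, ⊤) :=
      { e₀ with
        map_smul' := fun a t => by
          show e₀ (ψ a • t) = ψ a * e₀ t
          refine (Sheaf.H.equiv₀_naturality isTerminalTop (Coh.smulAb (Coh.structureModule Z) (ψ a)) t).symm.trans ?_
          show (show Γ(Z, ⊤) from Coh.resTop Z (op ⊤) (ψ a)) * e₀ t = _
          congr 1
          show (Z.presheaf.map (homOfLE le_top).op).hom (ψ a) = ψ a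
          rw [show (homOfLE le_top).op = 𝟙 (op (⊤ : Z.Opens)) from rfl, Z.presheaf.map_id]
          rfl }
    rw [← E.length_eq, e.length_eq]
    exact (ENat.toNat_eq_iff one_ne_zero).1 hlen
  haveI hsimple : IsSimpleModule R Γ(Z, ⊤) := Module.length_eq_one_iff.1 hZ
  have hsurj : Function.Surjective (algebraMap R Γ(Z, ⊤)) := fun z => by
    haveI : Nontrivial Γ(Z, ⊤) := IsSimpleModule.nontrivial R _
    obtain ⟨a, ha⟩ := (IsSimpleModule.toSpanSingleton_surjective R (one_ne_zero : (1 : Γ(Z, ⊤)) ≠ 0)) z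
    exact ⟨a, by rw [← ha, LinearMap.toSpanSingleton_apply, Algebra.smul_def, mul_one]⟩
  have hker : RingHom.ker (algebraMap R Γ(Z, ⊤)) = maximalIdeal R := by
    refine IsLocalRing.eq_maximalIdeal ?_
    haveI : Nontrivial Γ(Z, ⊤) := IsSimpleModule.nontrivial R _
    let e : (R ⧸ RingHom.ker (algebraMap R Γ(Z, ⊤))) ≃ₗ[R] Γ(Z, ⊤) :=
      (Ideal.quotientKerAlgEquivOfSurjective (f := Algebra.ofId R Γ(Z, ⊤)) hsurj).toLinearEquiv
    haveI := IsSimpleModule.congr e
    exact Ideal.isMaximal_def.2 (isSimpleModule_iff_isCoatom.1 inferInstance)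
  have hfield : IsField Γ(Z, ⊤) := by
    let e : (R ⧸ maximalIdeal R) ≃+* Γ(Z, ⊤) :=
      (Ideal.quotEquivOfEq hker.symm).trans (RingHom.quotientKerEquivOfSurjective hsurj)
    exact MulEquiv.isField ((Ideal.Quotient.maximal_ideal_iff_isField_quotient _).1 inferInstance) e.symm.toMulEquiv
  haveI : IsClosedImmersion g := IsClosedImmersion.of_surjective_of_isAffine g fun z => by
    obtain ⟨a, ha⟩ := hsurj z
    exact ⟨(Scheme.ΓSpecIso (CommRingCat.of R)).inv a, ha⟩
  haveI : IsReduced Z := by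
    letI := hfield.toField
    haveI : IsReduced (Spec Γ(Z, ⊤)) := inferInstance
    exact isReduced_of_isOpenImmersion Z.isoSpec.hom
  have hpt : ∀ z : Z, g.base z = closedPoint R := fun z =>
    hom_base_eq_closedPoint Γ ((hrange.le ⟨z, rfl⟩).1)
  have hsub : ∀ z z' : Z, z = z' := fun z z' => g.isClosedEmbedding.injective ((hpt z).trans (hpt z').symm)
  obtain ⟨z₀⟩ : Nonempty Z := by
    by_contra hemp
    rw [not_nonempty_iff] at hemp
    haveI : Nontrivial Γ(Z, ⊤) := IsSimpleModule.nontrivial R _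
    haveI : Subsingleton Γ(Z, ⊤) := inferInstance
    exact not_subsingleton Γ(Z, ⊤) ‹_›
  refine ⟨i z₀, ?_, ?_, ?_⟩
  · rw [← hrange]
    refine Set.eq_singleton_iff_unique_mem.2 ⟨Set.mem_range_self z₀, ?_⟩
    rintro _ ⟨z, rfl⟩
    rw [hsub z z₀]
  · conv_lhs => rw [← I.ker_subschemeι, ker_eq_vanishingIdeal I.subschemeι, I.ker_subschemeι]
    congr 1
    refine SetLike.coe_injective ?_
    show (I.support : Set X.left) = closure {i z₀}
    have hs : ({i z₀} : Set X.left) = Set.range i := by
      refine (Set.eq_singleton_iff_unique_mem.2 (And.intro (Set.mem_range_self z₀) ?_)).symm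
      rintro _ ⟨z, rfl⟩
      rw [hsub z z₀]
    rw [hs, hrange, ← hsupp, I.support.isClosed.closure_eq]
  · have h2 : Function.Surjective ((Z.residue z₀).hom.comp ((Z.presheaf.germ ⊤ z₀ trivial).hom.comp ψ)) := by
      intro w
      obtain ⟨t, rfl⟩ := Z.residue_surjective z₀ w
      obtain ⟨U, hU, b, hb⟩ := Z.presheaf.exists_germ_eq t
      obtain rfl : U = ⊤ := eq_top_iff.2 fun z _ => hsub z₀ z ▸ hU
      obtain ⟨a, rfl⟩ := hsurj b
      exact ⟨a, congrArg (Z.residue z₀) hb⟩
    intro w
    obtain ⟨a, ha⟩ := h2 (i.residueFieldMap z₀ w)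
    refine ⟨a, (i.residueFieldMap z₀).hom.injective ?_⟩
    rw [← ha]
    show (i.residueFieldMap z₀) ((X.left.residue (i z₀)) (Models.stalkHom R X (i z₀) a)) = _
    rw [← ConcreteCategory.comp_apply, Scheme.residue_residueFieldMap]
    show (Z.residue z₀) (i.stalkMap z₀ (X.left.presheaf.germ ⊤ (i z₀) trivial (Coh.toGlobal X.hom a))) = _
    rw [Scheme.Hom.germ_stalkMap_apply]
    show (Z.residue z₀) (Z.presheaf.germ ⊤ z₀ trivial (i.appTop (X.hom.appTop _))) =
      (Z.residue z₀) (Z.presheaf.germ ⊤ z₀ trivial ((i ≫ X.hom).appTop _))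
    rw [Scheme.Hom.comp_appTop]
    rfl

end Groth.Agent.MdlSurf
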