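import Groth.Agent.ArSurfBase.ModelsMeet
import Groth.Agent.ArSurfBase.ExcBlow
import Groth.Agent.MdlSurf.Comp
import Groth.Agent.MdlSurf.FibreEuler

/-!
# Minimal models: morphisms to them and their uniqueness
-/

set_option autoImplicit false
set_option linter.style.haveILetI false
set_option linter.unusedSectionVars false
set_option backward.isDefEq.respectTransparency false
set_option backward.isDefEq.respectTransparency.types false

universe u

open CategoryTheory CategoryTheory.Limits AlgebraicGeometry IsLocalRing TopologicalSpace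
open Groth.Agent.ArSurfBase

namespace Groth.Agent.MdlSurf

variable {R : Type u} [CommRing R] [IsDomain R] [IsDiscreteValuationRing R]
  {X Y : Over (Spec (CommRingCat.of R))}

/-- Contractible curves do not meet over a generic fibre of positive genus. -/
theorem noMeet_of_euler (hR : ¬ IsField R) (hX : Surf X)
    (hg : FGA.eulerCharLE (FractionRing R) ((Neron.genericFibre R).obj X).left (Coh.structureModule _) 1 ≤ 0) :
    NoMeet X := by
  intro Z Z₁ Z₂ f c₁ y₁ c₂ y₂ h₁ h₂ hf hne
  by_contra hmeet
  haveI := hf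
  have hZ := h₁.surfSrc
  set F := (Neron.genericFibre R).map f
  haveI : IsIso F.left := inferInstanceAs (IsIso ((Over.forget _).map F))
  haveI := subsingleton_h1_generic hZ h₁ h₂ hR hne hmeet
  set V := ((Neron.genericFibre R).obj X).left
  obtain ⟨e⟩ := QCoh.HH_push_of_isAffineHom F.left (QCoh.isQCoh_structureModule (X := ((Neron.genericFibre R).obj Z).left)) 1
  haveI : Subsingleton (Coh.HH V ((Coh.push F.left).obj (Coh.structureModule _)) 1) := e.symm.toEquiv.subsingleton
  haveI := CurveTensor.isIso_unit_of_isIso F.left (Coh.structureModule V)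
  let ψ : (Coh.push F.left).obj (Coh.structureModule ((Neron.genericFibre R).obj Z).left) ≅ Coh.structureModule V :=
    (Coh.push F.left).mapIso (Scheme.Modules.restrictUnitIso F.left).symm ≪≫
      (asIso ((Scheme.Modules.restrictAdjunction F.left).unit.app (Coh.structureModule V))).symm
  have h1 : Subsingleton (Coh.HH V (Coh.structureModule V) 1) :=
    QCoh.subsingleton_HH_of_iso ψ 1 ‹Subsingleton (Coh.HH V ((Coh.push F.left).obj (Coh.structureModule _)) 1)›
  haveI hint : IsIntegral V := isIntegral_genFst hX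
  haveI := hX.proper
  haveI : IsProper (V ↘ Spec (CommRingCat.of (FractionRing R))) :=
    MorphismProperty.pullback_snd (P := @IsProper) X.hom (Neron.genPt R) inferInstance
  haveI := h1
  have h2 := CurveEmbed.h0_structure_pos (k := FractionRing R) (X := V)
  have h3 : Module.finrank (FractionRing R) (Coh.HH V (Coh.structureModule V) 1) = 0 :=
    Module.finrank_zero_of_subsingleton
  have h4 : FGA.eulerCharLE (FractionRing R) V (Coh.structureModule V) 1 =
      (Module.finrank (FractionRing R) (Coh.HH V (Coh.structureModule V) 0) : ℤ) := by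
    simp [FGA.eulerCharLE, Finset.sum_range_succ, h3]
  have h5 : FGA.eulerCharLE (FractionRing R) V (Coh.structureModule V) 1 ≤ 0 := hg
  omega

/-- A rational map from a regular proper surface to a proper scheme extends after point blow-ups. -/
theorem exists_seq_extending (hX : Surf X)
    (Z : Over (Spec (CommRingCat.of R))) [IsProper Z.hom]
    (U : X.left.Opens) (hU : (U : Set X.left).Nonempty)
    (φ : (U : Scheme.{u}) ⟶ Z.left) (hφ : φ ≫ Z.hom = U.ι ≫ X.hom) :
    ∃ (X' : Scheme.{u}) (f : X' ⟶ X.left) (g : X' ⟶ Z.left),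
      Models.IsContractionSeq f ∧ g ≫ Z.hom = f ≫ X.hom ∧ (f ⁻¹ᵁ U).ι ≫ g = (f ∣_ U) ≫ φ := by
  classical
  haveI hNoeth : IsNoetherian X.left := hX.noetherian
  haveI : IsProper X.hom := hX.proper
  haveI : IsIntegral X.left := hX.integral
  haveI : Z.left.IsSeparated := by
    have : IsSeparated (Z.hom ≫ terminal.from _) := inferInstance
    exact ⟨by rwa [terminal.comp_from] at this⟩
  have hd : topologicalKrullDim X.left ≤ 2 := hX.dim
  obtain ⟨x₀, hx₀⟩ := hU
  have hgU : genericPoint X.left ∈ U := H23.RatExtend.genericPoint_mem U hx₀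
  let φ₀ := U.fromSpecStalkOfMem (genericPoint X.left) hgU ≫ φ
  have h₀ : φ₀ ≫ Z.hom = X.left.fromSpecStalk _ ≫ X.hom := by
    simp only [φ₀, Category.assoc, hφ, Scheme.Opens.fromSpecStalkOfMem_ι_assoc]
  obtain ⟨W, hgW, H, hTW, hH, hHφ⟩ := H23.RatExtend.extend X.hom Z.hom φ₀ h₀
    ({p | ringKrullDim (X.left.presheaf.stalk p) ≤ 1} ∪ (U : Set X.left)) (by
      rintro p (hp | hp)
      · haveI := hX.regular p
        haveI : IsDomain (X.left.presheaf.stalk p) :=
          Function.Injective.isDomain _ (IsFractionRing.injective (X.left.presheaf.stalk p) X.left.functionField)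
        haveI : IsPrincipalIdealRing (X.left.presheaf.stalk p) :=
          DimFormula.isPrincipalIdealRing_of_regular_dim_le_one hp
        exact H23.RatExtend.exists_lift X.hom Z.hom φ₀ h₀ p inferInstance
      · refine ⟨U.fromSpecStalkOfMem p hp ≫ φ, ?_, ?_⟩
        · rw [Category.assoc, hφ, Scheme.Opens.fromSpecStalkOfMem_ι_assoc]
        · rw [← Category.assoc, H23.RatExtend.specializes_comp_fromSpecStalkOfMem U
            (genericPoint_specializes p) hp hgU])
  have hUW : U ≤ W := fun p hp => hTW (Or.inr hp)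
  have hagree : X.left.homOfLE hUW ≫ H = φ := by
    haveI := H23.RatExtend.isDominant_fromSpecStalkOfMem U hgU
    refine ext_of_isDominant_of_isSeparated Z.hom (by rw [Category.assoc, hH, hφ, Scheme.homOfLE_ι_assoc])
      (U.fromSpecStalkOfMem (genericPoint X.left) hgU) ?_
    have e : U.fromSpecStalkOfMem (genericPoint X.left) hgU ≫ X.left.homOfLE hUW =
        W.fromSpecStalkOfMem (genericPoint X.left) hgW := by
      rw [← cancel_mono W.ι, Category.assoc, Scheme.homOfLE_ι, Scheme.Opens.fromSpecStalkOfMem_ι,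
        Scheme.Opens.fromSpecStalkOfMem_ι]
    rw [← Category.assoc, e, hHφ]
  let T : Set X.left := (W : Set X.left)ᶜ
  have hTc : IsClosed T := W.2.isClosed_compl
  have hdim : ∀ x ∈ T, ringKrullDim (X.left.presheaf.stalk x) = 2 := by
    intro x hx
    have h1 : ¬ ringKrullDim (X.left.presheaf.stalk x) ≤ 1 := fun h => hx (hTW (Or.inl h))
    exact eq_two_of_not_le_one ((SchTop.ringKrullDim_stalk_le x).trans hd) h1
  have hclosed : ∀ x ∈ T, IsClosed ({x} : Set X.left) := by
    intro x hx
    exact isClosed_singleton_of_dim_two hd (hdim x hx)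
  have hTf : T.Finite := ResSurf.finite_of_forall_isClosed hTc hclosed
  obtain ⟨G, π, χ, -, hπp, hπiso, hχ, hχH⟩ :=
    ResSurf.exists_graph_closure X.hom Z.hom W ⟨_, hgW⟩ H hH
  haveI := hπp
  have eW : (⟨Tᶜ, hTc.isOpen_compl⟩ : X.left.Opens) = W := TopologicalSpace.Opens.ext (compl_compl _)
  obtain ⟨X', f, hf, -, h, hh⟩ := ResSurf.PointDominate.exists_contractionSeq_dominating T hTf hTc
    (fun x hx => ⟨hclosed x hx, hX.regular x, hdim x hx⟩) π (by rw [eW]; exact hπiso)
  refine ⟨X', f, h ≫ χ, hf, by rw [Category.assoc, hχ, ← Category.assoc, hh], ?_⟩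
  have hle : f ⁻¹ᵁ U ≤ h ⁻¹ᵁ (π ⁻¹ᵁ W) := by
    rw [← Scheme.Hom.comp_preimage, hh]
    exact f.preimage_mono hUW
  let s : (f ⁻¹ᵁ U : Scheme.{u}) ⟶ (π ⁻¹ᵁ W : Scheme.{u}) := Scheme.Hom.resLE h _ _ hle
  have hs : s ≫ (π ⁻¹ᵁ W).ι = (f ⁻¹ᵁ U).ι ≫ h := Scheme.Hom.resLE_comp_ι _ _
  have hsπ : s ≫ (π ∣_ W) = (f ∣_ U) ≫ X.left.homOfLE hUW := by
    rw [← cancel_mono W.ι, Category.assoc, Category.assoc, morphismRestrict_ι, reassoc_of% hs, hh,
      Scheme.homOfLE_ι, morphismRestrict_ι]
  rw [← Category.assoc, ← hs, Category.assoc, hχH, ← Category.assoc, hsπ, Category.assoc, hagree]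

/-- The curve blown down by a point blow-up of models is a vertical exceptional curve of the first kind. -/
theorem exists_excCurve_of_ptBlow {c : X ⟶ Y} {y : Y.left} (h : IsPtBlow c y) :
    ∃ Γ : ArSurf.VertComp R X, Models.IsExcCurve Γ.ι := by
  haveI := h.surf.noetherian
  haveI := h.surf.proper
  have hys : Y.hom.base y = closedPoint R :=
    PrimeSpectrum.ext (IsLocalRing.eq_maximalIdeal ((Y.hom.base y).isPrime.isMaximal
      (asIdeal_ne_bot_of_closed (IsDiscreteValuationRing.not_isField R) h.surf h.closed)))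
  set I := Scheme.IdealSheafData.vanishingIdeal (⟨{y}, h.closed⟩ : Closeds Y.left)
  set J := I.comap c.left
  obtain ⟨e, he, ⟨α⟩⟩ := exists_exceptional h.closed (h.surf.regular y) h.dim_stalk c.left h.blow
  haveI : IsIntegral (CohB1.ProjSpace 1 (Y.left.residueField y)) := H23.PnChart.isIntegral_projSpace 1 _
  haveI : Nonempty J.subscheme := ⟨e.hom (genericPoint _)⟩
  haveI : IsIntegral J.subscheme := isIntegral_of_isOpenImmersion e.inv
  let ψ : R →+* Y.left.residueField y := (Y.left.residue y).hom.comp (Models.stalkHom R Y y)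
  have hψ : ∀ a ∈ maximalIdeal R, ψ a = 0 := fun a ha => by
    refine (IsLocalRing.residue_eq_zero_iff _).2 ((rho_mem_maximalIdeal_iff Y.hom y a).2 ?_)
    rw [hys]
    exact ha
  let φ : ResidueField R →+* Y.left.residueField y := Ideal.Quotient.lift _ ψ hψ
  refine ⟨{
    curve := Over.mk (e.inv ≫ CohB1.ProjSpace.toSpec 1 (Y.left.residueField y) ≫ Spec.map (CommRingCat.ofHom φ))
    ι := J.subschemeι
    isClosedImmersion := inferInstance
    isIntegral := ‹IsIntegral J.subscheme›
    dim_eq := by
      show topologicalKrullDim J.subscheme = 1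
      rw [← e.hom.homeomorph.isHomeomorph.topologicalKrullDim_eq]
      simpa using S10829.result (Y.left.residueField y) 1
    w := ?_ }, ?_⟩
  · show J.subschemeι ≫ X.hom = (e.inv ≫ _ ≫ _) ≫ _
    rw [← cancel_epi e.hom, ← Over.w c]
    simp only [Category.assoc, Iso.hom_inv_id_assoc]
    rw [reassoc_of% he, ← Spec.map_comp, Scheme.fromSpecResidueField, Category.assoc, fromSpecStalk_hom,
      ← Spec.map_comp]
    rfl
  · refine ⟨?_, Y.left.residueField y, inferInstance, e, ?_⟩
    · rw [show J.subschemeι.ker = J from J.ker_subschemeι]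
      exact h.blow.1
    · rw [show J.subschemeι.ker = J from J.ker_subschemeι]
      exact ⟨α⟩

variable {C : Scheme.{u}} {f : C ⟶ Spec (CommRingCat.of (FractionRing R))}

theorem surf {Z : Scheme.{u}} {p : Z ⟶ Spec (CommRingCat.of R)}
    (hC : Curve.IsSmoothProperCurve (FractionRing R) C f) (hX : Models.IsRegularProperModel R Z p C f) :
    Surf (Over.mk p) :=
  haveI := isIntegral hC hX.1 hX.2.2
  haveI : IsIntegral (Over.mk p).left := ‹IsIntegral Z›
  ⟨hX.2.2, ‹IsIntegral Z›, dim_le_two hC hX.1, hX.2.1, hX.1.1⟩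

/-- A minimal model admits no proper birational morphism to another model. -/
theorem isMinSurf {Z : Scheme.{u}} {p : Z ⟶ Spec (CommRingCat.of R)}
    (hC : Curve.IsSmoothProperCurve (FractionRing R) C f) (hX : Models.IsMinimalModel R Z p C f) :
    IsMinSurf (Over.mk p) := by
  intro W g hW hg
  by_contra hni
  obtain ⟨V, c, y, g', hc, -, -, -⟩ :=
    exists_first_step (IsDiscreteValuationRing.not_isField R) (surf hC hX.1) hW g hg hni
  obtain ⟨Γ, hΓ⟩ := exists_excCurve_of_ptBlow hc
  exact hX.2 Γ hΓ

/-- The generic fibre of a model, in the slice category. -/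
theorem exists_genIso {Z : Scheme.{u}} {p : Z ⟶ Spec (CommRingCat.of R)} {g : C ⟶ Z}
    (hg : IsPullback g f p (Spec.map (CommRingCat.ofHom (algebraMap R (FractionRing R))))) :
    ∃ e : Over.mk f ≅ (Neron.genericFibre R).obj (Over.mk p), e.hom.left ≫ pullback.fst p (Neron.genPt R) = g :=
  ⟨Over.isoMk hg.isoPullback hg.isoPullback_hom_snd, hg.isoPullback_hom_fst⟩

theorem euler_genericFibre_nonpos {Z : Scheme.{u}} {p : Z ⟶ Spec (CommRingCat.of R)} (hp : IsProper p)
    (hH0 : IsIso f.appTop) (hpos : 0 < Models.curveGenus (FractionRing R) C f) {g : C ⟶ Z}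
    (hg : IsPullback g f p (Spec.map (CommRingCat.ofHom (algebraMap R (FractionRing R))))) :
    FGA.eulerCharLE (FractionRing R) ((Neron.genericFibre R).obj (Over.mk p)).left (Coh.structureModule _) 1 ≤ 0 := by
  haveI := hp
  letI : C.Over (Spec (CommRingCat.of (FractionRing R))) := ⟨f⟩
  haveI : CompactSpace Z := QuasiCompact.compactSpace_of_compactSpace p
  haveI : Z.IsSeparated := ⟨by
    rw [← terminal.comp_from p]
    infer_instance⟩
  set V := ((Neron.genericFibre R).obj (Over.mk p)).left
  have hrank : ∀ i, Module.finrank (FractionRing R) (Coh.HH V (Coh.structureModule V) i) =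
      Module.finrank (FractionRing R) (Coh.HH C (Coh.structureModule C) i) := fun i => by
    letI : Z.Over (Spec (CommRingCat.of R)) := ⟨p⟩
    obtain ⟨e₁⟩ := QCoh.HH_flatBaseChange (pA := p) (pB := f) (φ := g) (A := R) (B := FractionRing R) hg
      (QCoh.isQCoh_structureModule (X := Z)) i
    obtain ⟨e₂⟩ := QCoh.HH_flatBaseChange (pA := p) (pB := pullback.snd p (Neron.genPt R))
      (φ := pullback.fst p (Neron.genPt R)) (A := R) (B := FractionRing R) (IsPullback.of_hasPullback _ _)
      (QCoh.isQCoh_structureModule (X := Z)) i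
    exact ((e₂.trans (CurveCohLib.hhEquiv (k := FractionRing R) (CurveBC.unitIso _) i)).symm.trans
      (e₁.trans (CurveCohLib.hhEquiv (k := FractionRing R) (CurveBC.unitIso g) i))).finrank_eq
  have hC0 : Module.finrank (FractionRing R) (Coh.HH C (Coh.structureModule C) 0) = 1 := by
    rw [GeomField.finrank_HH_zero]
    letI := GeomField.globalAlgebra (FractionRing R) C
    have hb : Function.Bijective (algebraMap (FractionRing R) Γ(C, ⊤)) :=
      ((ConcreteCategory.isIso_iff_bijective f.appTop).1 hH0).comp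
        (Scheme.ΓSpecIso (CommRingCat.of (FractionRing R))).symm.commRingCatIsoToRingEquiv.bijective
    rw [← (AlgEquiv.ofBijective (Algebra.ofId (FractionRing R) Γ(C, ⊤)) hb).toLinearEquiv.finrank_eq]
    exact Module.finrank_self _
  have h1 : 0 < Module.finrank (FractionRing R) (Coh.HH C (Coh.structureModule C) 1) := hpos
  have e1 : 0 < Module.finrank (FractionRing R) (Coh.HH V (Coh.structureModule V) 1) := hrank 1 ▸ h1
  show (Finset.range (1 + 1)).sum
    (fun i => (-1 : ℤ) ^ i * (Module.finrank (FractionRing R) (Coh.HH V (Coh.structureModule V) i) : ℤ)) ≤ 0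
  rw [Finset.sum_range_succ, Finset.sum_range_one, (hrank 0).trans hC0]
  push_cast
  omega

/-- Every model maps to a minimal model of positive genus, uniquely, by a sequence of contractions. -/
theorem mapping_property {Z W : Scheme.{u}} {p : Z ⟶ Spec (CommRingCat.of R)} {q : W ⟶ Spec (CommRingCat.of R)}
    (hC : Curve.IsSmoothProperCurve (FractionRing R) C f) (hH0 : IsIso f.appTop)
    (hpos : 0 < Models.curveGenus (FractionRing R) C f) (hX : Models.IsMinimalModel R Z p C f)
    (hY : Models.IsRegularProperModel R W q C f) {gX : C ⟶ Z}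
    (hgX : IsPullback gX f p (Spec.map (CommRingCat.ofHom (algebraMap R (FractionRing R))))) {gY : C ⟶ W}
    (hgY : IsPullback gY f q (Spec.map (CommRingCat.ofHom (algebraMap R (FractionRing R))))) :
    (∃! b : W ⟶ Z, b ≫ p = q ∧ gY ≫ b = gX) ∧
      ∀ b : W ⟶ Z, b ≫ p = q → gY ≫ b = gX → Models.IsContractionSeq b := by
  have hR := IsDiscreteValuationRing.not_isField R
  let X₁ : Over (Spec (CommRingCat.of R)) := Over.mk q
  let X₂ : Over (Spec (CommRingCat.of R)) := Over.mk p
  have s₁ : Surf X₁ := surf hC hY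
  have s₂ : Surf X₂ := surf hC hX.1
  haveI := s₁.integral; haveI := s₁.proper; haveI := s₂.proper; haveI := s₁.noetherian
  haveI := s₁.flat; haveI := s₂.noetherian; haveI := s₂.integral
  haveI : X₂.left.IsSeparated := by
    have : IsSeparated (X₂.hom ≫ terminal.from _) := inferInstance
    exact ⟨by rwa [terminal.comp_from] at this⟩
  obtain ⟨eX, heX⟩ := exists_genIso hgX
  obtain ⟨eY, heY⟩ := exists_genIso hgY
  let φ : (Neron.genericFibre R).obj X₁ ≅ (Neron.genericFibre R).obj X₂ := eY.symm ≪≫ eX
  have hmap : ∀ b : X₁ ⟶ X₂, (Neron.genericFibre R).map b = φ.hom ↔ gY ≫ b.left = gX := by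
    intro b
    rw [← cancel_epi eY.hom, show eY.hom ≫ φ.hom = eX.hom from eY.hom_inv_id_assoc _]
    constructor
    · intro h
      rw [← heX, ← h, Over.comp_left, Category.assoc]
      rw [show ((Neron.genericFibre R).map b).left ≫ pullback.fst p (Neron.genPt R) =
        pullback.fst q (Neron.genPt R) ≫ b.left from Neron6.pullback_map_fst _ b, reassoc_of% heY]
    · intro h
      refine Neron6.pullback_hom_ext _ _ _ ?_
      rw [Over.comp_left, Category.assoc]
      rw [show ((Neron.genericFibre R).map b).left ≫ pullback.fst X₂.hom (Neron.genPt R) =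
        pullback.fst q (Neron.genPt R) ≫ b.left from Neron6.pullback_map_fst _ b, reassoc_of% heY]
      exact h.trans heX.symm
  haveI := isIntegral_genFst s₁
  set π := pullback.fst X₁.hom (Neron.genPt R)
  haveI : IsPreimmersion (Neron.genPt R) := IsPreimmersion.of_isLocalization (nonZeroDivisors R)
  haveI : IsPreimmersion π := MorphismProperty.pullback_fst _ _ inferInstance
  haveI : Flat (Neron.genPt R) :=
    Flat.SpecMap_iff.2 (RingHom.flat_algebraMap_iff.2 (IsLocalization.flat (FractionRing R) (nonZeroDivisors R)))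
  haveI : Flat π := MorphismProperty.pullback_fst _ _ inferInstance
  have hgen : π (genericPoint _) = genericPoint X₁.left := by
    haveI : IsDominant π := isDominant_genFst s₁
    exact (genericPoint_spec ↥(pullback X₁.hom (Neron.genPt R))).image π.continuous |>.eq (by
      have h := genericPoint_spec X₁.left
      rw [Set.image_univ]
      rwa [π.denseRange.closure_eq])
  obtain ⟨U, H, hU, hH, hcompat⟩ := H23.RatExtend.exists_spread (sX := X₂.hom) (sP := X₁.hom) π hgen
    (φ.hom.left ≫ pullback.fst X₂.hom (Neron.genPt R)) (by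
      rw [Category.assoc, pullback.condition, ← Category.assoc]
      exact (congrArg (· ≫ Neron.genPt R) (Over.w φ.hom)).trans pullback.condition.symm)
  obtain ⟨S, r, s, hr, hrs, hsH⟩ := exists_seq_extending s₁ X₂ U
    ⟨_, hU ((range_genFst X₁).ge (genericPoint_mem_genSet s₁))⟩ H hH
  let T : Over (Spec (CommRingCat.of R)) := Over.mk (r ≫ X₁.hom)
  obtain ⟨hT, hF⟩ : Surf T ∧ IsIso ((Neron.genericFibre R).map (Over.homMk r rfl : T ⟶ X₁)) :=
    surf_of_seq hR hr X₁.hom s₁
  let F : T ⟶ X₁ := Over.homMk r rfl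
  let G : T ⟶ X₂ := Over.homMk s hrs
  have hG : (Neron.genericFibre R).map G = (Neron.genericFibre R).map F ≫ φ.hom := by
    refine Neron6.pullback_hom_ext _ _ _ ?_
    refine (Neron6.pullback_map_fst _ G).trans ?_
    set jZ := pullback.fst T.hom (Neron.genPt R)
    let l := IsOpenImmersion.lift (r ⁻¹ᵁ U).ι jZ (by
      rw [Scheme.Opens.range_ι]
      refine (range_genFst T).le.trans fun x hx => ?_
      exact hU ((range_genFst X₁).ge (show (X₁.hom.base (r x)).asIdeal = ⊥ from hx)))
    have hl : l ≫ (r ⁻¹ᵁ U).ι = jZ := IsOpenImmersion.lift_fac _ _ _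
    show jZ ≫ s = ((Neron.genericFibre R).map F ≫ φ.hom).left ≫ pullback.fst X₂.hom (Neron.genPt R)
    rw [← hl, Category.assoc, hsH, Over.comp_left, Category.assoc, ← Category.assoc]
    refine hcompat ((Neron.genericFibre R).map F).left _ ?_
    rw [Category.assoc, morphismRestrict_ι, reassoc_of% hl]
    exact (Neron6.pullback_map_fst _ F).symm
  haveI : IsIso ((Neron.genericFibre R).map F) := hF
  have hGiso : IsIso ((Neron.genericFibre R).map G) := by
    rw [hG]
    infer_instance
  obtain ⟨d, hd⟩ := exists_descent hR s₂ (isMinSurf hC hX)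
    (noMeet_of_euler hR s₂ (euler_genericFibre_nonpos s₂.proper hH0 hpos hgX)) _ T X₁ G F hT s₁ hGiso hF
    (Nat.lt_succ_self _)
  have hdmap : (Neron.genericFibre R).map d = φ.hom := by
    have h := congrArg (Neron.genericFibre R).map hd
    rw [Functor.map_comp, hG, cancel_epi] at h
    exact h
  refine ⟨⟨d.left, ⟨Over.w d, (hmap d).1 hdmap⟩, fun b ⟨hb, hgb⟩ => ?_⟩, fun b hb hgb => ?_⟩
  · exact congrArg (fun a : X₁ ⟶ X₂ => a.left)
      (ext_of_genericFibre s₁ s₂ (Over.homMk b hb) d (((hmap _).2 hgb).trans hdmap.symm))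
  · let B : X₁ ⟶ X₂ := Over.homMk b hb
    have hB : IsIso ((Neron.genericFibre R).map B) := by
      rw [(hmap B).2 hgb]
      infer_instance
    obtain ⟨O, hO, hiso⟩ := exists_isIso_restrict s₁ s₂ B hB
    haveI := hiso
    haveI : IsProper B.left := s₁.isProper_left s₂ B
    exact ResSurf.RegularFactor.isContractionSeq B.left s₁.regular s₂.regular s₂.dim O
      ⟨_, hO (genericPoint_mem_genSet s₂)⟩

end Groth.Agent.MdlSurf
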