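import Groth.Agent.MdlSurf.FibreDivisors
import Groth.Prelude.Def_Models
import Groth.Agent.GeomField.GlobalFunctions

/-!
# The numerical type of a regular proper model
-/

set_option autoImplicit false
set_option linter.style.haveILetI false
set_option linter.unusedSectionVars false
set_option backward.isDefEq.respectTransparency false
set_option backward.isDefEq.respectTransparency.types false

universe u

open CategoryTheory CategoryTheory.Limits AlgebraicGeometry IsLocalRing

noncomputable section

namespace Groth.Agent.MdlSurf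

section Field

variable (k : Type u) [Field k] (X : Scheme.{u}) [X.Over (Spec (CommRingCat.of k))] [IsIntegral X]
  [IsProper (X ↘ Spec (CommRingCat.of k))]

/-- `dim_k H^0(O)` divides `dim_k H^i(M)` on a proper integral scheme over a field. -/
theorem h0_dvd_finrank_HH (M : X.Modules) (i : ℕ) :
    Module.finrank k (Coh.HH X (Coh.structureModule X) 0) ∣ Module.finrank k (Coh.HH X M i) := by
  let p := X ↘ Spec (CommRingCat.of k)
  letI : Field (Coh.Γtop X) := (isField_of_universallyClosed k p).toField
  letI : Algebra k (Coh.Γtop X) := (Coh.toGlobal p).toAlgebra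
  haveI : IsScalarTower k (Coh.Γtop X) (Coh.HH X M i) :=
    IsScalarTower.of_compHom k (Coh.Γtop X) (Coh.HH X M i)
  refine ⟨Module.finrank (Coh.Γtop X) (Coh.HH X M i), ?_⟩
  rw [GeomField.finrank_HH_zero]
  exact (Module.finrank_mul_finrank k (Coh.Γtop X) (Coh.HH X M i)).symm

theorem h0_pos : 0 < Module.finrank k (Coh.HH X (Coh.structureModule X) 0) := by
  haveI : CompactSpace X := QuasiCompact.compactSpace_of_compactSpace (X ↘ Spec (CommRingCat.of k))
  haveI : IsLocallyNoetherian X := LocallyOfFiniteType.isLocallyNoetherian (X ↘ Spec (CommRingCat.of k))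
  haveI := S0002.result k X _ QCoh.isCoh_structureModule' 0
  haveI : Nontrivial (Coh.HH X (Coh.structureModule X) 0) := by
    haveI : Nonempty (⊤ : X.Opens) := ⟨⟨Classical.arbitrary X, trivial⟩⟩
    haveI : Nontrivial ((Coh.toAb (Coh.structureModule X)).obj.obj (Opposite.op ⊤)) :=
      inferInstanceAs (Nontrivial Γ(X, ⊤))
    exact (Sheaf.H.equiv₀ (Coh.toAb (Coh.structureModule X)) isTerminalTop).toEquiv.nontrivial
  exact Module.finrank_pos

end Field

variable {R : Type u} [CommRing R] [IsDomain R] [IsDiscreteValuationRing R]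
  {C X : Scheme.{u}} {f : C ⟶ Spec (CommRingCat.of (FractionRing R))} {p : X ⟶ Spec (CommRingCat.of R)}
  {n : ℕ} {Γ : Fin n → ArSurf.VertComp R (Over.mk p)}

theorem wdeg_pos [IsProper p] (i : Fin n) : 0 < Models.wdeg R (Over.mk p) (Γ i) := by
  haveI : IsProper (Over.mk p).hom := ‹_›
  haveI := ArSurfBase.isProper_curve (Γ i)
  exact h0_pos (ResidueField R) (Γ i).curve.left

theorem wdeg_dvd_h1 [IsProper p] (i : Fin n) :
    Models.wdeg R (Over.mk p) (Γ i) ∣ Models.h1 R (Over.mk p) (Γ i) := by
  haveI : IsProper (Over.mk p).hom := ‹_›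
  haveI := ArSurfBase.isProper_curve (Γ i)
  exact h0_dvd_finrank_HH (ResidueField R) (Γ i).curve.left _ 1

theorem wdeg_dvd_inter [IsProper p] (M : X.Modules) (i : Fin n) :
    (Models.wdeg R (Over.mk p) (Γ i) : ℤ) ∣ ArSurf.inter R (Over.mk p) M (Γ i) := by
  haveI : IsProper (Over.mk p).hom := ‹_›
  haveI := ArSurfBase.isProper_curve (Γ i)
  have key : ∀ (N : (Γ i).curve.left.Modules) (j : ℕ), (Models.wdeg R (Over.mk p) (Γ i) : ℤ) ∣
      (Module.finrank (ResidueField R) (Coh.HH (Γ i).curve.left N j) : ℤ) := fun N j =>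
    Int.natCast_dvd_natCast.2 (h0_dvd_finrank_HH (ResidueField R) (Γ i).curve.left N j)
  unfold ArSurf.inter ArSurf.curveDeg
  simp only [FGA.eulerCharLE]
  exact dvd_sub (Finset.dvd_sum fun j _ => Dvd.dvd.mul_left (key _ j) _)
    (Finset.dvd_sum fun j _ => Dvd.dvd.mul_left (key _ j) _)

end Groth.Agent.MdlSurf
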