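import Groth.Agent.MdlSurf.Vertical
import Groth.Agent.MdlSurf.GcdFibre

/-!
# Vertical classes in the Picard group, with integral coefficients
-/

set_option autoImplicit false
set_option linter.style.haveILetI false
set_option linter.unusedSectionVars false
set_option backward.isDefEq.respectTransparency false
set_option backward.isDefEq.respectTransparency.types false

universe u

open CategoryTheory CategoryTheory.Limits AlgebraicGeometry IsLocalRing
open scoped Groth.Agent.H23.PicMul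

noncomputable section

namespace Groth.Agent.MdlSurf

variable {R : Type u} [CommRing R] [IsDomain R] [IsDiscreteValuationRing R]
  {C X : Scheme.{u}} {f : C ⟶ Spec (CommRingCat.of (FractionRing R))} {p : X ⟶ Spec (CommRingCat.of R)}
  {n : ℕ} {Γs : Fin n → ArSurf.VertComp R (Over.mk p)}
  (hC : Curve.IsSmoothProperCurve (FractionRing R) C f) (hX : Models.IsRegularProperModel R X p C f)
  (hΓ : Models.IsComponentList R (Over.mk p) Γs)

include hC hX hΓ

theorem isInvertible_ker (i : Fin n) : PicF.IsInvertible (ClSub.idealMod (Γs i).ι.ker : X.Modules) := by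
  obtain ⟨h1, h2, h3, h4, hdim, hreg⟩ := setup hC hX hΓ
  exact SurfInt.isInvertible_idealMod (ArSurfBase.isEffCartier_ker (Γs i) hdim hreg)

variable {L : Fin n → X.Modules} (hL : ∀ i, ClSub.IsInverseOf (L i) (ClSub.idealMod (Γs i).ι.ker))

include hL

theorem isInvertible_L (i : Fin n) : PicF.IsInvertible (L i) :=
  SurfInt.isInvertible_of_inverseOf_right (isInvertible_ker hC hX hΓ i) (hL i)

/-- The components with their inverses. -/
def pairs : Growth22.Pairs X n where
  L := L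
  M i := ClSub.idealMod (Γs i).ι.ker
  invL := isInvertible_L hC hX hΓ hL
  inv := hL

/-- `O(Σ a_i Γ_i)`. -/
def vert (a : Fin n → ℤ) : X.Modules := (pairs hC hX hΓ hL).N a

theorem isInvertible_vert (a : Fin n → ℤ) : PicF.IsInvertible (vert hC hX hΓ hL a) := (pairs hC hX hΓ hL).invN a

theorem cl_vert_add (a b : Fin n → ℤ) :
    PicF.cl (vert hC hX hΓ hL (a + b)) = PicF.cl (vert hC hX hΓ hL a) * PicF.cl (vert hC hX hΓ hL b) :=
  (pairs hC hX hΓ hL).cl_N_add a b

theorem cl_vert_zero : PicF.cl (vert hC hX hΓ hL 0) = 1 := (pairs hC hX hΓ hL).cl_N_zero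

theorem cl_vert_nsmul (k : ℕ) (a : Fin n → ℤ) :
    PicF.cl (vert hC hX hΓ hL ((k : ℤ) • a)) = PicF.cl (vert hC hX hΓ hL a) ^ k :=
  (pairs hC hX hΓ hL).cl_N_nsmul k a

theorem cl_vert_natCast (a : Fin n → ℕ) :
    PicF.cl (vert hC hX hΓ hL fun i => (a i : ℤ)) = PicF.cl (FGA.multiTwist L a) := by
  rw [vert, Growth22.Pairs.cl_N, Growth22.cl_multiTwist, Units.coe_prod]
  refine Finset.prod_congr rfl fun i _ => ?_
  simp [Growth22.Pairs.unit, pairs]

theorem cl_vert_split (a : Fin n → ℤ) :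
    PicF.cl (vert hC hX hΓ hL a) * PicF.cl (FGA.multiTwist L fun i => (-a i).toNat) =
      PicF.cl (FGA.multiTwist L fun i => (a i).toNat) := by
  rw [← cl_vert_natCast hC hX hΓ hL, ← cl_vert_natCast hC hX hΓ hL, ← cl_vert_add]
  congr 2
  funext i
  rw [Pi.add_apply]
  have := Int.toNat_sub_toNat_neg (a i)
  omega

theorem inter_multiTwist (a : Fin n → ℕ) (i : Fin n) :
    ArSurf.inter R (Over.mk p) (FGA.multiTwist L a) (Γs i) =
      ∑ j, (a j : ℤ) * ArSurf.inter R (Over.mk p) (L j) (Γs i) := by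
  obtain ⟨h1, h2, h3, h4, hdim, hreg⟩ := setup hC hX hΓ
  have hK := fun j => ArSurfBase.isEffCartier_ker (Γs j) hdim hreg
  have hI : PicF.IsInvertible (ClSub.idealMod (divIdeal Γs a) : X.Modules) :=
    SurfInt.isInvertible_idealMod (ArSurfBase.isEffCartier_prod hdim hreg Finset.univ Γs a)
  have hinv : ClSub.IsInverseOf (FGA.multiTwist L a) (ClSub.idealMod (divIdeal Γs a)) := by
    have := cl_mul_inverse hC hX hΓ hL a
    rw [← H23.PicMul.cl_tensor, H23.PicMul.one_def] at this
    exact H23.PicMul.cl_eq_iff.1 this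
  have e := ArSurfBase.inter_eq_neg (X := Over.mk p) (Γs i) hI hinv
  rw [show ArSurf.inter R (Over.mk p) (ClSub.idealMod (divIdeal Γs a)) (Γs i) =
    ∑ j, (a j : ℤ) * ArSurf.inter R (Over.mk p) (ClSub.idealMod (Γs j).ι.ker) (Γs i) from
    ArSurfBase.inter_idealMod_prod _ _ _ hK a, ← Finset.sum_neg_distrib] at e
  refine e.trans (Finset.sum_congr rfl fun j _ => ?_)
  rw [ArSurfBase.inter_eq_neg (Γs i) (SurfInt.isInvertible_idealMod (hK j)) (hL j), mul_neg]

theorem inter_vert (a : Fin n → ℤ) (i : Fin n) :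
    ArSurf.inter R (Over.mk p) (vert hC hX hΓ hL a) (Γs i) =
      ∑ j, a j * ArSurf.inter R (Over.mk p) (L j) (Γs i) := by
  obtain ⟨h1, h2, h3, h4, hdim, hreg⟩ := setup hC hX hΓ
  have hs := cl_vert_split hC hX hΓ hL a
  rw [← H23.PicMul.cl_tensor] at hs
  obtain ⟨e⟩ := H23.PicMul.cl_eq_iff.1 hs
  have hneg : PicF.IsInvertible (FGA.multiTwist L fun i => (-a i).toNat) :=
    Growth22.isInvertible_of_isInvertibleCl (by
      rw [← cl_vert_natCast hC hX hΓ hL]
      exact ⟨_, rfl, isInvertible_vert hC hX hΓ hL _⟩)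
  have h := ArSurfBase.inter_congr (Γs i) e (R := R)
  rw [ArSurfBase.inter_tensor (X := Over.mk p) (Γs i) (isInvertible_vert hC hX hΓ hL a) hneg,
    inter_multiTwist hC hX hΓ hL, inter_multiTwist hC hX hΓ hL] at h
  have : ∑ j, ((a j).toNat : ℤ) * ArSurf.inter R (Over.mk p) (L j) (Γs i) -
      ∑ j, ((-a j).toNat : ℤ) * ArSurf.inter R (Over.mk p) (L j) (Γs i) =
      ∑ j, a j * ArSurf.inter R (Over.mk p) (L j) (Γs i) := by
    rw [← Finset.sum_sub_distrib]
    exact Finset.sum_congr rfl fun j _ => by rw [← sub_mul, Int.toNat_sub_toNat_neg]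
  linarith

variable (hH0 : IsIso f.appTop)
include hH0

theorem cl_vert_eq_one_iff (a : Fin n → ℤ) :
    PicF.cl (vert hC hX hΓ hL a) = 1 ↔
      ∃ c : ℤ, ∀ i, a i = c * (Models.mult R (Over.mk p) (Γs i) : ℤ) := by
  have hs := cl_vert_split hC hX hΓ hL a
  have hu : IsUnit (PicF.cl (FGA.multiTwist L fun i => (-a i).toNat)) :=
    IsUnit.of_mul_eq_one _ (cl_mul_inverse hC hX hΓ hL fun i => (-a i).toNat)
  have h1 : PicF.cl (vert hC hX hΓ hL a) = 1 ↔
      PicF.cl (FGA.multiTwist L fun i => (a i).toNat) = PicF.cl (FGA.multiTwist L fun i => (-a i).toNat) := by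
    refine ⟨fun h => by rw [← hs, h, one_mul], fun h => hu.mul_right_cancel ?_⟩
    rw [one_mul, hs, h]
  rw [h1, cl_multiTwist_eq_iff hC hX hΓ hH0 hL]
  simp only [Int.toNat_sub_toNat_neg]

/-- A class trivial on the generic fibre is vertical. -/
theorem exists_cl_eq_vert {g : C ⟶ X} (hg : IsPullback g f p (Spec.map (CommRingCat.ofHom (algebraMap R (FractionRing R)))))
    {M : X.Modules} (hM : PicF.IsInvertible M)
    (htriv : Nonempty ((Scheme.Modules.pullback g).obj M ≅ Coh.structureModule C)) :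
    ∃ a : Fin n → ℤ, PicF.cl M = PicF.cl (vert hC hX hΓ hL a) := by
  obtain ⟨c, hc⟩ := exists_cl_eq_multiTwist hC hX hΓ hH0 hL hg hM htriv
  exact ⟨fun i => (c i : ℤ), hc.trans (cl_vert_natCast hC hX hΓ hL c).symm⟩

omit hH0 in
/-- Vertical classes are trivial on the generic fibre. -/
theorem pullCl_vert {g : C ⟶ X} (hg : IsPullback g f p (Spec.map (CommRingCat.ofHom (algebraMap R (FractionRing R)))))
    (a : Fin n → ℤ) : PicF.pullCl g (PicF.cl (vert hC hX hΓ hL a)) = 1 := by
  obtain ⟨h1, h2, h3, h4, hdim, hreg⟩ := setup hC hX hΓ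
  haveI : IsIntegral X := h2
  haveI : IsIntegral C := hC.2.2.1
  haveI : IsLocallyNoetherian C :=
    haveI := hC.1
    LocallyOfFiniteType.isLocallyNoetherian f
  have hoff : ∀ (c : C) (i : Fin n), g c ∉ ArSurfBase.supp (Γs i) := fun c i hc => by
    have h5 : (p (g c)) = closedPoint R := ArSurfBase.hom_base_eq_closedPoint _ hc
    have h6 : p (g c) = Spec.map (CommRingCat.ofHom (algebraMap R (FractionRing R))) (f c) := by
      rw [← Scheme.Hom.comp_apply, hg.w, Scheme.Hom.comp_apply]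
    have h7 : (p (g c)).asIdeal = ⊥ := by
      rw [h6]
      show Ideal.comap (algebraMap R (FractionRing R)) (f c).asIdeal = ⊥
      rw [(Ideal.eq_bot_or_top (f c).asIdeal).resolve_right (f c).isPrime.ne_top,
        ← RingHom.ker_eq_comap_bot, (RingHom.injective_iff_ker_eq_bot _).1 (IsFractionRing.injective R (FractionRing R))]
    rw [h5] at h7
    exact IsDiscreteValuationRing.not_a_field R h7
  have key : ∀ i, PicF.pullCl g (PicF.cl (ClSub.idealMod (Γs i).ι.ker : X.Modules)) = 1 := fun i => by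
    have hK : BlowUp.IsEffCartierIdeal ((Γs i).ι.ker : X.IdealSheafData) :=
      ArSurfBase.isEffCartier_ker (Γs i) hdim hreg
    have hη : g (genericPoint C) ∉ ((Γs i).ι.ker : X.IdealSheafData).support := fun h =>
      hoff _ i ((ArSurfBase.support_ker (Γs i)).subset h)
    obtain ⟨e⟩ := ArSurfBase.nonempty_pullback_idealMod g _ hK (ArSurfBase.isEffCartier_comap_of_not_mem g hK hη)
    have hbot : ((Γs i).ι.ker : X.IdealSheafData).comap g = 1 := by
      have h5 : (((Γs i).ι.ker : X.IdealSheafData).comap g).support = ⊥ := by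
        refine SetLike.coe_injective (Set.eq_empty_of_forall_notMem fun c hc => ?_)
        rw [Scheme.IdealSheafData.support_comap] at hc
        exact hoff c i ((ArSurfBase.support_ker (Γs i)).subset hc)
      rw [(Scheme.IdealSheafData.support_eq_bot_iff _).1 h5]
      exact Scheme.IdealSheafData.ext (funext fun U => by
        have h8 := Scheme.IdealSheafData.ideal_pow (1 : C.IdealSheafData) 0
        rw [pow_zero] at h8
        rw [h8]
        simp)
    calc PicF.pullCl g (PicF.cl (ClSub.idealMod (Γs i).ι.ker : X.Modules))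
        = PicF.cl (ClSub.idealMod (((Γs i).ι.ker : X.IdealSheafData).comap g)) := H23.PicMul.cl_eq_iff.2 ⟨e⟩
      _ = 1 := by rw [hbot]; exact cl_idealMod_one
  have key' : ∀ i, PicF.pullCl g (PicF.cl (L i)) = 1 := fun i => by
    have h := congrArg (H23.PicMul.pullHom g) (Growth22.cl_mul_eq_one (hL i))
    rw [map_mul, map_one] at h
    rwa [show H23.PicMul.pullHom g (PicF.cl (ClSub.idealMod (Γs i).ι.ker : X.Modules)) = 1 from key i, mul_one] at h
  have hpm : ∀ a : Fin n → ℕ, PicF.pullCl g (PicF.cl (FGA.multiTwist L a)) = 1 := fun a => by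
    show H23.PicMul.pullHom g (PicF.cl (FGA.multiTwist L a)) = 1
    rw [Growth22.cl_multiTwist, map_prod]
    refine Finset.prod_eq_one fun i _ => ?_
    rw [map_pow, show H23.PicMul.pullHom g (PicF.cl (L i)) = 1 from key' i, one_pow]
  have h := congrArg (H23.PicMul.pullHom g) (cl_vert_split hC hX hΓ hL a)
  rw [map_mul, show H23.PicMul.pullHom g (PicF.cl (FGA.multiTwist L fun i => (-a i).toNat)) = 1 from hpm _,
    show H23.PicMul.pullHom g (PicF.cl (FGA.multiTwist L fun i => (a i).toNat)) = 1 from hpm _, mul_one] at h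
  exact h

omit hL hH0 in
/-- Integers dividing all `c·m_i/d` divide `c`. -/
theorem dvd_of_dvd_mul_div {h c : ℤ}
    (H : ∀ i, h ∣ c * (Models.mult R (Over.mk p) (Γs i) / Models.multGcd R (Over.mk p) Γs : ℕ)) : h ∣ c := by
  have h1 : h.natAbs ∣ Finset.univ.gcd fun i =>
      c.natAbs * (Models.mult R (Over.mk p) (Γs i) / Models.multGcd R (Over.mk p) Γs) :=
    Finset.dvd_gcd fun i _ => by
      have := Int.natAbs_dvd_natAbs.2 (H i)
      rwa [Int.natAbs_mul, Int.natAbs_natCast] at this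
  rw [Finset.gcd_mul_left, gcd_div_eq_one hC hX hΓ, mul_one, normalize_eq] at h1
  exact Int.natAbs_dvd_natAbs.1 h1

/-- The kernel of the intersection matrix. -/
theorem exists_eq_mul_div (a : Fin n → ℤ)
    (h : ∀ i, ∑ j, a j * ArSurf.inter R (Over.mk p) (L j) (Γs i) = 0) :
    ∃ t : ℤ, ∀ i, a i = t * (Models.mult R (Over.mk p) (Γs i) / Models.multGcd R (Over.mk p) Γs : ℕ) := by
  obtain ⟨h1, h2, h3, h4, hdim, hreg⟩ := setup hC hX hΓ
  set m' : Fin n → ℕ := fun i => Models.mult R (Over.mk p) (Γs i) / Models.multGcd R (Over.mk p) Γs with hm'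
  have hm : ∀ i, (Models.mult R (Over.mk p) (Γs i) : ℤ) = (Models.multGcd R (Over.mk p) Γs : ℤ) * m' i := fun i => by
    exact_mod_cast mult_eq_gcd_mul hC hX hΓ i
  have hd : (Models.multGcd R (Over.mk p) Γs : ℤ) ≠ 0 := by exact_mod_cast (multGcd_pos hC hX hΓ).ne'
  have hm0 : ∀ i, (m' i : ℤ) ≠ 0 := fun i h0 => by
    have h5 := hm i
    rw [h0, mul_zero] at h5
    exact (mult_pos hC hX hΓ i).ne' (by exact_mod_cast h5)
  have hQ : ∑ i, ∑ j, a i * a j * ArSurf.inter R (Over.mk p) (L j) (Γs i) = 0 :=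
    Finset.sum_eq_zero fun i _ => by
      simp only [mul_assoc]
      rw [← Finset.mul_sum, h i, mul_zero]
  have hprop := ((ArSurfBase.form_nonpos hdim hreg Γs hΓ.1 L hL a).2 hQ).2
  let i₀ : Fin n := ⟨0, n_pos hC hX hΓ⟩
  have hall : ∀ i, a i * (m' i₀ : ℤ) = a i₀ * m' i :=
    connected_induction hC hH0 hX hΓ (fun i => a i * (m' i₀ : ℤ) = a i₀ * m' i) (i₀ := i₀) rfl
      fun i j hi hdisj => by
        have h6 := hprop i j hdisj
        rw [hm i, hm j] at h6
        refine mul_left_cancel₀ (mul_ne_zero hd (hm0 i)) ?_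
        linear_combination (Models.multGcd R (Over.mk p) Γs : ℤ) * (m' j : ℤ) * hi - (m' i₀ : ℤ) * h6
  obtain ⟨t, ht⟩ : (m' i₀ : ℤ) ∣ a i₀ :=
    dvd_of_dvd_mul_div hC hX hΓ fun i => ⟨a i, by rw [mul_comm (m' i₀ : ℤ)]; exact (hall i).symm⟩
  refine ⟨t, fun i => mul_right_cancel₀ (hm0 i₀) ?_⟩
  rw [hall i, ht]
  ring

/-- A class trivial on the generic fibre of degree zero on every component is killed by `gcd m`. -/
theorem cl_pow_gcd_eq_one {g : C ⟶ X} (hg : IsPullback g f p (Spec.map (CommRingCat.ofHom (algebraMap R (FractionRing R)))))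
    {M : X.Modules} (hM : PicF.IsInvertible M)
    (htriv : Nonempty ((Scheme.Modules.pullback g).obj M ≅ Coh.structureModule C))
    (hdeg : ∀ i, ArSurf.inter R (Over.mk p) M (Γs i) = 0) :
    PicF.cl M ^ Models.multGcd R (Over.mk p) Γs = 1 := by
  obtain ⟨a, ha⟩ := exists_cl_eq_vert hC hX hΓ hL hH0 hg hM htriv
  obtain ⟨e⟩ := H23.PicMul.cl_eq_iff.1 ha
  obtain ⟨t, ht⟩ := exists_eq_mul_div hC hX hΓ hL hH0 a fun i => by
    rw [← inter_vert hC hX hΓ hL a i, ← hdeg i]
    haveI : IsProper (Over.mk p).hom := hX.2.1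
    exact (ArSurfBase.inter_congr (Γs i) e (R := R)).symm
  rw [ha, ← cl_vert_nsmul, cl_vert_eq_one_iff hC hX hΓ hL hH0]
  refine ⟨t, fun i => ?_⟩
  rw [Pi.smul_apply, smul_eq_mul, ht i]
  conv_rhs => rw [mult_eq_gcd_mul hC hX hΓ i, Nat.cast_mul]
  ring

end Groth.Agent.MdlSurf
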