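import Groth.Agent.MdlSurf.FiniteFlat
import Groth.Agent.SmallFlat.Misc
import Groth.Prelude.Def_ModelsG
import Mathlib.AlgebraicGeometry.SpreadingOut
import Mathlib.AlgebraicGeometry.ValuativeCriterion

/-!
# A proper morphism, isomorphic over the generic fibre, is an isomorphism near normal codimension one points
-/

set_option autoImplicit false
set_option linter.style.haveILetI false
set_option linter.unusedSectionVars false

universe u

open CategoryTheory CategoryTheory.Limits AlgebraicGeometry IsLocalRing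

namespace Groth.Agent.MdlSurf

theorem isDiscreteValuationRing_of_normal_dim_one {A : Type u} [CommRing A] [IsDomain A] [IsNoetherianRing A]
    [IsLocalRing A] [IsIntegrallyClosed A] (hdim : ringKrullDim A = 1) : IsDiscreteValuationRing A := by
  haveI : Ring.KrullDimLE 1 A := Ring.krullDimLE_iff.2 hdim.le
  haveI : Ring.DimensionLEOne A := ⟨fun {p} h hp => hp.isMaximal_of_ne_bot h⟩
  haveI : IsDedekindDomain A := (isDedekindDomain_iff A (FractionRing A)).2
    ⟨inferInstance, inferInstance, inferInstance, fun hx => IsIntegrallyClosed.isIntegral_iff.1 hx⟩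
  have hnf : ¬ IsField A := fun h => by
    rw [ringKrullDim_eq_zero_of_isField h] at hdim
    exact zero_ne_one hdim
  have h02 := (IsDiscreteValuationRing.TFAE A hnf).out 0 2
  exact h02.2 inferInstance

variable {R : Type u} [CommRing R] [IsDomain R] [IsDiscreteValuationRing R]

theorem flat_stalkHom {X : Scheme.{u}} (q : X ⟶ Spec (CommRingCat.of R)) [Flat q] (x : X) :
    (Models.stalkHom R (Over.mk q) x).Flat := by
  have h1 : Models.stalkHom R (Over.mk q) x =
      (q.stalkMap x).hom.comp (StructureSheaf.toStalk R (q x)).hom := by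
    ext r
    exact (q.germ_stalkMap_apply ⊤ x trivial _).symm
  rw [h1]
  refine RingHom.Flat.comp ?_ (Flat.stalkMap q x)
  let y : PrimeSpectrum R := q x
  letI : Algebra R ((Spec (CommRingCat.of R)).presheaf.stalk y) := StructureSheaf.stalkAlgebra R y
  haveI : IsLocalization.AtPrime ((Spec (CommRingCat.of R)).presheaf.stalk y) y.asIdeal :=
    StructureSheaf.IsLocalization.to_stalk (CommRingCat.of R) y
  exact @IsLocalization.flat R ((Spec (CommRingCat.of R)).presheaf.stalk y) _ _ (StructureSheaf.stalkAlgebra R y)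
    y.asIdeal.primeCompl (StructureSheaf.IsLocalization.to_stalk (CommRingCat.of R) y)

theorem mem_nonZeroDivisors_of_flat {B : Type u} [CommRing B] (ψ : R →+* B) (hψ : ψ.Flat) {x : R} (hx : x ≠ 0) :
    ψ x ∈ nonZeroDivisors B := by
  letI := ψ.toAlgebra
  haveI : Module.Flat R B := hψ
  refine mem_nonZeroDivisors_iff_right.2 fun y hy => ?_
  have h : x • y = 0 := by rw [Algebra.smul_def, mul_comm]; exact hy
  exact (smul_eq_zero.1 h).resolve_left hx

theorem preimage_fromSpecStalk_basicOpen {C : Scheme.{u}} (c : C) (s : Γ(C, ⊤)) (P : PrimeSpectrum (C.presheaf.stalk c)) :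
    C.fromSpecStalk c P ∈ C.basicOpen s ↔ C.presheaf.germ ⊤ c trivial s ∉ P.asIdeal := by
  show P ∈ C.fromSpecStalk c ⁻¹ᵁ C.basicOpen s ↔ _
  have e : (C.fromSpecStalk c).appTop = C.presheaf.germ ⊤ c trivial ≫ (Scheme.ΓSpecIso _).inv := by
    rw [Scheme.fromSpecStalk_appTop]
    simp
  rw [Scheme.preimage_basicOpen_top, e, CommRingCat.comp_apply, basicOpen_eq_of_affine]
  exact Iff.rfl

variable {C Z : Scheme.{u}} (πC : C ⟶ Spec (CommRingCat.of R)) (h : Z ⟶ C) [Flat (h ≫ πC)] (ϖ : R)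

theorem exists_inverse_stalkMap (hϖ : Irreducible ϖ)
    [IsIso (h ∣_ (πC ⁻¹ᵁ PrimeSpectrum.basicOpen ϖ))] (z : Z)
    (hz : h z ∉ πC ⁻¹ᵁ PrimeSpectrum.basicOpen ϖ) [IsDomain (C.presheaf.stalk (h z))]
    [IsDiscreteValuationRing (C.presheaf.stalk (h z))] :
    IsIso (h.stalkMap z) := by
  classical
  let A := C.presheaf.stalk (h z)
  let B := Z.presheaf.stalk z
  let K := FractionRing A
  let φ : A ⟶ B := h.stalkMap z
  let s : Γ(C, ⊤) := Coh.toGlobal πC ϖ
  have hW : πC ⁻¹ᵁ PrimeSpectrum.basicOpen ϖ = C.basicOpen s :=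
    ((congrArg (πC ⁻¹ᵁ ·) (basicOpen_eq_of_affine (R := CommRingCat.of R) ϖ)).symm.trans
      (Scheme.preimage_basicOpen_top πC ((Scheme.ΓSpecIso (CommRingCat.of R)).inv ϖ)))
  let a : A := C.presheaf.germ ⊤ (h z) trivial s
  have ham : a ∈ maximalIdeal A := by
    rw [mem_maximalIdeal, mem_nonunits_iff]
    intro hu
    exact hz (hW ▸ (C.mem_basicOpen s (h z) trivial).2 hu)
  have hb : Models.stalkHom R (Over.mk (h ≫ πC)) z ϖ = φ a := by
    show Z.presheaf.germ ⊤ z trivial ((h ≫ πC).appTop _) = h.stalkMap z (C.presheaf.germ ⊤ (h z) trivial _)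
    exact (h.germ_stalkMap_apply ⊤ z trivial _).symm
  have hbreg : φ a ∈ nonZeroDivisors (Z.presheaf.stalk z) := by
    rw [← hb]
    exact mem_nonZeroDivisors_of_flat _ (flat_stalkHom (h ≫ πC) z) hϖ.ne_zero
  have ha0 : a ≠ 0 := fun e => by
    have h1 : (0 : B) ∈ nonZeroDivisors B := by rw [e, map_zero] at hbreg; exact hbreg
    exact zero_notMem_nonZeroDivisors h1
  let L := Localization.Away (φ a)
  have hL : Function.Injective (algebraMap B L) := by
    refine IsLocalization.injective L (M := Submonoid.powers (φ a)) ?_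
    exact Submonoid.powers_le.2 hbreg
  haveI : Nontrivial L := hL.nontrivial
  -- the generic point
  have hηW : C.fromSpecStalk (h z) ⟨⊥, Ideal.isPrime_bot⟩ ∈ πC ⁻¹ᵁ PrimeSpectrum.basicOpen ϖ := by
    rw [hW, preimage_fromSpecStalk_basicOpen]
    exact ha0
  let W := πC ⁻¹ᵁ PrimeSpectrum.basicOpen ϖ
  let eK : Spec (CommRingCat.of K) ⟶ C := Spec.map (CommRingCat.ofHom (algebraMap A K)) ≫ C.fromSpecStalk (h z)
  have hrK : Set.range eK ⊆ Set.range W.ι := by
    rw [W.range_ι]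
    rintro _ ⟨q, rfl⟩
    have : Spec.map (CommRingCat.ofHom (algebraMap A K)) q = (⟨⊥, Ideal.isPrime_bot⟩ : PrimeSpectrum A) := by
      refine PrimeSpectrum.ext ?_
      show Ideal.comap (algebraMap A K) q.asIdeal = ⊥
      rw [(Ideal.eq_bot_or_top q.asIdeal).resolve_right q.isPrime.ne_top,
        ← RingHom.ker_eq_comap_bot, (RingHom.injective_iff_ker_eq_bot _).1 (IsFractionRing.injective A K)]
    show C.fromSpecStalk (h z) (Spec.map (CommRingCat.ofHom (algebraMap A K)) q) ∈ W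
    rw [this]
    exact hηW
  let lK := IsOpenImmersion.lift W.ι eK hrK
  let m : Spec (CommRingCat.of K) ⟶ Z := lK ≫ inv (h ∣_ W) ≫ (h ⁻¹ᵁ W).ι
  have hm : m ≫ h = eK := by
    simp only [m, Category.assoc, ← morphismRestrict_ι, IsIso.inv_hom_id_assoc]
    exact IsOpenImmersion.lift_fac _ _ _
  -- the localization
  let jL : Spec (CommRingCat.of L) ⟶ Z := Spec.map (CommRingCat.ofHom (algebraMap B L)) ≫ Z.fromSpecStalk z
  have hua : IsUnit (algebraMap B L (φ a)) := IsLocalization.Away.algebraMap_isUnit (φ a)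
  have hA : ∀ x : A, x ∈ nonZeroDivisors A → IsUnit (((algebraMap B L).comp φ.hom) x) := fun x hx => by
    obtain ⟨π, hπ⟩ := IsDiscreteValuationRing.exists_irreducible A
    obtain ⟨n, v, rfl⟩ := IsDiscreteValuationRing.eq_unit_mul_pow_irreducible (nonZeroDivisors.ne_zero hx) hπ
    have hπa : IsUnit (((algebraMap B L).comp φ.hom) π) := by
      refine isUnit_of_dvd_unit (map_dvd _ ?_) hua (x := ((algebraMap B L).comp φ.hom) π)
      rwa [← Ideal.mem_span_singleton, ← hπ.maximalIdeal_eq]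
    rw [map_mul, map_pow]
    exact (v.isUnit.map _).mul (hπa.pow n)
  let ψ : K →+* L := IsLocalization.lift (M := nonZeroDivisors A) (g := (algebraMap B L).comp φ.hom) (fun x => hA x x.2)
  have hψ : ψ.comp (algebraMap A K) = (algebraMap B L).comp φ.hom := IsLocalization.lift_comp _
  have h1 : jL ≫ h = Spec.map (CommRingCat.ofHom ψ) ≫ eK := by
    simp only [jL, eK, Category.assoc, ← Scheme.SpecMap_stalkMap_fromSpecStalk, ← Spec.map_comp_assoc]
    congr 2
    ext1; exact hψ.symm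
  have hrL : Set.range jL ⊆ Set.range (h ⁻¹ᵁ W).ι := by
    rw [(h ⁻¹ᵁ W).range_ι]
    rintro _ ⟨P, rfl⟩
    show h (jL P) ∈ W
    have : h (jL P) = eK (Spec.map (CommRingCat.ofHom ψ) P) := congr($(h1) P)
    rw [this]
    exact (W.range_ι ▸ hrK) ⟨_, rfl⟩
  have hjm : jL = Spec.map (CommRingCat.ofHom ψ) ≫ m := by
    have h2 := IsOpenImmersion.lift_fac (h ⁻¹ᵁ W).ι jL hrL
    rw [← h2]
    simp only [m, ← Category.assoc]
    congr 1
    rw [IsIso.eq_comp_inv, ← cancel_mono W.ι, Category.assoc, morphismRestrict_ι, ← Category.assoc, h2]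
    refine h1.trans (Eq.symm ?_)
    rw [Category.assoc]
    exact congrArg _ (IsOpenImmersion.lift_fac _ _ _)
  obtain ⟨P⟩ := (inferInstance : Nonempty (PrimeSpectrum L))
  have hspec : m (closedPoint K) ⤳ z := by
    have : m (closedPoint K) = jL P := by
      rw [hjm]
      exact congrArg m (Subsingleton.elim (α := PrimeSpectrum K) _ _)
    rw [this]
    have h3 := (IsLocalRing.specializes_closedPoint (R := B) (Spec.map (CommRingCat.ofHom (algebraMap B L)) P)).map
      (Z.fromSpecStalk z).continuous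
    rwa [Scheme.fromSpecStalk_closedPoint] at h3
  let θ : B ⟶ CommRingCat.of K := Z.presheaf.stalkSpecializes hspec ≫ Scheme.stalkClosedPointTo m
  have hθm : Spec.map θ ≫ Z.fromSpecStalk z = m := by
    rw [Spec.map_comp, Category.assoc, Scheme.SpecMap_stalkSpecializes_fromSpecStalk,
      Scheme.Spec_stalkClosedPointTo_fromSpecStalk]
  have hθφ : θ.hom.comp φ.hom = algebraMap A K := by
    have : Spec.map (φ ≫ θ) = Spec.map (CommRingCat.ofHom (algebraMap A K)) := by
      rw [← cancel_mono (C.fromSpecStalk (h z)), Spec.map_comp, Category.assoc,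
        Scheme.SpecMap_stalkMap_fromSpecStalk, ← Category.assoc, hθm, hm]
    exact congrArg CommRingCat.Hom.hom (Spec.map_injective this)
  have hθψ : ψ.comp θ.hom = algebraMap B L := by
    have : Spec.map (θ ≫ CommRingCat.ofHom ψ) = Spec.map (CommRingCat.ofHom (algebraMap B L)) := by
      rw [← cancel_mono (Z.fromSpecStalk z), Spec.map_comp, Category.assoc, hθm, ← hjm]
    exact congrArg CommRingCat.Hom.hom (Spec.map_injective this)
  have hθ : Function.Injective θ.hom := by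
    have := hL
    rw [← hθψ, RingHom.coe_comp] at this
    exact this.of_comp
  refine (ConcreteCategory.isIso_iff_bijective _).2 ⟨fun x y e => IsFractionRing.injective A K ?_, fun y => ?_⟩
  · rw [← hθφ, RingHom.comp_apply, RingHom.comp_apply]
    exact congrArg θ.hom e
  · rcases ValuationRing.isInteger_or_isInteger A (θ.hom y) with ⟨x, hx⟩ | ⟨x, hx⟩
    · exact ⟨x, hθ ((RingHom.congr_fun hθφ x).trans hx)⟩
    · by_cases hy : θ.hom y = 0
      · exact ⟨0, hθ (by rw [map_zero, map_zero, hy])⟩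
      have hxy : θ.hom (φ.hom x * y) = 1 := by
        rw [map_mul, show θ.hom (φ.hom x) = algebraMap A K x from RingHom.congr_fun hθφ x, hx, inv_mul_cancel₀ hy]
      have hone : φ.hom x * y = 1 := hθ (hxy.trans (map_one _).symm)
      have hux : IsUnit x := IsUnit.of_map φ.hom x (IsUnit.of_mul_eq_one _ hone)
      refine ⟨↑hux.unit⁻¹, ?_⟩
      show φ.hom _ = y
      refine (IsUnit.of_mul_eq_one _ hone).mul_left_cancel ?_
      rw [hone, ← map_mul]
      simp

theorem isIso_restrict_le {X Y : Scheme.{u}} (f : X ⟶ Y) {U V : Y.Opens} (hVU : V ≤ U) [IsIso (f ∣_ U)] :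
    IsIso (f ∣_ V) := by
  have h1 : IsIso (f ∣_ U ∣_ (U.ι ⁻¹ᵁ V)) := inferInstance
  have h2 := ((MorphismProperty.isomorphisms Scheme.{u}).arrow_mk_iso_iff
    (morphismRestrictRestrict f U (U.ι ⁻¹ᵁ V))).1 h1
  have h3 : U.ι ''ᵁ (U.ι ⁻¹ᵁ V) = V := by
    rw [Scheme.Hom.image_preimage_eq_opensRange_inf, Scheme.Opens.opensRange_ι]
    exact inf_eq_right.2 hVU
  rwa [h3] at h2

/-- A point of a separated family with a section of finite presentation through the only point of its fibre. -/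
theorem exists_isIso_restrict_of_section {Z C : Scheme.{u}} [IsLocallyNoetherian C] (h : Z ⟶ C) [IsProper h]
    {U : C.Opens} (σ : (U : Scheme.{u}) ⟶ Z) (hσ : σ ≫ h = U.ι) (u : (U : Scheme.{u}))
    (huniq : ∀ z, h z = U.ι u → z = σ u) (hst : IsIso (h.stalkMap (σ u))) :
    ∃ V : C.Opens, U.ι u ∈ V ∧ IsIso (h ∣_ V) := by
  haveI : IsLocallyNoetherian Z := LocallyOfFiniteType.isLocallyNoetherian h
  have hr : Set.range σ ⊆ Set.range (h ⁻¹ᵁ U).ι := by
    rw [(h ⁻¹ᵁ U).range_ι]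
    rintro _ ⟨v, rfl⟩
    show h (σ v) ∈ U
    rw [← Scheme.Hom.comp_apply, hσ]
    exact v.2
  obtain ⟨σ', hσ'⟩ : ∃ σ' : (U : Scheme.{u}) ⟶ (h ⁻¹ᵁ U), σ' ≫ (h ⁻¹ᵁ U).ι = σ :=
    ⟨IsOpenImmersion.lift _ σ hr, IsOpenImmersion.lift_fac _ _ _⟩
  have hid : σ' ≫ (h ∣_ U) = 𝟙 _ := by
    rw [← cancel_mono U.ι, Category.assoc, morphismRestrict_ι, ← Category.assoc, hσ', hσ, Category.id_comp]
  haveI : IsProper (h ∣_ U) := IsZariskiLocalAtTarget.restrict (P := @IsProper) inferInstance U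
  haveI : IsClosedImmersion σ' := by
    haveI : IsClosedImmersion (σ' ≫ (h ∣_ U)) := by rw [hid]; infer_instance
    exact IsClosedImmersion.of_comp σ' (h ∣_ U)
  haveI : LocallyOfFinitePresentation σ' := LocallyOfFinitePresentation.iff_locallyOfFiniteType.2 inferInstance
  have hσu : (h ⁻¹ᵁ U).ι (σ' u) = σ u := by rw [← Scheme.Hom.comp_apply, hσ']
  haveI hst1 : IsIso ((h ∣_ U).stalkMap (σ' u)) := by
    refine ((MorphismProperty.isomorphisms CommRingCat).arrow_mk_iso_iff (morphismRestrictStalkMap h U (σ' u))).2 ?_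
    show IsIso (h.stalkMap ((h ⁻¹ᵁ U).ι (σ' u)))
    rw [hσu]; exact hst
  have hflat : (σ'.stalkMap u).hom.Flat := by
    have hsplit : ∀ (g : (U : Scheme.{u}) ⟶ U), g = 𝟙 _ → IsIso (g.stalkMap u) := by
      rintro g rfl; infer_instance
    have h1 := hsplit _ hid
    rw [Scheme.Hom.stalkMap_comp] at h1
    haveI := h1
    have h2 : IsIso (σ'.stalkMap u) := @IsIso.of_isIso_comp_left _ _ _ _ _ _ _ hst1 h1
    exact RingHom.Flat.of_bijective (ConcreteCategory.bijective_of_isIso (σ'.stalkMap u))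
  obtain ⟨O, hO, hOiso⟩ := SmallFlat.exists_isIso_restrict_of_flat_at σ' u hflat
  haveI := hOiso
  let T : Set (U : Scheme.{u}) := (h ∣_ U) '' (O : Set (h ⁻¹ᵁ U : Scheme.{u}))ᶜ
  have hT : IsClosed T := (h ∣_ U).isClosedMap _ O.isOpen.isClosed_compl
  let U' : (U : Scheme.{u}).Opens := ⟨Tᶜ, hT.isOpen_compl⟩
  have hu : u ∈ U' := by
    rintro ⟨v, hv, hvu⟩
    refine hv ?_
    have : v = σ' u := (h ⁻¹ᵁ U).ι.isOpenEmbedding.injective (by
      rw [hσu]
      refine huniq _ ?_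
      rw [← Scheme.Hom.comp_apply, ← morphismRestrict_ι, Scheme.Hom.comp_apply, hvu])
    exact this ▸ hO
  have hle : (h ∣_ U) ⁻¹ᵁ U' ≤ O := fun v hv => by_contra fun hvO => hv ⟨v, hvO, rfl⟩
  haveI : IsIso (σ' ∣_ ((h ∣_ U) ⁻¹ᵁ U')) := isIso_restrict_le σ' hle
  have h1 : IsIso ((σ' ≫ (h ∣_ U)) ∣_ U') := by rw [hid]; infer_instance
  rw [morphismRestrict_comp] at h1
  haveI := h1
  have h2 : IsIso ((h ∣_ U) ∣_ U') := @IsIso.of_isIso_comp_left _ _ _ _ _ _ _ ‹IsIso (σ' ∣_ ((h ∣_ U) ⁻¹ᵁ U'))› h1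
  exact ⟨U.ι ''ᵁ U', ⟨u, hu, rfl⟩,
    ((MorphismProperty.isomorphisms Scheme.{u}).arrow_mk_iso_iff (morphismRestrictRestrict h U U')).1 h2⟩

theorem exists_lift_of_isIso_stalkMap {Z C : Scheme.{u}} (h : Z ⟶ C) (z : Z) (c : C) (e : h z = c)
    [IsIso (h.stalkMap z)] :
    ∃ ℓ : Spec (C.presheaf.stalk c) ⟶ Z, ℓ ≫ h = C.fromSpecStalk c ∧ ℓ (closedPoint (C.presheaf.stalk c)) = z := by
  subst e
  refine ⟨Spec.map (inv (h.stalkMap z)) ≫ Z.fromSpecStalk z, ?_, ?_⟩
  · rw [Category.assoc, ← Scheme.SpecMap_stalkMap_fromSpecStalk, ← Spec.map_comp_assoc, IsIso.hom_inv_id,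
      Spec.map_id, Category.id_comp]
  · show Z.fromSpecStalk z (Spec.map (inv (h.stalkMap z)) (closedPoint (C.presheaf.stalk (h z)))) = z
    rw [show Spec.map (inv (h.stalkMap z)) (closedPoint (C.presheaf.stalk (h z))) =
      closedPoint (Z.presheaf.stalk z) from IsLocalRing.comap_closedPoint (inv (h.stalkMap z)).hom]
    exact Scheme.fromSpecStalk_closedPoint

theorem hom_ext_of_isIso_restrict {Z C T : Scheme.{u}} (h : Z ⟶ C) (W : C.Opens) [IsIso (h ∣_ W)]
    (a b : T ⟶ Z) (e : a ≫ h = b ≫ h) (hW : ∀ t, h (a t) ∈ W) : a = b := by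
  have hb : ∀ t, h (b t) ∈ W := fun t => by
    rw [← Scheme.Hom.comp_apply, ← e]; exact hW t
  have hra : Set.range a ⊆ Set.range (h ⁻¹ᵁ W).ι := by
    rw [(h ⁻¹ᵁ W).range_ι]; rintro _ ⟨t, rfl⟩; exact hW t
  have hrb : Set.range b ⊆ Set.range (h ⁻¹ᵁ W).ι := by
    rw [(h ⁻¹ᵁ W).range_ι]; rintro _ ⟨t, rfl⟩; exact hb t
  rw [← IsOpenImmersion.lift_fac _ a hra, ← IsOpenImmersion.lift_fac _ b hrb]
  congr 1
  rw [← cancel_mono (h ∣_ W), ← cancel_mono W.ι, Category.assoc, Category.assoc, morphismRestrict_ι,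
    IsOpenImmersion.lift_fac_assoc, IsOpenImmersion.lift_fac_assoc]
  exact e

/-- The main statement. -/
theorem exists_nhds_isIso (πC : C ⟶ Spec (CommRingCat.of R)) [LocallyOfFiniteType πC] (h : Z ⟶ C) [IsProper h]
    [Flat (h ≫ πC)] (ϖ : R) (hϖ : Irreducible ϖ) [IsIso (h ∣_ (πC ⁻¹ᵁ PrimeSpectrum.basicOpen ϖ))]
    (c : C) [IsDomain (C.presheaf.stalk c)] [IsIntegrallyClosed (C.presheaf.stalk c)]
    (hdim : ringKrullDim (C.presheaf.stalk c) = 1) (hreg : Models.stalkHom R (Over.mk πC) c ϖ ≠ 0) :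
    ∃ V : C.Opens, c ∈ V ∧ IsIso (h ∣_ V) := by
  classical
  let W := πC ⁻¹ᵁ PrimeSpectrum.basicOpen ϖ
  by_cases hcW : c ∈ W
  · exact ⟨W, hcW, ‹_›⟩
  haveI : IsLocallyNoetherian C := LocallyOfFiniteType.isLocallyNoetherian πC
  haveI : IsDiscreteValuationRing (C.presheaf.stalk c) := isDiscreteValuationRing_of_normal_dim_one hdim
  let η : C := C.fromSpecStalk c ⟨⊥, Ideal.isPrime_bot⟩
  have hηW : η ∈ W := by
    have hW : W = C.basicOpen (Coh.toGlobal πC ϖ) :=
      ((congrArg (πC ⁻¹ᵁ ·) (basicOpen_eq_of_affine (R := CommRingCat.of R) ϖ)).symm.trans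
        (Scheme.preimage_basicOpen_top πC ((Scheme.ΓSpecIso (CommRingCat.of R)).inv ϖ)))
    rw [hW]
    exact (preimage_fromSpecStalk_basicOpen c (Coh.toGlobal πC ϖ) _).2 hreg
  have hfib : ∃ z, h z = c := by
    obtain ⟨ζ, hζ⟩ := (h ∣_ W).homeomorph.surjective ⟨η, hηW⟩
    have h1 : h ((h ⁻¹ᵁ W).ι ζ) = η := by
      rw [← Scheme.Hom.comp_apply, ← morphismRestrict_ι, Scheme.Hom.comp_apply]
      exact congrArg W.ι hζ
    have h2 : η ⤳ c := by
      have := (IsLocalRing.specializes_closedPoint (R := C.presheaf.stalk c) (⟨⊥, Ideal.isPrime_bot⟩)).map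
        (C.fromSpecStalk c).continuous
      rwa [Scheme.fromSpecStalk_closedPoint] at this
    exact h2.mem_closed h.isClosedMap.isClosed_range ⟨_, h1⟩
  have hlift : ∀ z, h z = c → IsIso (h.stalkMap z) ∧
      ∃ ℓ : Spec (C.presheaf.stalk c) ⟶ Z, ℓ ≫ h = C.fromSpecStalk c ∧ ℓ (closedPoint (C.presheaf.stalk c)) = z := by
    intro z e
    haveI : IsIso (h.stalkMap z) := by
      subst e
      exact exists_inverse_stalkMap πC h ϖ hϖ z hcW
    exact ⟨inferInstance, exists_lift_of_isIso_stalkMap h z c e⟩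
  obtain ⟨z, hz⟩ := hfib
  obtain ⟨hiso, ℓ, hℓ, hℓz⟩ := hlift z hz
  have huniq : ∀ z', h z' = c → z' = z := by
    intro z' hz'
    obtain ⟨-, ℓ', hℓ', hℓz'⟩ := hlift z' hz'
    let K := FractionRing (C.presheaf.stalk c)
    let eK : Spec (CommRingCat.of K) ⟶ Spec (C.presheaf.stalk c) :=
      Spec.map (CommRingCat.ofHom (algebraMap (C.presheaf.stalk c) K))
    have hgen : eK ≫ ℓ = eK ≫ ℓ' := by
      refine hom_ext_of_isIso_restrict h W _ _ (by simp only [Category.assoc, hℓ, hℓ']) fun t => ?_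
      rw [← Scheme.Hom.comp_apply, Category.assoc, hℓ, Scheme.Hom.comp_apply]
      have : eK t = (⟨⊥, Ideal.isPrime_bot⟩ : PrimeSpectrum (C.presheaf.stalk c)) := by
        refine PrimeSpectrum.ext ?_
        show Ideal.comap (algebraMap (C.presheaf.stalk c) K) t.asIdeal = ⊥
        rw [(Ideal.eq_bot_or_top t.asIdeal).resolve_right t.isPrime.ne_top, ← RingHom.ker_eq_comap_bot,
          (RingHom.injective_iff_ker_eq_bot _).1 (IsFractionRing.injective (C.presheaf.stalk c) K)]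
      rw [this]
      exact hηW
    let S : ValuativeCommSq h :=
      { R := ↑(C.presheaf.stalk c), commRing := (C.presheaf.stalk c).commRing, domain := ‹_›, valuationRing := inferInstance,
        K := K, i₁ := eK ≫ ℓ, i₂ := C.fromSpecStalk c,
        commSq := ⟨by rw [Category.assoc, hℓ]; rfl⟩ }
    haveI := IsSeparated.valuativeCriterion h S
    have := congrArg CommSq.LiftStruct.l
      (Subsingleton.elim (α := S.commSq.LiftStruct) ⟨ℓ, rfl, hℓ⟩ ⟨ℓ', hgen.symm, hℓ'⟩)
    rw [← hℓz, ← hℓz']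
    exact congr($(this.symm) (closedPoint (C.presheaf.stalk c)))
  obtain ⟨U, hcU, σ, hσℓ, hσ⟩ := spread_out_of_isGermInjective' (sX := 𝟙 C) (sY := h) ℓ
    (hℓ.trans (Category.comp_id _).symm)
  rw [Category.comp_id] at hσ
  let u : (U : Scheme.{u}) := ⟨c, hcU⟩
  have hσu : σ u = z := by
    rw [← hℓz, hσℓ]
    show σ u = σ (U.fromSpecStalkOfMem c hcU (closedPoint (C.presheaf.stalk c)))
    congr 1
    apply U.ι.isOpenEmbedding.injective
    have h3 : U.ι (U.fromSpecStalkOfMem c hcU (closedPoint (C.presheaf.stalk c))) =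
        C.fromSpecStalk c (closedPoint (C.presheaf.stalk c)) :=
      congr($(Scheme.Opens.fromSpecStalkOfMem_ι U c hcU) (closedPoint (C.presheaf.stalk c)))
    rw [h3, Scheme.fromSpecStalk_closedPoint]
    rfl
  exact exists_isIso_restrict_of_section h σ hσ u (fun z' hz' => (huniq z' hz').trans hσu.symm) (hσu ▸ hiso)

end Groth.Agent.MdlSurf
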