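import Groth.Agent.MdlSurf.Connected
import Groth.Agent.ArSurfBase.ExcCurve
import Groth.Agent.ArSurfBase.Decomp
import Groth.Agent.CurveCohLib.SmoothCurve
import Groth.Agent.S4991

/-!
# Smooth proper models are minimal
-/

set_option autoImplicit false
set_option linter.style.haveILetI false
set_option linter.unusedSectionVars false
set_option backward.isDefEq.respectTransparency false
set_option backward.isDefEq.respectTransparency.types false

universe u

open CategoryTheory CategoryTheory.Limits AlgebraicGeometry IsLocalRing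

open scoped Groth.Agent.H23.PicMul

namespace Groth.Agent.MdlSurf

open Groth.Agent.H23.PicMul (pullHom cl_eq_iff one_def)

variable {R : Type u} [CommRing R] [IsDomain R] [IsDiscreteValuationRing R]

theorem regular_of_smooth {X : Scheme.{u}} (p : X ⟶ Spec (CommRingCat.of R)) [Smooth p] (x : X) :
    IsRegularLocalRing (X.presheaf.stalk x) := by
  refine (S4991.result p x ⟨⊤, trivial, inferInstance⟩).2 ?_
  let y : PrimeSpectrum R := p.base x
  letI : Algebra R ((Spec (CommRingCat.of R)).presheaf.stalk y) := StructureSheaf.stalkAlgebra R y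
  haveI : IsLocalization.AtPrime ((Spec (CommRingCat.of R)).presheaf.stalk y) y.asIdeal :=
    StructureSheaf.IsLocalization.to_stalk (CommRingCat.of R) y
  haveI : IsRegularLocalRing (Localization.AtPrime y.asIdeal) :=
    IsRegularRing.isRegularLocalRing_localization (R := R) y.asIdeal
  exact IsRegularLocalRing.of_ringEquiv
    (IsLocalization.algEquiv y.asIdeal.primeCompl (Localization.AtPrime y.asIdeal)
      ((Spec (CommRingCat.of R)).presheaf.stalk y)).toRingEquiv

/-- The closed fibre of a smooth surface with connected closed fibre is the support of any vertical curve. -/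
theorem mem_supp_of_smooth {X : Scheme.{u}} [IsIntegral X] (p : X ⟶ Spec (CommRingCat.of R)) [Smooth p]
    [IsProper p] (hdim : topologicalKrullDim X ≤ 2)
    (hconn : _root_.IsPreconnected {x : X | p.base x = closedPoint R})
    (Γ : ArSurf.VertComp R (Over.mk p)) {x : X} (hx : p.base x = closedPoint R) : x ∈ ArSurfBase.supp Γ := by
  have hfib : ∀ {y}, y ∈ ArSurfBase.supp Γ → p.base y = closedPoint R := fun h =>
    ArSurfBase.hom_base_eq_closedPoint Γ h
  let ξ : X := Γ.ι.base (genericPoint Γ.curve.left)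
  have hpos : 0 < topologicalKrullDim Γ.curve.left := by rw [Γ.dim_eq]; exact one_pos
  obtain ⟨a, b, hab, hne⟩ := ArSurfBase.exists_specializes_ne_of_dim_pos hpos
  have hξb : ξ ⤳ Γ.ι.base b :=
    ((genericPoint_spec Γ.curve.left).specializes (Set.mem_univ b)).map Γ.ι.continuous
  have hξne : ξ ≠ Γ.ι.base b := fun h => by
    have hb : genericPoint Γ.curve.left = b := Γ.ι.isClosedEmbedding.injective h
    exact hne ((hab.antisymm (hb ▸ (genericPoint_spec Γ.curve.left).specializes (Set.mem_univ a))).eq)
  let F := p.fiber (closedPoint R)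
  let q := p.fiberToSpecResidueField (closedPoint R)
  haveI : Smooth q := MorphismProperty.pullback_snd _ _ inferInstance
  haveI : IsProper q := MorphismProperty.pullback_snd _ _ inferInstance
  haveI : CompactSpace ↥F := QuasiCompact.compactSpace_of_compactSpace q
  let j := p.fiberι (closedPoint R)
  have hj : Set.range j = {y : X | p.base y = closedPoint R} := by rw [Scheme.Hom.range_fiberι]; rfl
  obtain ⟨ξ₀, hξ₀⟩ : ξ ∈ Set.range j := by rw [hj]; exact hfib ⟨_, rfl⟩
  haveI : PreconnectedSpace ↥F := ⟨by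
    rw [← j.isEmbedding.isInducing.isPreconnected_image, Set.image_univ, hj]
    exact hconn⟩
  haveI : ConnectedSpace ↥F := { toNonempty := ⟨ξ₀⟩ }
  haveI : IsIntegral F := CurveCohLib.isIntegral_of_smooth_connected q
  let γ := j (genericPoint ↥F)
  have hγf : p.base γ = closedPoint R := hj.le ⟨_, rfl⟩
  have hγξ : γ ⤳ ξ := hξ₀ ▸ ((genericPoint_spec ↥F).specializes (Set.mem_univ ξ₀)).map j.continuous
  have hγ : γ = ξ := ArSurfBase.middle_eq_of_chain hdim (genericPoint_specializes γ)
    (ArSurfBase.ne_genericPoint p (by rw [hγf]; exact IsDiscreteValuationRing.not_a_field R)) hγξ hξb hξne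
  obtain ⟨x₀, rfl⟩ : x ∈ Set.range j := by rw [hj]; exact hx
  have h : ξ ⤳ j x₀ := hγ ▸ ((genericPoint_spec ↥F).specializes (Set.mem_univ x₀)).map j.continuous
  exact h.mem_closed Γ.ι.isClosedEmbedding.isClosed_range ⟨_, rfl⟩

/-- A smooth proper model with connected closed fibre has no exceptional vertical curve. -/
theorem not_isExcCurve_of_smooth {X : Scheme.{u}} [IsIntegral X] (p : X ⟶ Spec (CommRingCat.of R)) [Smooth p]
    [IsProper p] (hdim : topologicalKrullDim X = 2)
    (hconn : _root_.IsPreconnected {x : X | p.base x = closedPoint R})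
    (Γ : ArSurf.VertComp R (Over.mk p)) : ¬ Models.IsExcCurve Γ.ι := by
  rintro ⟨hK, k, hk, e, ⟨α⟩⟩
  letI := hk
  haveI : IsIntegral (Over.mk p).left := ‹IsIntegral X›
  haveI : IsProper (Over.mk p).hom := ‹IsProper p›
  haveI : Flat (Over.mk p).hom := (inferInstance : Flat p)
  haveI : IsLocallyNoetherian (Over.mk p).left := LocallyOfFiniteType.isLocallyNoetherian p
  have hreg : ∀ x : (Over.mk p).left, IsRegularLocalRing ((Over.mk p).left.presheaf.stalk x) :=
    fun x => regular_of_smooth p x
  have hm := (ArSurfBase.map_maximalIdeal_genPtOf (X := Over.mk p) hdim hreg Γ).2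
  have heq := ArSurfBase.specialFibreIdeal_eq_prod (X := Over.mk p) hdim hreg (fun _ : Fin 1 => Γ)
    (fun _ _ _ => Subsingleton.elim _ _) (fun x hx => ⟨0, mem_supp_of_smooth p hdim.le hconn Γ hx⟩)
  rw [Fin.prod_univ_one] at heq
  let g : CohB1.ProjSpace 1 k ⟶ X := e.hom ≫ Γ.ι
  have hD : BlowUp.IsEffCartierIdeal (Curv2.idealSheaf R (maximalIdeal R)) := ArSurfBase.isEffCartier_idealSheaf
  obtain ⟨e₁⟩ := ArSurfBase.nonempty_pullback_idealMod p _ hD
    (ArSurfBase.isEffCartier_specialFibreIdeal (X := Over.mk p))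
  obtain ⟨e₂⟩ := ArSurfBase.pullback_trivial_of_range_subset (g ≫ p) (SurfInt.isInvertible_idealMod hD)
    (y := closedPoint R) (by
      rintro _ ⟨c, rfl⟩
      exact ArSurfBase.hom_base_eq_closedPoint Γ ⟨e.hom c, rfl⟩)
  have h0 : PicF.pullCl g (PicF.cl (ClSub.idealMod (Models.specialFibreIdeal R (Over.mk p)))) = 1 := by
    rw [one_def]
    exact cl_eq_iff.2 ⟨(Scheme.Modules.pullback g).mapIso e₁.symm ≪≫
      ((Scheme.Modules.pullbackComp g p).app _) ≪≫ e₂⟩
  have h1 : PicF.pullCl g (PicF.cl (ClSub.idealMod Γ.ι.ker)) = PicF.cl (Twist.twistProjSpace 1 k 1) :=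
    cl_eq_iff.2 ⟨α⟩
  rw [heq, ArSurfBase.cl_idealMod_pow hK, H23.PicMul.pullCl_pow, h1] at h0
  exact ArSurfBase.pow_twist_ne_one k hm.ne' h0

end Groth.Agent.MdlSurf
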