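import Groth.Agent.MdlSurf.Chain
import Groth.Agent.MdlSurf.Connected
import Groth.Agent.SurfInt.Boundary
import Groth.Agent.SurfInt.SecMono
import Groth.Agent.Growth22.Twist

/-!
# Line bundles trivial on the generic fibre are vertical
-/

set_option autoImplicit false
set_option linter.style.haveILetI false
set_option linter.unusedSectionVars false
set_option backward.isDefEq.respectTransparency false
set_option backward.isDefEq.respectTransparency.types false

universe u

open CategoryTheory CategoryTheory.Limits AlgebraicGeometry IsLocalRing TopologicalSpace TensorProduct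
open scoped Groth.Agent.H23.PicMul
open Groth.Agent.CDivEq (stk)

noncomputable section

namespace Groth.Agent.MdlSurf

section General

variable {Y : Scheme.{u}}

theorem cl_idealMod_mul {I J : Y.IdealSheafData} (hI : BlowUp.IsEffCartierIdeal I)
    (hJ : BlowUp.IsEffCartierIdeal J) :
    PicF.cl (ClSub.idealMod (I * J)) = PicF.cl (ClSub.idealMod I) * PicF.cl (ClSub.idealMod J) := by
  rw [← H23.PicMul.cl_tensor]
  exact H23.PicMul.cl_eq_iff.2 (SurfInt.nonempty_idealMod_mul hI hJ)

theorem cl_idealMod_one [IsLocallyNoetherian Y] :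
    PicF.cl (ClSub.idealMod (1 : Y.IdealSheafData)) = 1 := by
  rw [H23.PicMul.one_def]
  refine H23.PicMul.cl_eq_iff.2 ⟨?_⟩
  have hsupp : ((1 : Y.IdealSheafData).support : Set Y) = ∅ := Set.eq_empty_of_forall_notMem fun x hx => by
    obtain ⟨U, hU⟩ := ArSurfBase.exists_affine x
    exact (CDivEq.mem_support_iff (1 : Y.IdealSheafData) U hU).1 hx (ArSurfBase.stk_one U hU)
  have hs := Set.subset_eq_empty (ArSurfBase.support_quotMod_subset (1 : Y.IdealSheafData)) hsupp
  have hz : IsZero (ClSub.quotMod (1 : Y.IdealSheafData)) :=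
    CurveCohLib.isZero_of_subsingleton_stalks fun x => not_not.1 fun hx => (hs.subset hx : x ∈ (∅ : Set Y))
  unfold ClSub.idealMod
  exact kernelIsoOfEq (hz.eq_of_tgt (ClSub.toSubscheme (1 : Y.IdealSheafData)) 0) ≪≫ kernelZeroIsoSource

theorem cl_idealMod_prod [IsLocallyNoetherian Y] {ι : Type*} (I : ι → Y.IdealSheafData)
    (hI : ∀ i, BlowUp.IsEffCartierIdeal (I i)) (a : ι → ℕ) (s : Finset ι) :
    BlowUp.IsEffCartierIdeal (∏ i ∈ s, I i ^ a i) ∧
      PicF.cl (ClSub.idealMod (∏ i ∈ s, I i ^ a i)) = ∏ i ∈ s, PicF.cl (ClSub.idealMod (I i)) ^ a i := by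
  classical
  have hpow : ∀ i (m : ℕ), BlowUp.IsEffCartierIdeal (I i ^ m) ∧
      PicF.cl (ClSub.idealMod (I i ^ m)) = PicF.cl (ClSub.idealMod (I i)) ^ m := fun i m => by
    induction m with
    | zero => exact ⟨by rw [pow_zero]; exact ArSurfBase.isEffCartier_one, by rw [pow_zero, pow_zero, cl_idealMod_one]⟩
    | succ m ih =>
      exact ⟨by rw [pow_succ]; exact ModPairLib.isEffCartier_mul ih.1 (hI i),
        by rw [pow_succ, pow_succ, cl_idealMod_mul ih.1 (hI i), ih.2]⟩
  induction s using Finset.induction_on with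
  | empty =>
    exact ⟨by rw [Finset.prod_empty]; exact ArSurfBase.isEffCartier_one,
      by rw [Finset.prod_empty, Finset.prod_empty, cl_idealMod_one]⟩
  | insert i s hi ih =>
    rw [Finset.prod_insert hi, Finset.prod_insert hi]
    exact ⟨ModPairLib.isEffCartier_mul (hpow i _).1 ih.1, by rw [cl_idealMod_mul (hpow i _).1 ih.1, (hpow i _).2, ih.2]⟩

/-- An ideal whose module is trivial is generated by a global function. -/
theorem exists_isGenBy {D : Y.IdealSheafData} (h : PicF.cl (ClSub.idealMod D) = 1) :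
    ∃ g : Γ(Y, ⊤), IsGenBy g D := by
  rw [H23.PicMul.one_def] at h
  obtain ⟨φ⟩ := H23.PicMul.cl_eq_iff.1 h
  let k₀ : Γ(ClSub.idealMod D, ⊤) := φ.inv.app ⊤ (show Γ(Coh.structureModule Y, ⊤) from (1 : Γ(Y, ⊤)))
  refine ⟨OmegaSh.idealSect D ⊤ k₀, fun V => le_antisymm (fun x hx => ?_) ?_⟩
  · obtain ⟨k, rfl⟩ := OmegaLib.exists_of_mem D V x hx
    let a : Γ(Y, V.1) := φ.hom.app V.1 k
    have hk : k = φ.inv.app V.1 (φ.hom.app V.1 k) := by
      rw [← AddCommGrpCat.comp_apply, ← Scheme.Modules.Hom.comp_app, φ.hom_inv_id]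
      rfl
    have h1 : (show Γ(Coh.structureModule Y, V.1) from a) =
        a • AModX.res (Coh.structureModule Y) (le_top : V.1 ≤ ⊤) (show Γ(Coh.structureModule Y, ⊤) from (1 : Γ(Y, ⊤))) := by
      show a = a * Y.presheaf.map (homOfLE (le_top : V.1 ≤ ⊤)).op 1
      rw [map_one, mul_one]
    rw [hk, show φ.hom.app V.1 k = _ from h1, Scheme.Modules.Hom.app_smul, AModX.app_res, OmegaLib.idealSect_smul]
    refine Ideal.mul_mem_left _ _ ?_
    exact Ideal.subset_span (Set.mem_singleton_iff.2 (OmegaLib.idealSect_map D le_top k₀))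
  · rw [Ideal.span_singleton_le_iff_mem, ← show OmegaSh.idealSect D V.1
      ((ClSub.idealMod D).presheaf.map (homOfLE le_top).op k₀) = _ from OmegaLib.idealSect_map D le_top k₀]
    exact OmegaLib.idealSect_mem D V _

theorem stk_of_isGenBy {g : Γ(Y, ⊤)} {D : Y.IdealSheafData} (h : IsGenBy g D) (V : Y.affineOpens) {x : Y}
    (hx : x ∈ V.1) : stk D V hx = Ideal.span {Y.presheaf.germ ⊤ x trivial g} := by
  rw [stk, h V, Ideal.map_span, Set.image_singleton, ← CommRingCat.comp_apply, TopCat.Presheaf.germ_res]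

theorem pow_maximalIdeal_injective {A : Type u} [CommRing A] [IsDomain A] [IsDiscreteValuationRing A] {a b : ℕ}
    (h : maximalIdeal A ^ a = maximalIdeal A ^ b) : a = b := by
  have := congrArg (fun I : Ideal A => Module.length A (A ⧸ I)) h
  simpa [IsDiscreteValuationRing.length_quotient_pow_maximalIdeal] using this

end General

variable {R : Type u} [CommRing R] [IsDomain R] [IsDiscreteValuationRing R]
  {C X : Scheme.{u}} {f : C ⟶ Spec (CommRingCat.of (FractionRing R))} {p : X ⟶ Spec (CommRingCat.of R)}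
  {n : ℕ} {Γs : Fin n → ArSurf.VertComp R (Over.mk p)}
  (hC : Curve.IsSmoothProperCurve (FractionRing R) C f) (hX : Models.IsRegularProperModel R X p C f)
  (hΓ : Models.IsComponentList R (Over.mk p) Γs)

include hC hX hΓ

theorem cl_idealMod_divIdeal (a : Fin n → ℕ) :
    PicF.cl (ClSub.idealMod (divIdeal Γs a)) = ∏ i, PicF.cl (ClSub.idealMod (Γs i).ι.ker) ^ a i := by
  obtain ⟨h1, h2, h3, h4, hdim, hreg⟩ := setup hC hX hΓ
  exact (cl_idealMod_prod (fun i => (Γs i).ι.ker) (fun i => ArSurfBase.isEffCartier_ker (Γs i) hdim hreg) a Finset.univ).2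

theorem cl_mul_inverse {L : Fin n → X.Modules} (hL : ∀ i, ClSub.IsInverseOf (L i) (ClSub.idealMod (Γs i).ι.ker))
    (a : Fin n → ℕ) : PicF.cl (FGA.multiTwist L a) * PicF.cl (ClSub.idealMod (divIdeal Γs a) : X.Modules) = 1 := by
  rw [cl_idealMod_divIdeal hC hX hΓ, Growth22.cl_multiTwist, ← Finset.prod_mul_distrib]
  refine Finset.prod_eq_one fun i _ => ?_
  rw [← mul_pow, Growth22.cl_mul_eq_one (hL i), one_pow]

variable (hH0 : IsIso f.appTop)
include hH0

/-- Only multiples of the closed fibre are principal. -/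
theorem eq_mul_mult_of_trivial (c : Fin n → ℕ)
    (h : PicF.cl (ClSub.idealMod (divIdeal Γs c)) = 1) :
    ∃ k : ℕ, ∀ i, c i = k * Models.mult R (Over.mk p) (Γs i) := by
  obtain ⟨h1, h2, h3, h4, hdim, hreg⟩ := setup hC hX hΓ
  haveI : IsIntegral X := h2
  haveI : IsProper p := h1
  obtain ⟨g, hg⟩ := exists_isGenBy h
  obtain ⟨t, rfl⟩ := (bijective_appTop hC hH0 hX.1).2 g
  obtain ⟨r, rfl⟩ : ∃ r, (Scheme.ΓSpecIso (CommRingCat.of R)).inv r = t :=
    ⟨(Scheme.ΓSpecIso (CommRingCat.of R)).hom t, by rw [← CommRingCat.comp_apply, Iso.hom_inv_id]; rfl⟩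
  have hgen : ∀ i, (maximalIdeal ((Over.mk p).left.presheaf.stalk (Models.genPtOf R (Over.mk p) (Γs i)))) ^ c i =
      Ideal.span {Models.stalkHom R (Over.mk p) (Models.genPtOf R (Over.mk p) (Γs i)) r} := fun i => by
    obtain ⟨W, hW⟩ := ArSurfBase.exists_affine (Models.genPtOf R (Over.mk p) (Γs i))
    rw [← ArSurfBase.stk_prod_genPtOf hdim hreg Γs hΓ.1 c i W hW]
    exact stk_of_isGenBy hg W hW
  have hdvr : ∀ i, IsDiscreteValuationRing ((Over.mk p).left.presheaf.stalk (Models.genPtOf R (Over.mk p) (Γs i))) :=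
    fun i => by
      haveI := hreg (Models.genPtOf R (Over.mk p) (Γs i))
      haveI := (RegUFD.ufd ((Over.mk p).left.presheaf.stalk (Models.genPtOf R (Over.mk p) (Γs i)))).1
      exact ArSurfBase.isDVR_stalk hreg (ArSurfBase.ringKrullDim_stalk_genPtOf (Γs i) hdim)
  have hr : r ≠ 0 := fun h0 => by
    let i : Fin n := ⟨0, n_pos hC hX hΓ⟩
    haveI := (RegUFD.ufd ((Over.mk p).left.presheaf.stalk (Models.genPtOf R (Over.mk p) (Γs i)))).1
    haveI := hdvr i
    have h5 := hgen i
    rw [h0, map_zero, Ideal.span_singleton_zero] at h5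
    exact IsDiscreteValuationRing.not_a_field _ (eq_zero_of_pow_eq_zero h5)
  obtain ⟨π, hπ⟩ := IsDiscreteValuationRing.exists_irreducible R
  obtain ⟨k, v, rfl⟩ := IsDiscreteValuationRing.eq_unit_mul_pow_irreducible hr hπ
  refine ⟨k, fun i => ?_⟩
  haveI := (RegUFD.ufd ((Over.mk p).left.presheaf.stalk (Models.genPtOf R (Over.mk p) (Γs i)))).1
  haveI := hdvr i
  have h5 := hgen i
  rw [map_mul, map_pow, Ideal.span_singleton_mul_left_unit (v.isUnit.map _), ← Ideal.span_singleton_pow,
    show Ideal.span {Models.stalkHom R (Over.mk p) (Models.genPtOf R (Over.mk p) (Γs i)) π} =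
      (maximalIdeal R).map (Models.stalkHom R (Over.mk p) (Models.genPtOf R (Over.mk p) (Γs i))) by
        rw [hπ.maximalIdeal_eq, Ideal.map_span, Set.image_singleton],
    (ArSurfBase.map_maximalIdeal_genPtOf hdim hreg (Γs i)).1, ← pow_mul, mul_comm] at h5
  exact pow_maximalIdeal_injective h5

omit hH0 in
theorem isUnit_cl_idealMod_divIdeal (a : Fin n → ℕ) :
    IsUnit (PicF.cl (ClSub.idealMod (divIdeal Γs a) : X.Modules)) := by
  obtain ⟨L, hL⟩ := exists_inverses hC hX hΓ
  exact IsUnit.of_mul_eq_one_right (PicF.cl (FGA.multiTwist L a)) (cl_mul_inverse hC hX hΓ hL a)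

omit hH0 in
/-- The closed fibre is principal. -/
theorem cl_idealMod_mult :
    PicF.cl (ClSub.idealMod (divIdeal Γs fun i => Models.mult R (Over.mk p) (Γs i)) : X.Modules) = 1 := by
  obtain ⟨h1, h2, h3, h4, hdim, hreg⟩ := setup hC hX hΓ
  haveI : Flat p := h3
  obtain ⟨π, hπ⟩ := IsDiscreteValuationRing.exists_irreducible R
  have hI := isGenBy_specialFibreIdeal p hπ
  haveI := isIso_mulLift hI (map_toGlobal_mem_nonZeroDivisors p hπ.ne_zero)
  rw [show divIdeal Γs (fun i => Models.mult R (Over.mk p) (Γs i)) = Models.specialFibreIdeal R (Over.mk p) from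
    (ArSurfBase.specialFibreIdeal_eq_prod hdim hreg Γs hΓ.1
      (fun x hx => ArSurfBase.cover_of_isComponentList hΓ hx)).symm, H23.PicMul.one_def]
  exact H23.PicMul.cl_eq_iff.2 ⟨(asIso (mulLift hI)).symm⟩

theorem cl_multiTwist_eq_iff {L : Fin n → X.Modules}
    (hL : ∀ i, ClSub.IsInverseOf (L i) (ClSub.idealMod (Γs i).ι.ker)) (a b : Fin n → ℕ) :
    PicF.cl (FGA.multiTwist L a) = PicF.cl (FGA.multiTwist L b) ↔
      ∃ c : ℤ, ∀ i, (a i : ℤ) - (b i : ℤ) = c * (Models.mult R (Over.mk p) (Γs i) : ℤ) := by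
  obtain ⟨h1, h2, h3, h4, hdim, hreg⟩ := setup hC hX hΓ
  let m : Fin n → ℕ := fun i => Models.mult R (Over.mk p) (Γs i)
  let u : (Fin n → ℕ) → PicF.Cl X := fun a => PicF.cl (ClSub.idealMod (divIdeal Γs a) : X.Modules)
  let l : (Fin n → ℕ) → PicF.Cl X := fun a => PicF.cl (FGA.multiTwist L a)
  have hlu : ∀ a, l a * u a = 1 := cl_mul_inverse hC hX hΓ hL
  have hu : ∀ a, u a = ∏ i, PicF.cl (ClSub.idealMod (Γs i).ι.ker : X.Modules) ^ a i := cl_idealMod_divIdeal hC hX hΓ
  have huadd : ∀ a b, u (a + b) = u a * u b := fun a b => by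
    simp only [hu, Pi.add_apply, pow_add, Finset.prod_mul_distrib]
  have hlu' : ∀ a b, l a = l b ↔ u a = u b := fun a b => by
    constructor
    · intro h
      have h1 := congrArg (fun z => z * (u a * u b)) h
      simp only [← mul_assoc, hlu a, one_mul] at h1
      rw [mul_comm (l b) (u a), mul_assoc, hlu b, mul_one] at h1
      exact h1.symm
    · intro h
      have h1 := congrArg (fun z => z * (l a * l b)) h
      simp only [← mul_assoc, mul_comm (u a) (l a), hlu a, one_mul] at h1
      rw [mul_comm (u b) (l a), mul_assoc, mul_comm (u b) (l b), hlu b, mul_one] at h1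
      exact h1.symm
  rw [show PicF.cl (FGA.multiTwist L a) = l a from rfl, show PicF.cl (FGA.multiTwist L b) = l b from rfl, hlu']
  have hum : ∀ k : ℕ, u (k • m) = 1 := fun k => by
    induction k with
    | zero => rw [zero_smul, hu]; exact Finset.prod_eq_one fun i _ => pow_zero _
    | succ k ih => rw [succ_nsmul, huadd, ih, one_mul]; exact cl_idealMod_mult hC hX hΓ
  constructor
  · intro h
    -- the difference is proportional to the multiplicities
    let A : Fin n → Fin n → ℤ := fun i j => ArSurf.inter R (Over.mk p) (ClSub.idealMod (Γs j).ι.ker) (Γs i)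
    have hK := fun j => ArSurfBase.isEffCartier_ker (Γs j) hdim hreg
    have hAd : ∀ (c : Fin n → ℕ) i, ArSurf.inter R (Over.mk p) (ClSub.idealMod (divIdeal Γs c)) (Γs i) =
        ∑ j, (c j : ℤ) * A i j := fun c i => ArSurfBase.inter_idealMod_prod _ _ _ hK c
    let δ : Fin n → ℤ := fun i => (a i : ℤ) - b i
    have hAz : ∀ i, ∑ j, δ j * ArSurf.inter R (Over.mk p) (L j) (Γs i) = 0 := fun i => by
      obtain ⟨e⟩ := H23.PicMul.cl_eq_iff.1 h
      have h5 := ArSurfBase.inter_congr (Γs i) e (R := R)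
      rw [hAd, hAd] at h5
      simp only [δ, sub_mul, Finset.sum_sub_distrib, sub_eq_zero]
      have hneg : ∀ (c : Fin n → ℕ), ∑ j, (c j : ℤ) * ArSurf.inter R (Over.mk p) (L j) (Γs i) =
          -∑ j, (c j : ℤ) * A i j := fun c => by
        rw [← Finset.sum_neg_distrib]
        exact Finset.sum_congr rfl fun j _ => by
          rw [ArSurfBase.inter_eq_neg (Γs i) (SurfInt.isInvertible_idealMod (hK j)) (hL j), mul_neg]
      rw [hneg, hneg, h5]
    have hQ : ∑ i, ∑ j, δ i * δ j * ArSurf.inter R (Over.mk p) (L j) (Γs i) = 0 :=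
      Finset.sum_eq_zero fun i _ => by
        simp only [mul_assoc]
        rw [← Finset.mul_sum, hAz i, mul_zero]
    have hprop := ((ArSurfBase.form_nonpos hdim hreg Γs hΓ.1 L hL δ).2 hQ).2
    let i₀ : Fin n := ⟨0, n_pos hC hX hΓ⟩
    have hmp := mult_pos hC hX hΓ
    have hall : ∀ i, δ i * (m i₀ : ℤ) = δ i₀ * m i :=
      connected_induction hC hH0 hX hΓ (fun i => δ i * (m i₀ : ℤ) = δ i₀ * m i) (i₀ := i₀) rfl
        fun i j hi hd => by
          have h6 := hprop i j hd
          refine mul_left_cancel₀ (show (m i : ℤ) ≠ 0 by exact_mod_cast (hmp i).ne') ?_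
          linear_combination (m j : ℤ) * hi - (m i₀ : ℤ) * h6
    -- so it has constant sign
    have main : ∀ a b : Fin n → ℕ, u a = u b → (∀ i, b i ≤ a i) →
        ∃ k : ℕ, ∀ i, a i = b i + k * m i := fun a b hab hle => by
      have h7 : u (fun i => a i - b i) * u b = 1 * u b := by
        rw [← huadd, one_mul, ← hab]
        congr 1
        exact funext fun i => Nat.sub_add_cancel (hle i)
      obtain ⟨k, hk⟩ := eq_mul_mult_of_trivial hC hX hΓ hH0 _
        ((isUnit_cl_idealMod_divIdeal hC hX hΓ b).mul_right_cancel h7)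
      exact ⟨k, fun i => by have := hk i; have := hle i; show a i = b i + k * Models.mult R (Over.mk p) (Γs i); omega⟩
    have hm0 : (0 : ℤ) < m i₀ := by exact_mod_cast hmp i₀
    rcases le_total 0 (δ i₀) with hs | hs
    · obtain ⟨k, hk⟩ := main a b h fun i => by
        have h8 := hall i
        have h9 : 0 ≤ δ i * (m i₀ : ℤ) := h8 ▸ mul_nonneg hs (Int.natCast_nonneg _)
        have := nonneg_of_mul_nonneg_left h9 hm0
        simp only [δ] at this; omega
      exact ⟨k, fun i => by rw [hk i]; push_cast; simp only [m]; ring⟩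
    · obtain ⟨k, hk⟩ := main b a h.symm fun i => by
        have h8 := hall i
        have h9 : δ i * (m i₀ : ℤ) ≤ 0 := h8 ▸ mul_nonpos_of_nonpos_of_nonneg hs (Int.natCast_nonneg _)
        have := nonpos_of_mul_nonpos_left h9 hm0
        simp only [δ] at this; omega
      exact ⟨-(k : ℤ), fun i => by rw [hk i]; push_cast; simp only [m]; ring⟩
  · rintro ⟨c, hc⟩
    have h1' : a + (-c).toNat • m = b + c.toNat • m := funext fun i => by
      have h8 := hc i
      have h9 : (c.toNat : ℤ) - ((-c).toNat : ℤ) = c := Int.toNat_sub_toNat_neg c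
      have h10 : (a i : ℤ) + ((-c).toNat : ℤ) * m i = (b i : ℤ) + (c.toNat : ℤ) * m i := by
        linear_combination h8 - (m i : ℤ) * h9
      simp only [Pi.add_apply, Pi.smul_apply, smul_eq_mul]
      exact_mod_cast h10
    have h2' := congrArg u h1'
    rwa [huadd, huadd, hum, hum, mul_one, mul_one] at h2'

/-- A line bundle trivial on the generic fibre is a combination of the components. -/
theorem exists_cl_eq_multiTwist {L : Fin n → X.Modules}
    (hL : ∀ i, ClSub.IsInverseOf (L i) (ClSub.idealMod (Γs i).ι.ker))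
    {g : C ⟶ X} (hg : IsPullback g f p (Spec.map (CommRingCat.ofHom (algebraMap R (FractionRing R)))))
    {M : X.Modules} (hM : PicF.IsInvertible M)
    (htriv : Nonempty ((Scheme.Modules.pullback g).obj M ≅ Coh.structureModule C)) :
    ∃ c : Fin n → ℕ, PicF.cl M = PicF.cl (FGA.multiTwist L c) := by
  obtain ⟨h1, h2, h3, h4, hdim, hreg⟩ := setup hC hX hΓ
  haveI : IsIntegral X := h2
  haveI : IsProper p := h1
  haveI : IsIntegral C := hC.2.2.1
  haveI : CompactSpace X := QuasiCompact.compactSpace_of_compactSpace p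
  haveI : Flat p := h3
  haveI : IsLocallyNoetherian X := h4
  letI : X.Over (Spec (CommRingCat.of R)) := ⟨p⟩
  letI : C.Over (Spec (CommRingCat.of (FractionRing R))) := ⟨f⟩
  haveI : Nontrivial (Coh.HH X M 0) := by
    by_contra hn
    rw [not_nontrivial_iff_subsingleton] at hn
    haveI := hn
    haveI : Subsingleton (FractionRing R ⊗[R] Coh.HH X M 0) := inferInstance
    obtain ⟨e⟩ := QCoh.HH_flatBaseChange (pA := p) (pB := f) (φ := g) (A := R) (B := FractionRing R) hg
      (AmpleVan.isCoh_invertible hM).1 0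
    haveI : Subsingleton (Coh.HH C ((Scheme.Modules.pullback g).obj M) 0) := e.symm.toEquiv.subsingleton
    haveI : Subsingleton (Coh.HH C (Coh.structureModule C) 0) :=
      QCoh.subsingleton_HH_of_iso htriv.some 0 ‹Subsingleton (Coh.HH C ((Scheme.Modules.pullback g).obj M) 0)›
    haveI : Subsingleton Γ(C, ⊤) :=
      (Sheaf.H.equiv₀ (Coh.toAb (Coh.structureModule C)) isTerminalTop).symm.toEquiv.subsingleton
    haveI : Nonempty (⊤ : C.Opens) := ⟨⟨genericPoint C, trivial⟩⟩
    exact zero_ne_one (α := Γ(C, ⊤)) (Subsingleton.elim _ _)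
  obtain ⟨s, hs⟩ := SurfInt.exists_mono_of_nontrivial_H0 hM
  have hgen : genericPoint X ∈ CohB1.genLocus M s := by
    obtain ⟨U, hxU, e, he⟩ := InvX.exists_frame hM (genericPoint X)
    obtain ⟨c, hc⟩ := he.exists_coord le_rfl (AModX.res M (le_top : U ≤ ⊤) (InvX.one s))
    rw [AModX.res_self] at hc
    refine ((InvX.genLocus_inf s he hc).ge ?_).1
    haveI : Nonempty U := ⟨⟨_, hxU⟩⟩
    rw [Scheme.mem_basicOpen _ _ _ hxU]
    refine isUnit_iff_ne_zero.2 fun h0 => ?_
    have hc0 : c = 0 := germ_injective_of_isIntegral X (genericPoint X) hxU (h0.trans (map_zero _).symm)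
    rw [hc0, zero_smul] at hc
    have h5 : s.app U (show Γ(Coh.structureModule X, U) from (1 : Γ(X, U))) = 0 :=
      (InvX.app_eq_smul s (1 : Γ(X, U))).trans (by rw [one_smul]; exact hc)
    have h6 := QCoh.app_injective s U (h5.trans (map_zero (s.app U).hom).symm)
    exact one_ne_zero (α := Γ(X, U)) h6
  obtain ⟨I, hI, hsupp, ⟨eI⟩⟩ := SurfInt.exists_effCartier_of_section hM s hgen
  -- `I` does not meet the generic fibre
  have hrange : ∀ y : X, (p y).asIdeal = ⊥ → y ∈ Set.range g := fun y hy0 => by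
    have h11 : Set.range g = p ⁻¹' Set.range (Spec.map (CommRingCat.ofHom (algebraMap R (FractionRing R)))) := by
      rw [← Scheme.Pullback.range_fst, ← hg.isoPullback_hom_fst]
      simp only [Scheme.Hom.comp_base, TopCat.coe_comp]
      exact hg.isoPullback.hom.homeomorph.surjective.range_comp _
    rw [h11]
    refine ⟨⟨⊥, Ideal.isPrime_bot⟩, PrimeSpectrum.ext ?_⟩
    show Ideal.comap (algebraMap R (FractionRing R)) ⊥ = _
    rw [← RingHom.ker_eq_comap_bot, (RingHom.injective_iff_ker_eq_bot _).1 (IsFractionRing.injective R (FractionRing R))]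
    exact hy0.symm
  have hgη : genericPoint X = g (genericPoint C) := by
    have hmem : genericPoint X ∈ Set.range g := hrange _ (ArSurfBase.asIdeal_eq_bot_genericPoint p)
    obtain ⟨c, hc⟩ := hmem
    have h7 : g (genericPoint C) ⤳ genericPoint X :=
      hc ▸ ((genericPoint_spec C).specializes (Set.mem_univ c)).map g.continuous
    exact ((genericPoint_spec X).specializes (Set.mem_univ _)).antisymm h7 |>.eq
  have hηI : g (genericPoint C) ∉ I.support := by
    rw [← hgη, ← SetLike.mem_coe, hsupp]; exact fun h => h hgen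
  have hJ := ArSurfBase.isEffCartier_comap_of_not_mem g hI hηI
  have hgI : ∀ c : C, g c ∉ I.support := by
    obtain ⟨e1⟩ := ArSurfBase.nonempty_pullback_idealMod g I hI hJ
    obtain ⟨e2⟩ := H23.PicMul.pull g M (ClSub.idealMod I)
    obtain ⟨e3⟩ := PicClLib.nonempty_pullback_structureModule g
    have hJ1 : PicF.cl (ClSub.idealMod (I.comap g)) = 1 := by
      have h8 : PicF.cl ((Scheme.Modules.pullback g).obj M) * PicF.cl ((Scheme.Modules.pullback g).obj (ClSub.idealMod I)) = 1 := by
        rw [← H23.PicMul.cl_tensor, H23.PicMul.one_def]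
        exact H23.PicMul.cl_eq_iff.2 ⟨e2.symm ≪≫ (Scheme.Modules.pullback g).mapIso eI ≪≫ e3⟩
      rw [show PicF.cl ((Scheme.Modules.pullback g).obj M) = 1 by
        rw [H23.PicMul.one_def]; exact H23.PicMul.cl_eq_iff.2 htriv, one_mul] at h8
      rw [← h8]
      exact H23.PicMul.cl_eq_iff.2 ⟨e1.symm⟩
    obtain ⟨φ, hφ⟩ := exists_isGenBy hJ1
    obtain ⟨t, rfl⟩ := (ConcreteCategory.bijective_of_isIso f.appTop).2 φ
    intro c hc
    have hmem : c ∈ ((I.comap g).support : Set C) := by rw [Scheme.IdealSheafData.support_comap]; exact hc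
    obtain ⟨W, hW⟩ := ArSurfBase.exists_affine c
    haveI : Nonempty W.1 := ⟨⟨c, hW⟩⟩
    refine (CDivEq.mem_support_iff _ W hW).1 hmem ?_
    rw [stk_of_isGenBy hφ W hW, Ideal.span_singleton_eq_top]
    refine IsUnit.map _ (IsUnit.map _ ?_)
    obtain ⟨r, rfl⟩ := (ConcreteCategory.bijective_of_isIso (Scheme.ΓSpecIso (CommRingCat.of (FractionRing R))).inv).2 t
    refine IsUnit.map _ (Ne.isUnit fun h0 => ?_)
    rw [h0, map_zero, map_zero] at hφ
    have h9 : (genericPoint C) ∈ ((I.comap g).support : Set C) := by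
      obtain ⟨V, hV⟩ := ArSurfBase.exists_affine (genericPoint C)
      refine (CDivEq.mem_support_iff _ V hV).2 ?_
      rw [stk_of_isGenBy hφ V hV, map_zero, Ideal.span_singleton_zero]
      exact bot_ne_top
    rw [Scheme.IdealSheafData.support_comap] at h9
    exact hηI h9
  -- so `I` is vertical
  let I' : (Over.mk p).left.IdealSheafData := I
  have hdvr : ∀ i, IsDiscreteValuationRing ((Over.mk p).left.presheaf.stalk (Models.genPtOf R (Over.mk p) (Γs i))) :=
    fun i => by
      haveI := hreg (Models.genPtOf R (Over.mk p) (Γs i))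
      haveI := (RegUFD.ufd ((Over.mk p).left.presheaf.stalk (Models.genPtOf R (Over.mk p) (Γs i)))).1
      exact ArSurfBase.isDVR_stalk hreg (ArSurfBase.ringKrullDim_stalk_genPtOf (Γs i) hdim)
  have hex : ∀ i, ∃ k : ℕ, ∀ (W : (Over.mk p).left.affineOpens) (hW : Models.genPtOf R (Over.mk p) (Γs i) ∈ W.1),
      stk (X := (Over.mk p).left) I' W hW = maximalIdeal _ ^ k := fun i => by
    haveI := (RegUFD.ufd ((Over.mk p).left.presheaf.stalk (Models.genPtOf R (Over.mk p) (Γs i)))).1
    haveI := hdvr i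
    obtain ⟨W₀, hW₀⟩ := ArSurfBase.exists_affine (Models.genPtOf R (Over.mk p) (Γs i))
    obtain ⟨a, ha, hIa⟩ := CDivEq.exists_gen (X := (Over.mk p).left) I' hI W₀ hW₀
    obtain ⟨ϖ, hϖ⟩ := IsDiscreteValuationRing.exists_irreducible
      ((Over.mk p).left.presheaf.stalk (Models.genPtOf R (Over.mk p) (Γs i)))
    obtain ⟨k, hk⟩ := IsDiscreteValuationRing.ideal_eq_span_pow_irreducible
      (s := stk (X := (Over.mk p).left) I' W₀ hW₀) (by
        rw [hIa, Ne, Ideal.span_singleton_eq_bot]
        exact nonZeroDivisors.ne_zero ha) hϖ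
    refine ⟨k, fun W hW => ?_⟩
    rw [CDivEq.stk_congr _ W W₀ hW hW₀, hk, hϖ.maximalIdeal_eq, Ideal.span_singleton_pow]
  choose c hc using hex
  have hIc : I' = divIdeal Γs c := by
    refine ArSurfBase.eq_of_stk_codim_one hreg hI (ArSurfBase.isEffCartier_prod hdim hreg _ _ _) fun y W hy hd => ?_
    by_cases h : ∃ i, y ∈ ArSurfBase.supp (Γs i)
    · obtain ⟨i, hi⟩ := h
      obtain rfl := ArSurfBase.eq_genPtOf_of_mem hdim hi hd
      rw [hc i W hy, divIdeal, ArSurfBase.stk_prod_genPtOf hdim hreg Γs hΓ.1]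
    · push Not at h
      rw [divIdeal, ArSurfBase.stk_prod, Finset.prod_eq_one fun i _ => by
        rw [ArSurfBase.stk_pow, ArSurfBase.stk_eq_top_of_notMem _ _ _ (by
          rw [← SetLike.mem_coe, ArSurfBase.support_ker]
          exact h i), Ideal.top_pow, Ideal.one_eq_top], Ideal.one_eq_top]
      refine ArSurfBase.stk_eq_top_of_notMem _ _ _ fun hyI => ?_
      by_cases hy0 : (p y).asIdeal = ⊥
      · obtain ⟨z, hz⟩ : y ∈ Set.range g := hrange y hy0
        exact hgI z (hz ▸ hyI)
      · obtain ⟨i, hi⟩ := ArSurfBase.cover_of_isComponentList hΓ (x := y)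
          (PrimeSpectrum.ext (IsLocalRing.eq_maximalIdeal ((p y).isPrime.isMaximal hy0)))
        exact h i hi
  refine ⟨c, ?_⟩
  have h10 : PicF.cl M * PicF.cl (ClSub.idealMod (divIdeal Γs c) : X.Modules) =
      PicF.cl (FGA.multiTwist L c) * PicF.cl (ClSub.idealMod (divIdeal Γs c) : X.Modules) := by
    rw [cl_mul_inverse hC hX hΓ hL c, ← hIc, ← H23.PicMul.cl_tensor, H23.PicMul.one_def]
    exact H23.PicMul.cl_eq_iff.2 ⟨eI⟩
  exact (isUnit_cl_idealMod_divIdeal hC hX hΓ c).mul_right_cancel h10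

end Groth.Agent.MdlSurf
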